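import Cfsg.Prelude.Def_CaseTheorems
import Cfsg.Agent.Lib.StructC.AltEightOrders
import Cfsg.Agent.Lib.Solvable.PCore
import Cfsg.Agent.Lib.Solvable.MinNormal
import Cfsg.Agent.Lib.Transfer.SimpleCount

/-!
Nonsolvable subgroups of `A₈` with a nontrivial normal subgroup of odd order.
-/

set_option autoImplicit false
set_option linter.style.haveILetI false

namespace CfsgLib.SRank

open Subgroup
open CfsgLib.StructC.AltEight
open scoped Nat

universe u

variable {H : Type u} [Group H] [Finite H]

/-- A minimal normal subgroup of odd order in a subgroup of `A₈` is solvable. -/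
theorem solvable_minimal_odd (phi : H →* alternatingGroup (Fin 8)) (hph : Function.Injective phi)
    (N : Subgroup H) [N.Normal] (hne : N ≠ ⊥)
    (hmin : ∀ K : Subgroup H, K.Normal → K ≤ N → K = ⊥ ∨ K = N) (hodd : Odd (Nat.card N)) :
    Group.IsSolvable N := by
  classical
  by_contra hns
  haveI : Nontrivial N := N.nontrivial_iff_ne_bot.2 hne
  have hsub : ∀ M : Subgroup N, M.Normal → M ≠ ⊥ → ¬ Group.IsSolvable M := by
    intro M hM hMne hMs
    haveI := hM
    haveI := hMs
    obtain ⟨K, hKn, hKne, hKle, hKmin⟩ := Solvable.exists_minimal_normal_le hM hMne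
    haveI := hKn
    haveI : Group.IsSolvable K := solvable_of_solvable_injective (Subgroup.inclusion_injective hKle)
    obtain ⟨p, hp, hpK, -, -⟩ := Solvable.exists_isPGroup_of_minimal_normal hKne hKmin
    haveI := Solvable.pCore_characteristic p N
    have hne' : (Cfsg.pCore p N).map N.subtype ≠ ⊥ := by
      rw [ne_eq, map_eq_bot_iff_of_injective _ N.subtype_injective]
      exact fun h => hKne (le_bot_iff.1 (h ▸ Solvable.le_pCore hKn hpK))
    haveI : Fact p.Prime := ⟨hp⟩
    have heq := (hmin _ inferInstance (map_subtype_le _)).resolve_left hne'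
    haveI := ((Solvable.pCore_isPGroup (G := N) p).map N.subtype).isNilpotent
    have : Group.IsSolvable ↥((Cfsg.pCore p N).map N.subtype) := inferInstance
    rw [heq] at this
    exact hns this
  let f : N →* Equiv.Perm (Fin 8) := (alternatingGroup (Fin 8)).subtype.comp (phi.comp N.subtype)
  have hf : Function.Injective f := Subtype.val_injective.comp (hph.comp N.subtype_injective)
  obtain ⟨T, n, r, hTn, hTs, hTc, -, hn5, hn8, hr, htr, -⟩ := exists_socle hf hsub
  haveI := hTs
  have hTodd : Odd (Nat.card T) := hodd.of_dvd_nat (card_subgroup_dvd_card T)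
  let rT : T →* Equiv.Perm (Fin n) := r.comp T.subtype
  have hrT : Function.Injective rT := hr.comp T.subtype_injective
  let phT : T →* alternatingGroup (Fin 8) := (phi.comp N.subtype).comp T.subtype
  have hphT : Function.Injective phT := (hph.comp N.subtype_injective).comp T.subtype_injective
  haveI : Nontrivial (Fin n) := Fin.nontrivial_iff_two_le.2 (by omega)
  let sT : T →* alternatingGroup (Fin n) := rT.codRestrict _ fun t =>
    Equiv.Perm.mem_alternatingGroup.2 (Transfer.sign_eq_one_of_simple hTc rT t)
  have hsT : Function.Injective sT := fun a b h => hrT (congrArg Subtype.val h)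
  have hdA : Nat.card T ∣ n ! / 2 := by
    have := Subgroup.card_dvd_of_injective sT hsT
    rwa [nat_card_alternatingGroup, Nat.card_fin] at this
  have hndvd : n ∣ Nat.card T := by
    letI : MulAction T (Fin n) := MulAction.compHom (Fin n) rT
    haveI : MulAction.IsPretransitive T (Fin n) := ⟨fun a b => by
      obtain ⟨t, ht, h⟩ := htr a b; exact ⟨⟨t, ht⟩, h⟩⟩
    have := index_dvd_card (MulAction.stabilizer T (⟨0, by omega⟩ : Fin n))
    rwa [MulAction.index_stabilizer_of_transitive, Nat.card_fin] at this
  have hnodd := hTodd.of_dvd_nat hndvd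
  interval_cases n
  · have hd : Nat.card T ∣ 60 := by simpa [Nat.factorial] using hdA
    rw [card_eq_sixty hTc (hd.trans (by norm_num)) (Nat.le_of_dvd (by norm_num) hd)] at hTodd
    exact absurd hTodd (by decide)
  · exact absurd hnodd (by decide)
  · have hd : Nat.card T ∣ 2520 := by simpa [Nat.factorial] using hdA
    have h315 : Nat.card T ∣ 315 :=
      ((Nat.coprime_two_right.2 hTodd).pow_right 3).dvd_of_dvd_mul_left
        (show Nat.card T ∣ 2 ^ 3 * 315 from hd)
    rcases card_of_deg_seven hTc phT hphT hndvd hd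
        (fun _ => (Nat.le_of_dvd (by norm_num) h315).trans (by norm_num)) with h | h <;>
      rw [h] at hTodd <;> exact absurd hTodd (by decide)
  · exact absurd hnodd (by decide)

/-- Automorphisms of an abelian group with at most nine elements, none an involution, form a
solvable group. -/
theorem solvable_mulAut {N : Type u} [Group N] [Finite N] (hc : ∀ a b : N, a * b = b * a)
    (hodd : Odd (Nat.card N)) (h9 : Nat.card N ≤ 9) : Group.IsSolvable (MulAut N) := by
  classical
  let L := {C : Subgroup N // ∃ x : N, x ≠ 1 ∧ C = zpowers x}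
  have hL : Nat.card L ≤ 4 := by
    have hpick : ∀ C : L, ∃ x : N, x ≠ 1 ∧ C.1 = zpowers x := fun C => C.2
    choose pick hp1 hp2 using hpick
    let phi : L × Bool → {x : N // x ≠ 1} := fun p =>
      ⟨if p.2 then pick p.1 else (pick p.1)⁻¹, by
        split_ifs
        · exact hp1 _
        · exact inv_ne_one.2 (hp1 _)⟩
    have hph : Function.Injective phi := by
      rintro ⟨C, i⟩ ⟨D, j⟩ h
      have h' : (if i then pick C else (pick C)⁻¹) = if j then pick D else (pick D)⁻¹ :=
        congrArg Subtype.val h
      obtain rfl : C = D := by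
        refine Subtype.ext ?_
        rw [hp2 C, hp2 D]
        cases i <;> cases j <;> simp only [Bool.false_eq_true, if_false, if_true] at h'
        · rw [inv_injective h']
        · rw [← h', zpowers_inv]
        · rw [h', zpowers_inv]
        · rw [h']
      have hne : pick C ≠ (pick C)⁻¹ := by
        intro e
        have h2 : pick C ^ 2 = 1 := by rw [pow_two]; exact mul_eq_one_iff_eq_inv.2 e
        have h1 := Nat.eq_one_of_dvd_coprimes (Nat.coprime_two_right.2 hodd) (orderOf_dvd_natCard _)
          (orderOf_dvd_of_pow_eq_one h2)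
        exact hp1 C (orderOf_eq_one_iff.1 h1)
      cases i <;> cases j <;> simp only [Bool.false_eq_true, if_false, if_true] at h' <;>
        first | rfl | exact absurd h' hne | exact absurd h'.symm hne
    have h := Nat.card_le_card_of_injective phi hph
    haveI := Fintype.ofFinite N
    rw [Nat.card_prod, Nat.card_eq_fintype_card (α := Bool), Fintype.card_bool,
      Nat.card_eq_fintype_card (α := {x : N // x ≠ 1}), Fintype.card_subtype_compl,
      Fintype.card_subtype_eq, ← Nat.card_eq_fintype_card] at h
    omega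
  let act : MulAut N → L → L := fun σ C =>
    ⟨C.1.map σ.toMonoidHom, by
      obtain ⟨x, hx, hC⟩ := C.2
      exact ⟨σ x, fun h => hx (σ.injective (h.trans (map_one σ).symm)), by
        rw [hC, MonoidHom.map_zpowers]; rfl⟩⟩
  letI : MulAction (MulAut N) L :=
    { smul := act
      one_smul := fun C => Subtype.ext (by
        show C.1.map (1 : MulAut N).toMonoidHom = C.1
        exact C.1.map_id)
      mul_smul := fun σ τ C => Subtype.ext (by
        show C.1.map (σ * τ).toMonoidHom = (C.1.map τ.toMonoidHom).map σ.toMonoidHom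
        rw [Subgroup.map_map]; rfl) }
  let r := MulAction.toPermHom (MulAut N) L
  haveI : Group.IsSolvable r.range := by
    refine solvable_of_dvd (a := 3) (b := 1) ((card_subgroup_dvd_card _).trans ?_)
    rw [Nat.card_perm]
    exact (Nat.factorial_dvd_factorial hL).trans (by decide)
  have hker : ∀ σ : r.ker, ∀ x : N, ∃ i : ℤ, x ^ i = σ.1 x := by
    intro σ x
    by_cases hx : x = 1
    · exact ⟨0, by rw [hx, zpow_zero, map_one]⟩
    · have h := congrArg Subtype.val (Equiv.congr_fun (MonoidHom.mem_ker.1 σ.2)
        (⟨zpowers x, x, hx, rfl⟩ : L))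
      have h' : (zpowers x).map σ.1.toMonoidHom = zpowers x := h
      exact mem_zpowers_iff.1 (h' ▸ mem_map_of_mem _ (mem_zpowers x))
  haveI : Group.IsSolvable r.ker := by
    refine Group.isSolvable_of_comm fun σ τ => Subtype.ext (MulEquiv.ext fun x => ?_)
    show σ.1 (τ.1 x) = τ.1 (σ.1 x)
    obtain ⟨i, hi⟩ := hker σ x
    obtain ⟨j, hj⟩ := hker τ x
    rw [← hi, ← hj, map_zpow, map_zpow, ← hi, ← hj, ← zpow_mul, ← zpow_mul, mul_comm]
  exact Group.isSolvable_of_ker_le_range r.ker.subtype r.rangeRestrict
    (by simp [MonoidHom.ker_rangeRestrict])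

/-- A group centralizing an element of odd prime order with a free orbit. -/
theorem solvable_of_commute_free {α : Type} [Finite α] (hα : Nat.card α ≤ 8) (a : Equiv.Perm α)
    {p : ℕ} [Fact p.Prime] (hp : 3 ≤ p) (hap : a ^ p = 1) (hfree : ∀ x, a x ≠ x)
    (S : Subgroup (Equiv.Perm α)) (hS : ∀ s ∈ S, s * a = a * s) : Group.IsSolvable S := by
  classical
  let rel : Setoid α := Setoid.mk (fun x y => a.SameCycle x y)
    ⟨fun x => Equiv.Perm.SameCycle.refl a x, fun h => h.symm, fun h k => h.trans k⟩
  have hs : ∀ s : S, ∀ x y : α, a.SameCycle x y → a.SameCycle (s.1 x) (s.1 y) := by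
    rintro s x y ⟨i, rfl⟩
    refine ⟨i, ?_⟩
    have h : Commute s.1 (a ^ i) := Commute.zpow_right (hS s s.2) i
    exact (Equiv.congr_fun h.eq x).symm
  let f : S → Quotient rel → Quotient rel := fun s => Quotient.map s.1 (hs s)
  letI : MulAction S (Quotient rel) :=
    { smul := f
      one_smul := fun q => Quotient.inductionOn q fun x => rfl
      mul_smul := fun s t q => Quotient.inductionOn q fun x => rfl }
  let r := MulAction.toPermHom S (Quotient rel)
  have hord : orderOf a = p ∨ IsEmpty α := by
    by_cases h : IsEmpty α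
    · exact Or.inr h
    · obtain ⟨x⟩ := not_isEmpty_iff.1 h
      exact Or.inl (orderOf_eq_prime hap fun e => hfree x (by rw [e]; rfl))
  have hcardQ : 3 * Nat.card (Quotient rel) ≤ Nat.card α := by
    let g : Fin 3 × Quotient rel → α := fun q => (a ^ (q.1 : ℕ)) q.2.out
    have hg : Function.Injective g := by
      rintro ⟨i, x⟩ ⟨j, y⟩ h
      have h' : (a ^ (i : ℕ)) x.out = (a ^ (j : ℕ)) y.out := h
      have hxy : x = y := by
        rw [← Quotient.out_eq x, ← Quotient.out_eq y]
        refine Quotient.sound (show a.SameCycle x.out y.out from ?_)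
        have h2 : a.SameCycle ((a ^ (i : ℕ)) x.out) ((a ^ (j : ℕ)) y.out) := by rw [h']
        rwa [Equiv.Perm.sameCycle_pow_left, Equiv.Perm.sameCycle_pow_right] at h2
      subst hxy
      have hij : (i : ℕ) = j := by
        rcases hord with hord | he
        · haveI := hord
          by_contra hne
          have key : ∀ k : ℕ, 0 < k → k < p → (a ^ k) x.out ≠ x.out := by
            intro k hk hkp e
            have hco : Nat.Coprime k p := ((Fact.out : p.Prime).coprime_iff_not_dvd.2
              (Nat.not_dvd_of_pos_of_lt hk hkp)).symm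
            obtain ⟨m, -, hm⟩ := Nat.exists_mul_mod_eq_one_of_coprime hco (by omega)
            refine hfree x.out ?_
            have : (a ^ (k * m)) x.out = x.out := by
              rw [pow_mul]; exact Equiv.Perm.pow_apply_eq_self_of_apply_eq_self e m
            rwa [← pow_mod_orderOf, hord, hm, pow_one] at this
          rcases Nat.lt_or_gt_of_ne hne with hlt | hlt
          · refine key (j - i) (by omega) (by omega) ((a ^ (i : ℕ)).injective ?_)
            rw [← Equiv.Perm.mul_apply, ← pow_add, Nat.add_sub_cancel' hlt.le]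
            exact h'.symm
          · refine key (i - j) (by omega) (by omega) ((a ^ (j : ℕ)).injective ?_)
            rw [← Equiv.Perm.mul_apply, ← pow_add, Nat.add_sub_cancel' hlt.le]
            exact h'
        · exact (he.false x.out).elim
      rw [Fin.ext hij]
    simpa [Nat.card_prod, Nat.card_fin] using Nat.card_le_card_of_injective g hg
  haveI : Group.IsSolvable r.range := by
    refine solvable_of_card_le_eight ((card_le_card_group _).trans ?_)
    rw [Nat.card_perm]
    exact (Nat.factorial_le (by omega : Nat.card (Quotient rel) ≤ 2)).trans (by decide)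
  have hker : ∀ s : r.ker, ∀ x : α, ∃ i : ℤ, (a ^ i) x = s.1.1 x := by
    intro s x
    have h : (Quotient.mk rel (s.1.1 x)) = Quotient.mk rel x :=
      Equiv.congr_fun (MonoidHom.mem_ker.1 s.2) (Quotient.mk rel x)
    exact (Quotient.exact h).symm
  haveI : Group.IsSolvable r.ker := by
    refine Group.isSolvable_of_comm fun s t => Subtype.ext (Subtype.ext (Equiv.ext fun x => ?_))
    show s.1.1 (t.1.1 x) = t.1.1 (s.1.1 x)
    obtain ⟨i, hi⟩ := hker s x
    obtain ⟨j, hj⟩ := hker t x
    have h1 : Commute s.1.1 (a ^ j) := Commute.zpow_right (hS _ s.1.2) j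
    have h2 : Commute t.1.1 (a ^ i) := Commute.zpow_right (hS _ t.1.2) i
    rw [← hi, ← hj, ← Equiv.Perm.mul_apply s.1.1, h1.eq, ← Equiv.Perm.mul_apply t.1.1, h2.eq,
      Equiv.Perm.mul_apply, Equiv.Perm.mul_apply, ← hi, ← hj, ← Equiv.Perm.mul_apply,
      ← Equiv.Perm.mul_apply, ← zpow_add, ← zpow_add, add_comm]
  exact Group.isSolvable_of_ker_le_range r.ker.subtype r.rangeRestrict
    (by simp [MonoidHom.ker_rangeRestrict])

set_option maxRecDepth 20000 in
theorem no_three_normalized : ∀ g : Equiv.Perm (Fin 5), g * g * g = 1 →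
    (finRotate 5 * g * (finRotate 5)⁻¹ = g ∨ finRotate 5 * g * (finRotate 5)⁻¹ = g * g) → g = 1 := by
  decide

set_option maxHeartbeats 1000000 in
/-- A nonsolvable subgroup of `A₈` with nontrivial odd core is `(3 × A₅)` or `(3 × A₅)·2`. -/
theorem three_part (phi : H →* alternatingGroup (Fin 8)) (hphi : Function.Injective phi)
    (hns : ¬ Group.IsSolvable H) (hO : Cfsg.pPrimeCore 2 H ≠ ⊥) :
    Nat.card ↥(Cfsg.pCore 3 H) = 3 ∧
      (Nonempty (H ⧸ Cfsg.pCore 3 H ≃* alternatingGroup (Fin 5)) ∨
        Nonempty (H ⧸ Cfsg.pCore 3 H ≃* Equiv.Perm (Fin 5))) := by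
  classical
  haveI : Fact (Nat.Prime 3) := ⟨Nat.prime_three⟩
  obtain ⟨N, hNn, hNne, hNle, hNmin⟩ :=
    Solvable.exists_minimal_normal_le (Solvable.pPrimeCore_normal 2 H) hO
  haveI := hNn
  have hodd : Odd (Nat.card N) := Nat.coprime_two_right.1
    ((Solvable.pPrimeCore_coprime (G := H) 2).coprime_dvd_left (card_dvd_of_le hNle))
  haveI := solvable_minimal_odd phi hphi N hNne hNmin hodd
  obtain ⟨p, hp, hpN, hexp, hcomm⟩ := Solvable.exists_isPGroup_of_minimal_normal hNne hNmin
  haveI : Fact p.Prime := ⟨hp⟩
  have hN9 : Nat.card N ≤ 9 := by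
    have hd : Nat.card N ∣ 2 ^ 6 * 315 := by
      refine (Subgroup.card_dvd_of_injective (phi.comp N.subtype) (hphi.comp N.subtype_injective)).trans ?_
      rw [nat_card_alternatingGroup, Nat.card_fin]
      norm_num [Nat.factorial]
    have h315 : Nat.card N ∣ 315 :=
      ((Nat.coprime_two_right.2 hodd).pow_right 6).dvd_of_dvd_mul_left hd
    obtain ⟨k, hk⟩ := hpN.exists_card_eq
    have huniq : ∀ q : ℕ, q.Prime → q ∣ Nat.card N → q = p := fun q hq hqd =>
      (Nat.prime_dvd_prime_iff_eq hq hp).1 (hq.dvd_of_dvd_pow (hk ▸ hqd))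
    by_contra h9
    have hcases : Nat.card N ∈ Nat.divisors 315 := Nat.mem_divisors.2 ⟨h315, by norm_num⟩
    have hdiv : Nat.divisors 315 = {1, 3, 5, 7, 9, 15, 21, 35, 45, 63, 105, 315} := by decide
    rw [hdiv] at hcases
    simp only [Finset.mem_insert, Finset.mem_singleton] at hcases
    have u3 := huniq 3 Nat.prime_three
    have u5 := huniq 5 Nat.prime_five
    have u7 := huniq 7 (by norm_num)
    rcases hcases with h | h | h | h | h | h | h | h | h | h | h | h <;> rw [h] at h9 u3 u5 u7 <;>
      (revert h9 u3 u5 u7; norm_num; try omega)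
  set C := centralizer (N : Set H) with hCdef
  have hCns : ¬ Group.IsSolvable C := by
    intro hC
    haveI := hC
    haveI := solvable_mulAut (N := N) (fun a b => hcomm.is_comm.comm a b) hodd hN9
    refine hns (Group.isSolvable_of_ker_le_range C.subtype (MulAut.conjNormal (H := N)) ?_)
    intro h hh
    rw [range_subtype, hCdef, mem_centralizer_iff]
    intro n hn
    have e := congrArg Subtype.val (MulEquiv.congr_fun (MonoidHom.mem_ker.1 hh) (⟨n, hn⟩ : N))
    rw [MulAut.conjNormal_apply, MulAut.one_apply] at e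
    exact (mul_inv_eq_iff_eq_mul.1 e).symm
  let f : H →* Equiv.Perm (Fin 8) := (alternatingGroup (Fin 8)).subtype.comp phi
  have hf : Function.Injective f := Subtype.val_injective.comp hphi
  obtain ⟨x₀, hx₀⟩ := exists_big_orbit hf hCns
  set X := Orb f C x₀ with hXdef
  have hXinv : ∀ (h : H) (y : Fin 8), f h y ∈ X ↔ y ∈ X := fun h y => by
    refine apply_mem_big_orb f (fun t => ?_) hx₀ y
    have hCn : C.Normal := inferInstance
    exact ⟨fun ht => hCn.conj_mem t ht h, fun ht => by
      simpa [mul_assoc] using hCn.conj_mem _ ht h⁻¹⟩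
  let rX : H →* Equiv.Perm {y // y ∈ X} := MonoidHom.mk' (fun h => (f h).subtypePerm (hXinv h))
    fun a b => Equiv.ext fun y => Subtype.ext (Equiv.congr_fun (map_mul f a b) _)
  have hn5 : 5 ≤ Nat.card {y // y ∈ X} := by
    have : Nat.card {y // y ∈ X} = X.ncard := Nat.card_coe_set_eq X
    omega
  have hsum : Nat.card {y // y ∈ X} + Nat.card {y // y ∉ X} = 8 :=
    Nat.card_sum.symm.trans ((Nat.card_congr (Equiv.sumCompl (· ∈ X))).trans (Nat.card_fin 8))
  have hKY : ∀ h ∈ rX.ker, ∀ y ∈ X, f h y = y := fun h hh y hy =>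
    congrArg Subtype.val (Equiv.congr_fun (MonoidHom.mem_ker.1 hh) ⟨y, hy⟩)
  have hK6 : Nat.card rX.ker ∣ (Nat.card {y // y ∉ X})! := by
    let rY : rX.ker →* Equiv.Perm {y // y ∉ X} :=
      MonoidHom.mk' (fun h => (f h.1).subtypePerm fun y => not_congr (hXinv h.1 y))
        fun a b => Equiv.ext fun y => Subtype.ext (Equiv.congr_fun (map_mul f a.1 b.1) _)
    rw [← Nat.card_perm]
    refine Subgroup.card_dvd_of_injective rY fun a b h => Subtype.ext (hf (Equiv.ext fun y => ?_))
    by_cases hy : y ∈ X
    · rw [hKY a.1 a.2 y hy, hKY b.1 b.2 y hy]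
    · exact congrArg Subtype.val (Equiv.congr_fun h ⟨y, hy⟩)
  have hK8 : Nat.card rX.ker ≤ 6 :=
    (Nat.le_of_dvd (Nat.factorial_pos _) hK6).trans
      ((Nat.factorial_le (by omega : Nat.card {y // y ∉ X} ≤ 3)).trans (by decide))
  -- `N` fixes the big orbit
  have hNK : N ≤ rX.ker := by
    intro a ha
    by_contra hne
    obtain ⟨y₀, hy₀⟩ : ∃ y, rX a y ≠ y := by
      by_contra! h
      exact hne (MonoidHom.mem_ker.2 (Equiv.ext h))
    have hS : ∀ s ∈ C.map rX, s * rX a = rX a * s := by
      rintro _ ⟨c, hc, rfl⟩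
      rw [← map_mul, ← map_mul, mem_centralizer_iff.1 hc a ha]
    have hfree : ∀ y, rX a y ≠ y := by
      intro y e
      obtain ⟨c, hc, hcy⟩ : ∃ c ∈ C, f c (y : Fin 8) = (y₀ : Fin 8) := by
        have h1 : Orb f C (y : Fin 8) = X := orb_eq_of_mem f y.2
        exact h1.ge y₀.2
      have hcy' : rX c y = y₀ := Subtype.ext hcy
      refine hy₀ ?_
      rw [← hcy', ← Equiv.Perm.mul_apply, ← hS _ ⟨c, hc, rfl⟩, Equiv.Perm.mul_apply, e]
    have hp3 : 3 ≤ p := by
      rcases hp.two_le.lt_or_eq with h | h
      · omega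
      · exfalso
        subst h
        obtain ⟨k, hk⟩ := hpN.exists_card_eq
        have h1 : 1 < Nat.card N := N.one_lt_card_iff_ne_bot.2 hNne
        rw [hk] at hodd h1
        rcases k with _ | k
        · simp at h1
        · exact absurd hodd (Nat.not_odd_iff_even.2 ⟨2 ^ k, by rw [pow_succ]; omega⟩)
    haveI : Group.IsSolvable (C.map rX) :=
      solvable_of_commute_free (by omega) (rX a) hp3 (by rw [← map_pow, hexp a ha, map_one]) hfree _ hS
    haveI : Group.IsSolvable rX.ker := solvable_of_card_le_eight (hK8.trans (by norm_num))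
    let rC : C →* C.map rX := rX.subgroupMap C
    haveI : Group.IsSolvable rC.ker := solvable_of_solvable_injective
      (f := MonoidHom.mk' (fun c : rC.ker => (⟨c.1.1, MonoidHom.mem_ker.2
        (congrArg Subtype.val (MonoidHom.mem_ker.1 c.2))⟩ : rX.ker)) fun _ _ => rfl)
      fun a b h => Subtype.ext (Subtype.ext (congrArg (fun t : rX.ker => (t : H)) h))
    exact hCns (Group.isSolvable_of_ker_le_range rC.ker.subtype rC (by rw [range_subtype]))
  have hN3 : Nat.card N ≥ 3 := by
    have h1 : 1 < Nat.card N := N.one_lt_card_iff_ne_bot.2 hNne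
    obtain ⟨m, hm⟩ := hodd
    omega
  have hY : Nat.card {y // y ∉ X} = 3 := by
    have h1 : Nat.card N ≤ (Nat.card {y // y ∉ X})! :=
      (card_le_of_le hNK).trans (Nat.le_of_dvd (Nat.factorial_pos _) hK6)
    by_contra hne
    have h2 := Nat.factorial_le (show Nat.card {y // y ∉ X} ≤ 2 by omega)
    rw [Nat.factorial_two] at h2
    omega
  have hX5 : Nat.card {y // y ∈ X} = 5 := by omega
  have hKN : rX.ker = N := by
    refine (eq_of_le_of_card_ge hNK ?_).symm
    have hd : Nat.card rX.ker ∣ 6 := by rw [hY] at hK6; exact hK6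
    have h3 : Nat.card N ∣ Nat.card rX.ker := card_dvd_of_le hNK
    by_contra hlt
    have h6 : Nat.card rX.ker = 6 := by
      have := Nat.le_of_dvd (by norm_num) hd
      interval_cases Nat.card rX.ker <;> simp_all <;> omega
    haveI : Fact (Nat.Prime 2) := ⟨Nat.prime_two⟩
    obtain ⟨k, hk⟩ := exists_prime_orderOf_dvd_card' 2 (h6 ▸ (by norm_num : 2 ∣ 6))
    have hk1 : f k.1 ≠ 1 := fun e => by
      have : k = 1 := Subtype.ext (hf (e.trans (map_one f).symm))
      rw [this, orderOf_one] at hk
      omega
    have hk2 : f k.1 ^ 2 = 1 := by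
      rw [← map_pow]
      have h2 := congrArg Subtype.val (orderOf_dvd_iff_pow_eq_one.1 hk.dvd)
      rw [show k.1 ^ 2 = 1 from h2, map_one]
    have hs3 : (f k.1).support.card ≤ 3 := by
      rw [← hY]
      haveI := Fintype.ofFinite {y // y ∉ X}
      rw [Nat.card_eq_fintype_card, ← Fintype.card_coe]
      exact Fintype.card_le_of_injective (fun y => ⟨y.1, fun hy =>
        Equiv.Perm.mem_support.1 y.2 (hKY k.1 k.2 y.1 hy)⟩) fun a b h => Subtype.ext (congrArg Subtype.val h :)
    have hs2 : 2 ∣ (f k.1).support.card := Equiv.Perm.two_dvd_card_support hk2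
    have hs0 : (f k.1).support.card ≠ 0 := fun e =>
      hk1 (Equiv.Perm.card_support_eq_zero.1 e)
    have hsw := Equiv.Perm.card_support_eq_two.1 (by omega : (f k.1).support.card = 2)
    have hev : Equiv.Perm.sign (f k.1) = 1 := Equiv.Perm.mem_alternatingGroup.1 (phi k.1).2
    rw [hsw.sign_eq] at hev
    exact absurd hev (by decide)
  -- the image in `S₅`
  let e5 : {y // y ∈ X} ≃ Fin 5 := Finite.equivFinOfCardEq hX5
  let g : H →* Equiv.Perm (Fin 5) := e5.permCongrHom.toMonoidHom.comp rX
  have hgker : g.ker = N := by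
    rw [← hKN]
    ext h
    simp [g, MonoidHom.mem_ker]
  set S := g.range
  have hSns : ¬ Group.IsSolvable S := by
    intro h
    haveI := h
    haveI : Group.IsSolvable g.ker := by
      rw [hgker]
      infer_instance
    exact hns (Group.isSolvable_of_ker_le_range g.ker.subtype g.rangeRestrict
      (by simp [MonoidHom.ker_rangeRestrict]))
  have hA5 : alternatingGroup (Fin 5) ≤ S := by
    set I := S.subgroupOf (alternatingGroup (Fin 5))
    by_contra hle
    haveI := alternatingGroup.isSimpleGroup (α := Fin 5) (by rw [Nat.card_fin])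
    have hnp : ¬ (Nat.card (alternatingGroup (Fin 5))).Prime := by
      rw [nat_card_alternatingGroup, Nat.card_fin]; norm_num [Nat.factorial]
    have hd := Transfer.two_mul_card_dvd_factorial (Transfer.not_isMulCommutative_of_not_prime hnp)
      (H := I) (fun e => hle (subgroupOf_eq_top.1 e))
    have h60 : Nat.card (alternatingGroup (Fin 5)) = 60 := by
      rw [nat_card_alternatingGroup, Nat.card_fin]; rfl
    rw [h60] at hd
    have hidx : 5 ≤ I.index := by
      by_contra hlt
      have := Nat.le_of_dvd (Nat.factorial_pos _) hd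
      have := Nat.factorial_le (show I.index ≤ 4 by omega)
      norm_num [Nat.factorial] at *
      omega
    have hmul := I.index_mul_card
    rw [h60] at hmul
    have hI : Nat.card I ≤ 12 := by
      have := Nat.mul_le_mul_right (Nat.card I) hidx
      omega
    haveI : Group.IsSolvable I := by
      by_cases h8 : Nat.card I ≤ 8
      · exact solvable_of_card_le_eight h8
      have hdI : Nat.card I ∣ 60 := Dvd.intro_left _ hmul
      have hcases : Nat.card I = 10 ∨ Nat.card I = 12 := by
        interval_cases Nat.card I <;> simp_all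
      rcases hcases with h | h
      · exact Char.burnside_pq 2 5 Nat.prime_two Nat.prime_five 1 1 I (by rw [h]; norm_num)
      · exact solvable_of_dvd (a := 2) (b := 1) (by rw [h]; norm_num)
    let sg : S →* ℤˣ := Equiv.Perm.sign.comp S.subtype
    let ι : I →* S := MonoidHom.mk' (fun x => ⟨x.1.1, x.2⟩) fun _ _ => rfl
    refine hSns (Group.isSolvable_of_ker_le_range ι sg fun x hx => ?_)
    exact ⟨⟨⟨x.1, Equiv.Perm.mem_alternatingGroup.2 (MonoidHom.mem_ker.1 hx)⟩, x.2⟩, rfl⟩
  have hcore : Cfsg.pCore 3 H = N := by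
    have hN3' : Nat.card N = 3 := by
      have hd : Nat.card N ∣ 6 := by
        rw [hY] at hK6
        exact (card_dvd_of_le hNK).trans hK6
      have := Nat.le_of_dvd (by norm_num) hd
      interval_cases Nat.card N <;> first | rfl | (norm_num at hd; done) | exact absurd hodd (by decide)
    refine le_antisymm ?_ (Solvable.le_pCore hNn (IsPGroup.iff_card.2 ⟨1, by rw [hN3', pow_one]⟩))
    haveI := Solvable.pCore_normal 3 H
    intro q hq
    rw [← hgker, MonoidHom.mem_ker]
    set P := (Cfsg.pCore 3 H).map g
    have hP : IsPGroup 3 P := (Solvable.pCore_isPGroup (G := H) 3).map g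
    have hP3 : Nat.card P ∣ 3 := by
      obtain ⟨k, hk⟩ := hP.exists_card_eq
      have hd : Nat.card P ∣ 120 := by
        have := card_subgroup_dvd_card P
        rwa [Nat.card_perm, Nat.card_fin] at this
      rw [hk] at hd ⊢
      have hk1 : k ≤ 1 := by
        by_contra hlt
        have := (pow_dvd_pow 3 (show 2 ≤ k by omega)).trans hd
        norm_num at this
      exact (pow_dvd_pow 3 hk1).trans (by norm_num)
    obtain ⟨h, hh⟩ := hA5 (show finRotate 5 ∈ alternatingGroup (Fin 5) from
      Equiv.Perm.mem_alternatingGroup.2 (by rw [sign_finRotate]; norm_num))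
    have hgP : g q ∈ P := mem_map_of_mem g hq
    have hcP : finRotate 5 * g q * (finRotate 5)⁻¹ ∈ P := by
      rw [← hh, ← map_mul, ← map_inv, ← map_mul]
      exact mem_map_of_mem g (Normal.conj_mem inferInstance q hq h)
    have hpow : ∀ y : P, y * y * y = 1 := fun y => by
      rw [← pow_two, ← pow_succ]
      exact orderOf_dvd_iff_pow_eq_one.1 ((orderOf_dvd_natCard y).trans hP3)
    refine no_three_normalized _ (congrArg Subtype.val (hpow ⟨g q, hgP⟩)) ?_
    by_contra hne
    push Not at hne
    by_cases h1 : g q = 1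
    · exact hne.1 (by rw [h1]; group)
    · have h4 : ({1, g q, g q * g q, finRotate 5 * g q * (finRotate 5)⁻¹} : Finset (Equiv.Perm (Fin 5))).card = 4 := by
        rw [Finset.card_insert_of_notMem, Finset.card_insert_of_notMem, Finset.card_insert_of_notMem,
          Finset.card_singleton]
        · simp [Ne.symm hne.2]
        · simp only [Finset.mem_insert, Finset.mem_singleton, not_or]
          exact ⟨fun e => h1 (left_eq_mul.1 e), Ne.symm hne.1⟩
        · simp only [Finset.mem_insert, Finset.mem_singleton, not_or]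
          refine ⟨Ne.symm h1, fun e => h1 ?_, fun e => h1 (conj_eq_one_iff.1 e.symm)⟩
          have h3 : g q * g q * g q = 1 := congrArg Subtype.val (hpow ⟨g q, hgP⟩)
          rwa [← e, one_mul] at h3
      have hle : ({1, g q, g q * g q, finRotate 5 * g q * (finRotate 5)⁻¹} : Finset (Equiv.Perm (Fin 5))).card ≤
          Nat.card P := by
        haveI := Fintype.ofFinite P
        rw [Nat.card_eq_fintype_card, ← Finset.card_univ,
          ← Finset.card_map (Function.Embedding.subtype (fun x => x ∈ P))]
        refine Finset.card_le_card fun x hx => ?_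
        simp only [Finset.mem_map, Finset.mem_univ, true_and]
        refine ⟨⟨x, ?_⟩, rfl⟩
        simp only [Finset.mem_insert, Finset.mem_singleton] at hx
        rcases hx with rfl | rfl | rfl | rfl
        exacts [one_mem _, hgP, mul_mem hgP hgP, hcP]
      have := Nat.le_of_dvd (by norm_num) hP3
      omega
  refine ⟨?_, ?_⟩
  · rw [hcore]
    have hd : Nat.card N ∣ 6 := by
      rw [hY] at hK6
      exact (card_dvd_of_le hNK).trans hK6
    have := Nat.le_of_dvd (by norm_num) hd
    interval_cases Nat.card N <;> first | rfl | (norm_num at hd; done) | exact absurd hodd (by decide)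
  · haveI := Solvable.pCore_normal 3 H
    let q : H ⧸ Cfsg.pCore 3 H ≃* S :=
      (QuotientGroup.quotientMulEquivOfEq (hcore.trans hgker.symm)).trans
        (QuotientGroup.quotientKerEquivRange g)
    by_cases htop : S = ⊤
    · exact Or.inr ⟨q.trans ((MulEquiv.subgroupCongr htop).trans Subgroup.topEquiv)⟩
    · have h60 : Nat.card (alternatingGroup (Fin 5)) = 60 := by
        rw [nat_card_alternatingGroup, Nat.card_fin]; rfl
      have hge := Subgroup.card_dvd_of_le hA5
      rw [h60] at hge
      have hi := S.index_mul_card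
      rw [Nat.card_perm, Nat.card_fin] at hi
      obtain ⟨k, hk⟩ := hge
      rw [hk] at hi
      have hk2 : S.index * k = 2 := by norm_num [Nat.factorial] at hi; nlinarith
      have hS2 : S.index = 2 := by
        rcases (Nat.dvd_prime Nat.prime_two).1 (Dvd.intro k hk2) with h | h
        · exact absurd (index_eq_one.1 h) htop
        · exact h
      exact Or.inl ⟨q.trans (MulEquiv.subgroupCongr (Equiv.Perm.eq_alternatingGroup_of_index_eq_two hS2))⟩

end CfsgLib.SRank
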