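import Cfsg.Prelude.Def_CaseTheorems
import Cfsg.Agent.Lib.Transfer.PGroupNormal
import Cfsg.Agent.Lib.StructB.TwoLinearGen
import Cfsg.Agent.Lib.Invol.MaxClassRank

/-!
Generator bounds in finite `2`-groups, and the passage to sectional rank.
-/

set_option autoImplicit false
set_option linter.style.haveILetI false

namespace CfsgLib.SRank

open Subgroup
open CfsgLib.TwoLinear (Gen)

variable {G : Type*} [Group G]

theorem gen_of_closure_eq {H : Subgroup G} {k : ℕ} (T : Finset G) (hT : T.card ≤ k)
    (hc : closure (T : Set G) = H) : Gen H k := by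
  classical
  have hsub : ∀ x ∈ T, x ∈ H := fun x hx => hc ▸ subset_closure hx
  refine ⟨T.attach.image fun x => ⟨x.1, hsub x.1 x.2⟩,
    (Finset.card_image_le.trans (Finset.card_attach (s := T)).le).trans hT, ?_⟩
  refine map_injective H.subtype_injective ?_
  rw [MonoidHom.map_closure, ← MonoidHom.range_eq_map, H.range_subtype]
  refine le_antisymm ((closure_le _).2 ?_) (hc.ge.trans (closure_mono fun x hx => ?_))
  · rintro _ ⟨x, -, rfl⟩
    exact x.2
  · exact ⟨⟨x, hsub x hx⟩, by simpa using hx, rfl⟩

theorem exists_closure_of_gen {H : Subgroup G} {k : ℕ} (h : Gen H k) :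
    ∃ T : Finset G, T.card ≤ k ∧ closure (T : Set G) = H := by
  classical
  obtain ⟨T, h1, h2⟩ := h
  refine ⟨T.image Subtype.val, Finset.card_image_le.trans h1, ?_⟩
  rw [Finset.coe_image]
  show closure (H.subtype '' (T : Set H)) = H
  rw [← MonoidHom.map_closure, h2, ← MonoidHom.range_eq_map, H.range_subtype]

theorem card_le_of_gen {A : Type*} [Group A] [Finite A] (hc : ∀ a b : A, a * b = b * a)
    (h2 : ∀ a : A, a * a = 1) {k : ℕ} (h : Gen A k) : Nat.card A ≤ 2 ^ k := by
  classical
  obtain ⟨T, hT, htop⟩ := h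
  suffices h : ∀ S : Finset A, Nat.card (closure (S : Set A)) ≤ 2 ^ S.card by
    have := h T
    rw [htop, card_top] at this
    exact this.trans (Nat.pow_le_pow_right two_pos hT)
  intro S
  induction S using Finset.induction_on with
  | empty => simp
  | @insert a S ha ih =>
    rw [Finset.coe_insert, Set.insert_eq, Subgroup.closure_union, ← zpowers_eq_closure]
    haveI : (closure (S : Set A)).Normal :=
      ⟨fun n hn g => by rwa [hc g n, mul_inv_cancel_right]⟩
    have hmem : ∀ g : A, g ∈ zpowers a ⊔ closure (S : Set A) →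
        g ∈ (closure (S : Set A) : Set A) ∪ (fun x => a * x) '' (closure (S : Set A) : Set A) := by
      intro g hg
      obtain ⟨u, hu, v, hv, rfl⟩ := Subgroup.mem_sup_of_normal_right.1 hg
      obtain ⟨i, rfl⟩ := mem_zpowers_iff.1 hu
      rcases Int.even_or_odd' i with ⟨l, rfl | rfl⟩
      · left
        rw [zpow_mul, zpow_two, h2, one_zpow, one_mul]
        exact hv
      · right
        exact ⟨v, hv, by rw [zpow_add, zpow_mul, zpow_two, h2, one_zpow, one_mul, zpow_one]⟩
    calc Nat.card (zpowers a ⊔ closure (S : Set A) : Subgroup A)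
        = ((zpowers a ⊔ closure (S : Set A) : Subgroup A) : Set A).ncard := rfl
      _ ≤ ((closure (S : Set A) : Set A) ∪ (fun x => a * x) '' (closure (S : Set A) : Set A)).ncard :=
          Set.ncard_le_ncard hmem (Set.toFinite _)
      _ ≤ _ := Set.ncard_union_le _ _
      _ ≤ (closure (S : Set A) : Set A).ncard + (closure (S : Set A) : Set A).ncard :=
          add_le_add le_rfl (Set.ncard_image_le (Set.toFinite _))
      _ ≤ 2 ^ S.card + 2 ^ S.card := add_le_add ih ih
      _ = _ := by rw [Finset.card_insert_of_notMem ha, pow_succ]; ring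

/-- A bound on the number of generators of all subgroups bounds the sectional rank. -/
theorem sectional_of_gen [Finite G] {k : ℕ} (h : ∀ H : Subgroup G, Gen H k) :
    Cfsg.SectionalPRankLE 2 k G := by
  intro H N _ A hA hA2
  let f : ↥(A.comap (QuotientGroup.mk' N)) →* A :=
    ((QuotientGroup.mk' N).comp (A.comap (QuotientGroup.mk' N)).subtype).codRestrict A fun x => x.2
  have hf : Function.Surjective f := by
    rintro ⟨q, hq⟩
    obtain ⟨y, rfl⟩ := QuotientGroup.mk'_surjective N q
    exact ⟨⟨y, hq⟩, rfl⟩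
  let L := (A.comap (QuotientGroup.mk' N)).map H.subtype
  let e := (A.comap (QuotientGroup.mk' N)).equivMapOfInjective H.subtype H.subtype_injective
  have hL : Gen ↥(A.comap (QuotientGroup.mk' N)) k :=
    (h L).of_surjective e.symm.toMonoidHom e.symm.surjective
  exact card_le_of_gen (fun a b => hA.is_comm.comm a b)
    (fun a => Subtype.ext (by rw [← pow_two]; exact hA2 a a.2)) (hL.of_surjective f hf)

variable [Finite G]

/-- A `2`-group with an element of order at least `4`, or of order at most `4`, of order at most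
`8` is two-generated. -/
theorem gen_two_of_small (h8 : Nat.card G ≤ 8) (hG : IsPGroup 2 G)
    (h : Nat.card G ≤ 4 ∨ ∃ g : G, g * g ≠ 1) : Gen G 2 := by
  haveI : Fact (Nat.Prime 2) := ⟨Nat.prime_two⟩
  rcases h with h | ⟨g, hg⟩
  · obtain ⟨T, hT, hT'⟩ := CfsgLib.Invol.MaxClassRank.exists_gen_small hG (⊤ : Subgroup G)
      (by rw [card_top]; simpa using h)
    exact ⟨T, hT, hT'⟩
  refine CfsgLib.TwoLinear.gen_two_of_index g (h8.trans ?_)
  obtain ⟨n, hn⟩ := IsPGroup.iff_orderOf.1 hG g
  have h2 : 2 ≤ n := by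
    by_contra hlt
    have : g ^ 2 = 1 := by
      rw [← orderOf_dvd_iff_pow_eq_one, hn]
      exact pow_dvd_pow 2 (by omega : n ≤ 1)
    exact hg (by rwa [← pow_two])
  rw [hn]
  have := Nat.pow_le_pow_right two_pos h2
  omega

omit [Finite G] in
/-- An element `x` of `C` inverted by `g` has order at most `2`, if the elements of order at most
`4` of `C` commute with `g`. -/
theorem sq_eq_one_of_inverted (hG : IsPGroup 2 G) {S : Subgroup G} {g : G}
    (hcen : ∀ x ∈ S, x ^ 4 = 1 → g * x = x * g) :
    ∀ x ∈ S, g * x * g⁻¹ = x⁻¹ → x * x = 1 := by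
  intro x
  induction hn : orderOf x using Nat.strong_induction_on generalizing x with
  | _ n ih => ?_
  intro hxS hinv
  by_cases hx1 : x = 1
  · rw [hx1, one_mul]
  obtain ⟨m, hm⟩ := IsPGroup.iff_orderOf.1 hG x
  have hm0 : m ≠ 0 := fun e => hx1 (orderOf_eq_one_iff.1 (by rw [hm, e, pow_zero]))
  have hlt : orderOf (x * x) < n := by
    subst hn
    rw [← pow_two, orderOf_pow' x two_ne_zero, hm, Nat.gcd_eq_right (dvd_pow_self 2 hm0)]
    exact Nat.div_lt_self (pow_pos two_pos m) one_lt_two
  have h4 : x ^ 4 = 1 := by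
    have := ih _ hlt (x * x) rfl (mul_mem hxS hxS) (by
      rw [← pow_two, ← conj_pow, hinv, inv_pow])
    rw [show x ^ 4 = x * x * (x * x) by rw [pow_succ, pow_succ, pow_two]; group]
    exact this
  rw [hcen x hxS h4, mul_inv_cancel_right] at hinv
  exact mul_eq_one_iff_eq_inv.2 hinv

/-- If the elements of order at most `4` are central, then the group needs no more generators than
its involutions. -/
theorem gen_of_central_omega : ∀ (n : ℕ) {K : Type*} [Group K] [Finite K], Nat.card K = n →
    IsPGroup 2 K → (∀ x : K, x ^ 4 = 1 → x ∈ center K) → ∀ r : ℕ,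
    Nat.card {x : K // x * x = 1} ≤ 2 ^ r → Gen K r := by
  intro n
  induction n using Nat.strong_induction_on with
  | _ n ih => ?_
  intro K _ _ hn hK hcen r hr
  classical
  haveI : Fact (Nat.Prime 2) := ⟨Nat.prime_two⟩
  by_cases hKtriv : Subsingleton K
  · exact Gen.zero_of_subsingleton.mono (Nat.zero_le r)
  rw [not_subsingleton_iff_nontrivial] at hKtriv
  have hc2 : ∀ x : K, x * x = 1 → x ∈ center K := fun x hx =>
    hcen x (by rw [show x ^ 4 = x * x * (x * x) by rw [pow_succ, pow_succ, pow_two]; group, hx,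
      one_mul])
  let Om : Subgroup K :=
    { carrier := {x | x * x = 1}
      one_mem' := one_mul 1
      mul_mem' := fun {a b} ha hb => by
        show a * b * (a * b) = 1
        rw [mul_assoc, ← mul_assoc b a b, mem_center_iff.1 (hc2 a ha) b, mul_assoc a b b, hb,
          mul_one, ha]
      inv_mem' := fun {a} ha => by
        show a⁻¹ * a⁻¹ = 1
        rw [← mul_inv_rev, ha, inv_one] }
  haveI hOmn : Om.Normal := ⟨fun x hx g => by
    show _ ∈ Om
    rw [mem_center_iff.1 (hc2 x hx) g, mul_inv_cancel_right]; exact hx⟩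
  by_cases hF : Om ≤ frattini K
  · obtain ⟨x, hx⟩ := exists_prime_orderOf_dvd_card' 2 (show 2 ∣ Nat.card K by
      obtain ⟨k, hk⟩ := hK.exists_card_eq
      have := Finite.one_lt_card (α := K)
      rcases k with _ | k
      · simp_all
      · rw [hk]; exact dvd_pow_self 2 k.succ_ne_zero)
    have hxOm : x ∈ Om := by
      show x * x = 1
      rw [← pow_two, ← hx, pow_orderOf_eq_one]
    have hlt : Nat.card (K ⧸ Om) < n := by
      subst hn
      rw [Om.card_eq_card_quotient_mul_card_subgroup]
      have h1 : 1 < Nat.card Om := Finite.one_lt_card_iff_nontrivial.2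
        ⟨⟨⟨x, hxOm⟩, 1, fun e => by
          rw [show x = 1 from congrArg Subtype.val e, orderOf_one] at hx; omega⟩⟩
      exact lt_mul_of_one_lt_right Nat.card_pos h1
    have hcenK : ∀ x : K, x * x * (x * x) ∈ Om → x * x ∈ center K := fun x hx => by
      refine hcen _ ?_
      rw [show (x * x) ^ 4 = x * x * (x * x) * (x * x * (x * x)) by
        rw [pow_succ, pow_succ, pow_two]; group]
      exact hx
    have hq : ∀ q : K ⧸ Om, q ^ 4 = 1 → q ∈ center (K ⧸ Om) := by
      intro q hq
      obtain ⟨x, rfl⟩ := QuotientGroup.mk'_surjective Om q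
      rw [← map_pow, QuotientGroup.mk'_apply, QuotientGroup.eq_one_iff,
        show x ^ 4 = x * x * (x * x) by rw [pow_succ, pow_succ, pow_two]; group] at hq
      refine mem_center_iff.2 fun p => ?_
      obtain ⟨g, rfl⟩ := QuotientGroup.mk'_surjective Om p
      rw [← map_mul, ← map_mul, QuotientGroup.mk'_apply, QuotientGroup.mk'_apply, QuotientGroup.eq]
      set c := x⁻¹ * (g * x * g⁻¹)
      have hcc : c * c = 1 := by
        refine sq_eq_one_of_inverted (S := (⊤ : Subgroup K)) hK (g := x)
          (fun y _ hy => mem_center_iff.1 (hcen y hy) x) c (mem_top c) ?_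
        have h1 : g * x * g⁻¹ * (g * x * g⁻¹) = x * x := by
          rw [show g * x * g⁻¹ * (g * x * g⁻¹) = g * (x * x) * g⁻¹ by group,
            mem_center_iff.1 (hcenK x hq) g, mul_inv_cancel_right]
        rw [eq_inv_iff_mul_eq_one]
        calc x * c * x⁻¹ * c
            = g * x * g⁻¹ * x⁻¹ * (x⁻¹ * (g * x * g⁻¹)) := by simp only [c]; group
          _ = g * x * g⁻¹ * (x * x)⁻¹ * (g * x * g⁻¹) := by group
          _ = g * x * g⁻¹ * (g * x * g⁻¹ * (g * x * g⁻¹))⁻¹ * (g * x * g⁻¹) := by rw [h1]
          _ = 1 := by group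
      show (g * x)⁻¹ * (x * g) ∈ Om
      rw [show (g * x)⁻¹ * (x * g) = g⁻¹ * ((g * x * g⁻¹)⁻¹ * x) * g by group]
      refine hOmn.conj_mem' _ ?_ g
      rw [show (g * x * g⁻¹)⁻¹ * x = c⁻¹ by simp only [c]; group]
      exact Om.inv_mem hcc
    have hcard : Nat.card {q : K ⧸ Om // q * q = 1} ≤ 2 ^ r := by
      refine le_trans ?_ hr
      have hlift : ∀ q : {q : K ⧸ Om // q * q = 1}, ∃ x : K, (x : K ⧸ Om) = q.1 := fun q =>
        QuotientGroup.mk_surjective q.1
      choose s hs using hlift
      have hs2 : ∀ q, s q * s q * (s q * s q) = 1 := fun q => by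
        have h : ((s q * s q : K) : K ⧸ Om) = 1 := by rw [QuotientGroup.mk_mul, hs]; exact q.2
        exact (QuotientGroup.eq_one_iff _).1 h
      refine Nat.card_le_card_of_injective (fun q => (⟨s q * s q, hs2 q⟩ : {x : K // x * x = 1})) ?_
      intro p q hpq
      have hpq' : s p * s p = s q * s q := congrArg Subtype.val hpq
      have hc : s p ∈ center K := hcen _ (by
        rw [show s p ^ 4 = s p * s p * (s p * s p) by rw [pow_succ, pow_succ, pow_two]; group]
        exact hs2 p)
      refine Subtype.ext ?_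
      rw [← hs p, ← hs q, QuotientGroup.eq]
      show (s p)⁻¹ * s q * ((s p)⁻¹ * s q) = 1
      have h1 : s q * (s p)⁻¹ = (s p)⁻¹ * s q := mem_center_iff.1 (inv_mem hc) (s q)
      calc (s p)⁻¹ * s q * ((s p)⁻¹ * s q) = (s p)⁻¹ * (s q * (s p)⁻¹) * s q := by group
        _ = (s p)⁻¹ * (s p)⁻¹ * (s q * s q) := by rw [h1]; group
        _ = (s p * s p)⁻¹ * (s q * s q) := by group
        _ = 1 := by rw [hpq', inv_mul_cancel]
    obtain ⟨T, hT, hT'⟩ := ih _ hlt rfl (hK.to_quotient Om) hq r hcard
    refine ⟨T.image Quotient.out, Finset.card_image_le.trans hT, frattini_nongenerating ?_⟩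
    refine eq_top_iff.2 ?_
    have h1 : (closure ((T.image Quotient.out : Finset K) : Set K)).map (QuotientGroup.mk' Om) = ⊤ := by
      rw [MonoidHom.map_closure, ← hT', Finset.coe_image, Set.image_image]
      simp
    calc (⊤ : Subgroup K) = ((closure ((T.image Quotient.out : Finset K) : Set K)).map
          (QuotientGroup.mk' Om)).comap (QuotientGroup.mk' Om) := by rw [h1, comap_top]
      _ = closure ((T.image Quotient.out : Finset K) : Set K) ⊔ Om := by
          rw [comap_map_eq, QuotientGroup.ker_mk']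
      _ ≤ _ := sup_le_sup_left hF _
  · obtain ⟨z, hz, hzF⟩ := SetLike.not_le_iff_exists.1 hF
    obtain ⟨M, hM, hzM⟩ : ∃ M : Subgroup K, IsCoatom M ∧ z ∉ M := by
      by_contra! hcon
      exact hzF (by rw [frattini, Order.radical, mem_iInf]; exact fun M => mem_iInf.2 (hcon M))
    obtain ⟨hMn, hMi⟩ := CfsgLib.Transfer.coatom_index_eq_prime hK hM
    have hlt : Nat.card M < n := by
      subst hn
      rw [← M.card_mul_index, hMi]
      have : 0 < Nat.card M := Nat.card_pos
      omega
    have h2 : Nat.card {x : M // x * x = 1} * 2 ≤ 2 ^ r := by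
      refine le_trans ?_ hr
      have hzz : z * z = 1 := hz
      have e : Nat.card ({x : M // x * x = 1} × Bool) = Nat.card {x : M // x * x = 1} * 2 := by
        rw [Nat.card_prod]; simp
      rw [← e]
      have hmul : ∀ x : M, x * x = 1 → z * (x : K) * (z * x) = 1 := fun x hx => by
        rw [mul_assoc, ← mul_assoc (x : K) z x, mem_center_iff.1 (hc2 z hzz) (x : K),
          mul_assoc z (x : K) x, show (x : K) * x = 1 from congrArg Subtype.val hx, mul_one, hzz]
      refine Nat.card_le_card_of_injective (fun p : {x : M // x * x = 1} × Bool =>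
        (if p.2 then ⟨z * (p.1.1 : K), hmul p.1.1 p.1.2⟩
          else ⟨(p.1.1 : K), congrArg Subtype.val p.1.2⟩ : {x : K // x * x = 1})) ?_
      rintro ⟨a, s⟩ ⟨b, t⟩ h
      have hzn : ∀ a b : {x : M // x * x = 1}, z * (a.1 : K) ≠ (b.1 : K) := fun a b e =>
        hzM (by rw [show z = (b.1 : K) * (a.1 : K)⁻¹ by rw [← e, mul_inv_cancel_right]]
                exact mul_mem b.1.2 (inv_mem a.1.2))
      rcases s with _ | _ <;> rcases t with _ | _ <;> simp at h
      · simp [Subtype.ext_iff, h]
      · exact absurd h.symm (hzn b a)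
      · exact absurd h (hzn a b)
      · simp [Subtype.ext_iff, h]
    have hcenM : ∀ x : M, x ^ 4 = 1 → x ∈ center M := fun x hx => mem_center_iff.2 fun g =>
      Subtype.ext (mem_center_iff.1 (hcen x (by rw [← SubgroupClass.coe_pow, hx, OneMemClass.coe_one])) g)
    rcases r with _ | r
    · haveI : Nonempty {x : M // x * x = 1} := ⟨⟨1, one_mul 1⟩⟩
      have := Nat.card_pos (α := {x : M // x * x = 1})
      omega
    obtain ⟨T, hT, hTM⟩ := exists_closure_of_gen
      (ih _ hlt rfl (hK.to_subgroup M) hcenM r (by rw [pow_succ] at h2; omega))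
    refine ⟨insert z T, (Finset.card_insert_le _ _).trans (by omega), eq_top_iff.2 ?_⟩
    rw [Finset.coe_insert, Set.insert_eq, Subgroup.closure_union, hTM]
    exact ((hM.2 _ (lt_of_le_of_ne le_sup_right fun e =>
      hzM (e ▸ mem_sup_left (subset_closure (Set.mem_singleton z))))).symm).le

/-- A generating pair can contain a given element outside the Frattini subgroup. -/
theorem exists_partner (hG : IsPGroup 2 G) (h : Gen G 2) {d : G} (hd : d ∉ frattini G) :
    ∃ e : G, closure ({d, e} : Set G) = ⊤ := by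
  classical
  haveI : Fact (Nat.Prime 2) := ⟨Nat.prime_two⟩
  obtain ⟨T, hT, hT'⟩ := h
  obtain ⟨a, b, hab⟩ : ∃ a b : G, (T : Set G) ⊆ {a, b} := by
    rcases Finset.eq_empty_or_nonempty T with rfl | ⟨a, ha⟩
    · exact ⟨1, 1, by simp⟩
    rcases Finset.eq_empty_or_nonempty (T.erase a) with he | ⟨b, hb⟩
    · exact ⟨a, a, fun x hx => by
        by_contra hne
        have : x ∈ T.erase a := Finset.mem_erase.2 ⟨fun e => hne (Or.inl e), hx⟩
        simp [he] at this⟩
    refine ⟨a, b, fun x hx => ?_⟩
    by_contra hne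
    simp only [Set.mem_insert_iff, Set.mem_singleton_iff, not_or] at hne
    have h3 : ({a, b, x} : Finset G).card = 3 := Finset.card_eq_three.2
      ⟨a, b, x, fun e => (Finset.mem_erase.1 hb).1 e.symm, fun e => hne.1 e.symm,
        fun e => hne.2 e.symm, rfl⟩
    have : ({a, b, x} : Finset G) ⊆ T := by
      intro y hy
      simp only [Finset.mem_insert, Finset.mem_singleton] at hy
      rcases hy with rfl | rfl | rfl
      exacts [ha, (Finset.mem_erase.1 hb).2, hx]
    have := Finset.card_le_card this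
    omega
  let π := QuotientGroup.mk' (frattini G)
  have hsq : ∀ q : G ⧸ frattini G, q * q = 1 := fun q => by
    obtain ⟨x, rfl⟩ := QuotientGroup.mk'_surjective _ q
    rw [← map_mul, QuotientGroup.mk'_apply, QuotientGroup.eq_one_iff, ← pow_two]
    exact CfsgLib.Transfer.pow_mem_frattini hG x
  have hgen : closure ({π a, π b} : Set (G ⧸ frattini G)) = ⊤ := by
    rw [eq_top_iff, ← map_top_of_surjective π (QuotientGroup.mk'_surjective _), ← hT',
      MonoidHom.map_closure]
    refine closure_mono ?_
    rintro _ ⟨x, hx, rfl⟩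
    rcases hab hx with rfl | rfl <;> simp
  have hcomm : ∀ p q : G ⧸ frattini G, p * q = q * p := fun p q => by
    have hinv : ∀ c : G ⧸ frattini G, c⁻¹ = c := fun c => inv_eq_of_mul_eq_one_right (hsq c)
    rw [← hinv (p * q), mul_inv_rev, hinv, hinv]
  have hall : ∀ q : G ⧸ frattini G, q = 1 ∨ q = π a ∨ q = π b ∨ q = π a * π b := by
    intro q
    have hq : q ∈ closure ({π a, π b} : Set (G ⧸ frattini G)) := hgen ▸ mem_top q
    refine closure_induction (fun x hx => ?_) (Or.inl rfl) (fun x y _ _ hx hy => ?_)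
      (fun x _ hx => ?_) hq
    · rcases hx with rfl | rfl <;> simp
    · have e : π a * π b * π a = π b := by
        rw [hcomm (π a) (π b), mul_assoc, hsq, mul_one]
      have e' : π a * (π a * π b) = π b := by rw [← mul_assoc, hsq, one_mul]
      have f : π b * (π a * π b) = π a := by rw [hcomm (π a) (π b), ← mul_assoc, hsq, one_mul]
      have f' : π a * π b * π b = π a := by rw [mul_assoc, hsq, mul_one]
      rcases hx with rfl | rfl | rfl | rfl <;> rcases hy with rfl | rfl | rfl | rfl <;>
        simp only [one_mul, mul_one, hsq, e, e', f, f', hcomm (π b) (π a), true_or, or_true]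
    · rw [inv_eq_of_mul_eq_one_right (hsq x)]; exact hx
  have key : ∀ e : G, π a ∈ closure ({π d, π e} : Set (G ⧸ frattini G)) →
      π b ∈ closure ({π d, π e} : Set (G ⧸ frattini G)) → closure ({d, e} : Set G) = ⊤ := by
    intro e ha hb
    refine frattini_nongenerating (eq_top_iff.2 ?_)
    have h1 : closure ({π d, π e} : Set (G ⧸ frattini G)) = ⊤ :=
      eq_top_iff.2 (hgen ▸ (closure_le _).2 (by rintro _ (rfl | rfl) <;> assumption))
    rw [← QuotientGroup.ker_mk' (frattini G), ← comap_map_eq, MonoidHom.map_closure, Set.image_pair,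
      h1, comap_top]
  rcases hall (π d) with h | h | h | h
  · exact absurd ((QuotientGroup.eq_one_iff d).1 h) hd
  · exact ⟨b, key b (h ▸ subset_closure (Or.inl rfl)) (subset_closure (Or.inr rfl))⟩
  · exact ⟨a, key a (subset_closure (Or.inr rfl)) (h ▸ subset_closure (Or.inl rfl))⟩
  · refine ⟨a, key a (subset_closure (Or.inr rfl)) ?_⟩
    have : π b = π a * π d := by rw [h, ← mul_assoc, hsq, one_mul]
    rw [this]
    exact mul_mem (subset_closure (Or.inr rfl)) (subset_closure (Or.inl rfl))

/-- Generators of a subgroup from generators of a quotient and of a kernel. -/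
theorem gen_of_cover (H D : Subgroup G) (S : Finset G) {k : ℕ} (hS : S.card ≤ k)
    (hSH : closure (S : Set G) ≤ H) (hDH : D ≤ H)
    (hcov : ∀ h ∈ H, ∃ s ∈ closure (S : Set G), s⁻¹ * h ∈ D) {l : ℕ} (T : Finset G)
    (hT : T.card ≤ l) (hTD : (T : Set G) ⊆ D) (hD : D ≤ closure (S : Set G) ⊔ closure (T : Set G)) :
    Gen H (k + l) := by
  classical
  refine gen_of_closure_eq (S ∪ T) ((Finset.card_union_le S T).trans (add_le_add hS hT)) ?_
  rw [Finset.coe_union, Subgroup.closure_union]
  refine le_antisymm (sup_le hSH (((closure_le D).2 hTD).trans hDH)) fun h hh => ?_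
  obtain ⟨s, hs, hd⟩ := hcov h hh
  rw [show h = s * (s⁻¹ * h) by group]
  exact mul_mem (mem_sup_left hs) (hD hd)

theorem gen_of_cover' (H D : Subgroup G) (S : Finset G) {k l : ℕ} (hS : S.card ≤ k)
    (hSH : closure (S : Set G) ≤ H) (hDH : D ≤ H)
    (hcov : ∀ h ∈ H, ∃ s ∈ closure (S : Set G), s⁻¹ * h ∈ D) (hD : Gen D l) : Gen H (k + l) := by
  obtain ⟨T, hT, hT'⟩ := exists_closure_of_gen hD
  exact gen_of_cover H D S hS hSH hDH hcov T hT (by rw [← hT']; exact subset_closure)
    (le_sup_of_le_right hT'.ge)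

/-- One generator is saved by an element of `closure S ∩ D` outside the Frattini subgroup. -/
theorem gen_of_cover_saving (hG : IsPGroup 2 G) (H D : Subgroup G) (S : Finset G) {k : ℕ}
    (hS : S.card ≤ k) (hSH : closure (S : Set G) ≤ H) (hDH : D ≤ H)
    (hcov : ∀ h ∈ H, ∃ s ∈ closure (S : Set G), s⁻¹ * h ∈ D) (hD : Gen D 2) (d : D)
    (hdS : (d : G) ∈ closure (S : Set G)) (hd : d ∉ frattini D) : Gen H (k + 1) := by
  obtain ⟨e, he⟩ := exists_partner (hG.to_subgroup D) hD hd
  refine gen_of_cover H D S hS hSH hDH hcov {(e : G)} (by simp) (by simp) fun x hx => ?_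
  have : (⟨x, hx⟩ : D) ∈ closure ({d, e} : Set D) := he ▸ mem_top _
  have h2 : x ∈ (closure ({d, e} : Set D)).map D.subtype := ⟨⟨x, hx⟩, this, rfl⟩
  rw [MonoidHom.map_closure, Set.image_pair] at h2
  refine (closure_le _).2 ?_ h2
  rintro y (rfl | rfl)
  · exact mem_sup_left hdS
  · exact mem_sup_right (subset_closure (by simp))

end CfsgLib.SRank
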