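import Cfsg.Agent.Lib.SRank.SixFour
import Cfsg.Agent.Lib.InvChar.EmbedAltEight
import Cfsg.Agent.Lib.Invol.RankTwoSections

/-!
The quotient of a `2`-constrained group by the Frattini subgroup of its `2`-core, and copies of `S₆`
in `X / O₂(X)`.
-/

set_option autoImplicit false
set_option linter.style.haveILetI false

namespace CfsgLib.SRank

open Subgroup

universe u

variable {X : Type u} [Group X] [Finite X]

/-- The Frattini subgroup of `O₂(X)`, as a subgroup of `X`. -/
def coreFrattini (X : Type u) [Group X] : Subgroup X :=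
  (frattini ↥(Cfsg.pCore 2 X)).map (Cfsg.pCore 2 X).subtype

instance coreFrattini_normal : (coreFrattini X).Normal := by
  haveI := Solvable.pCore_normal 2 X
  exact Solvable.map_subtype_normal _

omit [Finite X] in
theorem coreFrattini_le : coreFrattini X ≤ Cfsg.pCore 2 X := map_subtype_le _

/-- `O₂(X) / Φ(O₂(X))`, as a subgroup of `X / Φ(O₂(X))`. -/
def coreTop (X : Type u) [Group X] [Finite X] : Subgroup (X ⧸ coreFrattini X) :=
  (Cfsg.pCore 2 X).map (QuotientGroup.mk' (coreFrattini X))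

instance coreTop_normal : (coreTop X).Normal := by
  haveI := Solvable.pCore_normal 2 X
  exact Normal.map inferInstance _ (QuotientGroup.mk'_surjective _)

theorem exp2_coreTop : Exp2 (coreTop X) := by
  haveI : Fact (Nat.Prime 2) := ⟨Nat.prime_two⟩
  rintro _ ⟨x, hx, rfl⟩
  rw [← map_mul, QuotientGroup.mk'_apply, QuotientGroup.eq_one_iff, ← pow_two]
  exact ⟨(⟨x, hx⟩ : Cfsg.pCore 2 X) ^ 2,
    StructC.pow_mem_frattini (Solvable.pCore_isPGroup 2) _, rfl⟩

/-- An element centralizing `O₂(X)/Φ(O₂(X))` lies in `O₂(X)`. -/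
theorem centralizer_coreTop_le (hc : Cfsg.IsPConstrained 2 X) (hO : Cfsg.oddCore X = ⊥) :
    centralizer (coreTop X : Set (X ⧸ coreFrattini X)) ≤ coreTop X := by
  haveI : Fact (Nat.Prime 2) := ⟨Nat.prime_two⟩
  haveI hQn := Solvable.pCore_normal 2 X
  set K := (centralizer (coreTop X : Set (X ⧸ coreFrattini X))).comap
    (QuotientGroup.mk' (coreFrattini X)) with hK
  have hKn : K.Normal := Normal.comap inferInstance _
  suffices h : K ≤ Cfsg.pCore 2 X by
    intro y hy
    obtain ⟨g, rfl⟩ := QuotientGroup.mk'_surjective _ y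
    exact mem_map_of_mem _ (h hy)
  refine Solvable.le_pCore hKn fun g => ?_
  obtain ⟨k, m, hm, hkm⟩ := Nat.exists_eq_pow_mul_and_not_dvd (orderOf_pos g).ne' 2 (by norm_num)
  refine ⟨k, Subtype.ext ?_⟩
  rw [Subgroup.coe_pow, Subgroup.coe_one]
  set h := (g : X) ^ 2 ^ k with hh
  have hord : (orderOf h).Coprime 2 := by
    have ho : orderOf h = m := by
      rw [hh, orderOf_pow', Subgroup.orderOf_coe, hkm, Nat.gcd_eq_right (Dvd.intro m rfl),
        Nat.mul_div_cancel_left _ (by positivity)]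
      positivity
    rw [ho]
    exact ((Nat.prime_two.coprime_iff_not_dvd).2 hm).symm
  have hhK : h ∈ K := K.pow_mem g.2 _
  have hcent : h ∈ centralizer (Cfsg.pCore 2 X : Set X) := by
    refine PLocal.centralizes_of_trivial_on_frattini_quotient (Solvable.pCore_isPGroup 2)
      (by rw [Subgroup.normalizer_eq_top]; exact mem_top _) hord fun x hx => ?_
    have h1 : ((h⁻¹ * x * h : X) : X ⧸ coreFrattini X) = x := by
      have h2 := mem_centralizer_iff.1 (show QuotientGroup.mk' (coreFrattini X) h ∈ centralizer _ from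
        hhK) _ (mem_map_of_mem _ hx)
      simp only [QuotientGroup.mk'_apply] at h2
      rw [QuotientGroup.mk_mul, QuotientGroup.mk_mul, QuotientGroup.mk_inv, mul_assoc, h2,
        inv_mul_cancel_left]
    obtain ⟨y, hy, hye⟩ := QuotientGroup.eq.1 h1.symm
    refine ⟨y, hy, ?_⟩
    simpa [mul_assoc] using hye
  obtain ⟨j, hj⟩ := Solvable.pCore_isPGroup 2 ⟨h, InvChar.EmbedAltEight.centralizer_pCore_le hc hO hcent⟩
  have hj' : h ^ 2 ^ j = 1 := congrArg Subtype.val hj
  rw [← orderOf_eq_one_iff]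
  exact Nat.eq_one_of_dvd_coprimes (hord.pow_right j) dvd_rfl (orderOf_dvd_of_pow_eq_one hj')

/-- The section `X/Φ(O₂(X))` over `O₂(X)/Φ(O₂(X))` is `X/O₂(X)`. -/
noncomputable def topEquiv (X : Type u) [Group X] [Finite X] [(Cfsg.pCore 2 X).Normal] :
    (X ⧸ coreFrattini X) ⧸ coreTop X ≃* X ⧸ Cfsg.pCore 2 X :=
  QuotientGroup.quotientQuotientEquivQuotient _ _ coreFrattini_le

theorem card_coreTop_le (h4 : Cfsg.SectionalPRankLE 2 4 X) : Nat.card (coreTop X) ≤ 16 := by
  have h := Invol.prank_of_sectional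
    (Invol.sectional_quotient (coreFrattini X) h4) (coreTop X)
    ⟨⟨fun a b => Subtype.ext (exp2_coreTop.comm a.2 b.2)⟩⟩
    (fun a ha => by rw [pow_two]; exact exp2_coreTop a ha)
  simpa using h

/-- An element of order `5` cannot act faithfully on an elementary group of order at most `8`. -/
theorem act_trivial_five {Y : Type u} [Group Y] [Finite Y] {V : Subgroup Y} [V.Normal] (hV : Exp2 V)
    (h8 : Nat.card V ≤ 8) {y : Y} (hy : y ^ 5 ∈ V) : y ∈ centralizer (V : Set Y) := by
  classical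
  haveI : Fact (Nat.Prime 5) := ⟨by norm_num⟩
  haveI : Fact (Nat.Prime 2) := ⟨Nat.prime_two⟩
  set a : MulAut V := MulAut.conjNormal y with ha
  have ha5 : a ^ 5 = 1 := by
    rw [ha, ← map_pow]
    exact MulEquiv.ext fun v => Subtype.ext (by
      rw [MulAut.conjNormal_apply, MulAut.one_apply, hV.comm hy v.2, mul_inv_cancel_right])
  have hp : IsPGroup 5 (zpowers a) := by
    intro g
    refine ⟨1, Subtype.ext ?_⟩
    obtain ⟨n, hn⟩ := mem_zpowers_iff.1 g.2
    rw [pow_one, Subgroup.coe_pow, Subgroup.coe_one, ← hn, ← zpow_natCast, ← zpow_mul,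
      Int.mul_comm, zpow_mul, zpow_natCast, ha5, one_zpow]
  set F := V ⊓ centralizer ({y} : Set Y) with hF
  have hfix : Nat.card (MulAction.fixedPoints (zpowers a) V) = Nat.card F := by
    have hiff : ∀ v : V, v ∈ MulAction.fixedPoints (zpowers a) V ↔ (v : Y) ∈ centralizer ({y} : Set Y) := by
      intro v
      rw [mem_centralizer_singleton_iff]
      constructor
      · intro h
        have h1 : a v = v := h ⟨a, mem_zpowers a⟩
        have h2 : y * v * y⁻¹ = v := congrArg Subtype.val h1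
        exact (eq_mul_of_mul_inv_eq h2).symm
      · intro h g
        have h1 : a ∈ MulAction.stabilizer (MulAut V) v := by
          refine Subtype.ext ?_
          show y * v * y⁻¹ = v
          rw [← h, mul_inv_cancel_right]
        exact (zpowers_le.2 h1) g.2
    exact Nat.card_congr ⟨fun v => ⟨v.1.1, v.1.2, (hiff _).1 v.2⟩,
      fun v => ⟨⟨v.1, v.2.1⟩, (hiff _).2 v.2.2⟩, fun v => rfl, fun v => rfl⟩
  have hmod : Nat.card V ≡ Nat.card F [MOD 5] := hfix ▸ hp.card_modEq_card_fixedPoints V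
  have hVp : IsPGroup 2 V := fun v => ⟨1, Subtype.ext (by simpa [pow_two] using hV v v.2)⟩
  obtain ⟨n, hn⟩ := hVp.exists_card_eq
  have hd : Nat.card F ∣ 2 ^ n := hn ▸ card_dvd_of_le inf_le_left
  obtain ⟨k, hk, hkF⟩ := (Nat.dvd_prime_pow Nat.prime_two).1 hd
  rw [hn, hkF, Nat.ModEq] at hmod
  have hn3 : n ≤ 3 := (Nat.pow_le_pow_iff_right (a := 2) (by norm_num)).1 (hn ▸ h8)
  have hnk : k = n := by
    interval_cases n <;> interval_cases k <;> first | rfl | (norm_num at hmod)
  have heq : F = V := eq_of_le_of_card_ge inf_le_left (le_of_eq (by rw [hn, hkF, hnk]))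
  refine mem_centralizer_iff.2 fun v hv => ?_
  exact mem_centralizer_singleton_iff.1 (heq.ge hv).2

/-- `X/O₂(X)` contains no `S₆` when `X` has sectional `2`-rank at most `4`. -/
theorem no_six (hc : Cfsg.IsPConstrained 2 X) (hO : Cfsg.oddCore X = ⊥) [(Cfsg.pCore 2 X).Normal]
    (h4 : Cfsg.SectionalPRankLE 2 4 X) (psi : Equiv.Perm (Fin 6) →* X ⧸ Cfsg.pCore 2 X)
    (hpsi : Function.Injective psi) : False := by
  classical
  let phi : Equiv.Perm (Fin 6) →* (X ⧸ coreFrattini X) ⧸ coreTop X :=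
    (topEquiv X).symm.toMonoidHom.comp psi
  have hphi : Function.Injective phi := (topEquiv X).symm.injective.comp hpsi
  have h16 : Nat.card (coreTop X) = 16 := by
    haveI : Fact (Nat.Prime 2) := ⟨Nat.prime_two⟩
    have hp : IsPGroup 2 (coreTop X) := fun v =>
      ⟨1, Subtype.ext (by simpa [pow_two] using exp2_coreTop (X := X) v.1 v.2)⟩
    obtain ⟨k, hk⟩ := hp.exists_card_eq
    have hk4 : k ≤ 4 :=
      (Nat.pow_le_pow_iff_right (a := 2) (by norm_num)).1 (hk ▸ card_coreTop_le h4)
    by_contra hne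
    have h8 : Nat.card (coreTop X) ≤ 8 := by
      rw [hk] at hne ⊢
      interval_cases k <;> simp_all
    obtain ⟨hg5, hg1⟩ := five_cycle.2.2.2.2.1
    set y := (phi (pE * pG)).out with hy
    have hy1 : ((y : X ⧸ coreFrattini X) : (X ⧸ coreFrattini X) ⧸ coreTop X) = phi (pE * pG) :=
      QuotientGroup.out_eq' _
    have hy5 : y ^ 5 ∈ coreTop X :=
      (QuotientGroup.eq_one_iff _).1 (by rw [QuotientGroup.mk_pow, hy1, ← map_pow, hg5, map_one])
    have hmem := centralizer_coreTop_le hc hO (act_trivial_five exp2_coreTop h8 hy5)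
    refine hg1 (hphi ?_)
    rw [map_one, ← hy1, (QuotientGroup.eq_one_iff _).2 hmem]
  exact not_sectional_six ⟨exp2_coreTop, h16, centralizer_coreTop_le hc hO, hphi⟩
    (Invol.sectional_quotient (coreFrattini X) h4)

end CfsgLib.SRank
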