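import Cfsg.Agent.Lib.SRank.Elementary

/-!
Four-generation criteria for `2`-groups with a normal elementary abelian subgroup of order `8` or
`16`.
-/

set_option autoImplicit false
set_option linter.style.haveILetI false

namespace CfsgLib.SRank

open Subgroup
open CfsgLib.TwoLinear (Gen)

universe u

/-- A `2`-group with a self-centralizing subgroup of order at most `4`. -/
theorem selfCentral_small {X : Type u} [Group X] [Finite X] (hX : IsPGroup 2 X) (Q : Subgroup X)
    (hQ4 : Nat.card Q ≤ 4) (hC : centralizer (Q : Set X) = Q) (H : Subgroup X) :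
    Gen H 2 ∧ (IsCyclic H ∨ ∃ z ∈ H, z ∈ Q ∧ z ≠ 1 ∧ z * z = 1) := by
  classical
  haveI : Fact (Nat.Prime 2) := ⟨Nat.prime_two⟩
  by_cases hle : Nat.card X ≤ 4
  · have hH4 : Nat.card H ≤ 4 := (card_le_card_group H).trans hle
    refine ⟨gen_two_of_small (hH4.trans (by norm_num)) (hX.to_subgroup H) (Or.inl hH4), ?_⟩
    by_cases hcy : IsCyclic H
    · exact Or.inl hcy
    have hcomm : ∀ x y : X, x * y = y * x := by
      obtain ⟨n, hn⟩ := hX.exists_card_eq
      have hn2 : n ≤ 2 := (Nat.pow_le_pow_iff_right one_lt_two).1 (by rw [← hn]; simpa using hle)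
      rcases n with _ | _ | _ | n
      · haveI : Subsingleton X := (Nat.card_eq_one_iff_unique.1 (by simpa using hn)).1
        exact fun x y => Subsingleton.elim _ _
      · haveI : Fact (Nat.Prime (Nat.card X)) := ⟨by rw [hn]; norm_num⟩
        haveI : IsCyclic X := isCyclic_of_prime_card rfl
        letI := IsCyclic.commGroup (α := X)
        exact fun x y => mul_comm x y
      · exact fun x y => IsPGroup.commutative_of_card_eq_prime_sq (p := 2) (by simpa using hn) x y
      · omega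
    have hQtop : Q = ⊤ :=
      hC ▸ eq_top_iff.2 fun x _ => mem_centralizer_iff.2 fun q _ => hcomm q x
    obtain ⟨k, hk⟩ := (hX.to_subgroup H).exists_card_eq
    have hk0 : k ≠ 0 := fun e => hcy (by
      rw [e, pow_zero] at hk
      haveI : Subsingleton H := (Nat.card_eq_one_iff_unique.1 hk).1
      infer_instance)
    obtain ⟨z, hz⟩ := exists_prime_orderOf_dvd_card' 2 (hk ▸ dvd_pow_self 2 hk0 : 2 ∣ Nat.card H)
    refine Or.inr ⟨z, z.2, hQtop ▸ mem_top _, fun e => ?_, ?_⟩
    · rw [show z = 1 from Subtype.ext e, orderOf_one] at hz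
      omega
    · rw [← Subgroup.coe_mul, ← pow_two, ← hz, pow_orderOf_eq_one, OneMemClass.coe_one]
  obtain ⟨n, hn⟩ := hX.exists_card_eq
  have hn3 : 3 ≤ n := by
    by_contra hlt
    have := Nat.pow_le_pow_right two_pos (by omega : n ≤ 2)
    omega
  haveI : Nontrivial X := Finite.one_lt_card_iff_nontrivial.1 (by omega)
  haveI := hX.center_nontrivial
  have hZQ : center X ≤ Q := hC ▸ fun x hx => mem_centralizer_iff.2 fun q _ => mem_center_iff.1 hx q
  have hQ : Nat.card Q = 4 := by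
    obtain ⟨k, hk⟩ := (hX.to_subgroup Q).exists_card_eq
    have hk2 : k ≤ 2 := (Nat.pow_le_pow_iff_right one_lt_two).1 (by rw [← hk]; simpa using hQ4)
    by_contra hne
    have hQ2 : Nat.card Q ≤ 2 := by
      rw [hk] at hne ⊢
      interval_cases k <;> omega
    have hZ2 : 1 < Nat.card (center X) := Finite.one_lt_card
    have heq : center X = Q := eq_of_le_of_card_ge hZQ (by omega)
    have htop : Q = ⊤ := hC ▸ eq_top_iff.2 fun x _ => mem_centralizer_iff.2 fun q hq =>
      (mem_center_iff.1 (heq ▸ hq) x).symm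
    rw [htop, card_top] at hQ4
    omega
  have hcl := CfsgLib.Transfer.maxClass_of_self_centralizing hn Q (by rw [hQ]; norm_num) hC
  have hmc : CfsgLib.Coprime.MaxClassUniform.IsMC 2 n X := ⟨hn3, hn, hcl⟩
  have hgen : ∀ K : Subgroup X, Gen K 2 := fun K => by
    obtain ⟨T, hT, hT'⟩ := CfsgLib.Invol.MaxClassRank.exists_gen_le hmc K
    exact gen_of_closure_eq T hT hT'
  refine ⟨hgen H, ?_⟩
  by_cases hcy : IsCyclic H
  · exact Or.inl hcy
  have hZ2 : Nat.card (center X) = 2 := (CfsgLib.Transfer.card_center_of_maxClass hn3 hn hcl).1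
  obtain ⟨⟨z, hz⟩, hz1⟩ := exists_ne (1 : center X)
  have hzz : z * z = 1 := by
    have := pow_card_eq_one' (x := (⟨z, hz⟩ : center X))
    rw [hZ2] at this
    simpa [pow_two] using congrArg Subtype.val this
  refine Or.inr ⟨z, ?_, hZQ hz, fun e => hz1 (Subtype.ext e), hzz⟩
  by_contra hzH
  -- `H × Z` would need three generators
  have hHinf : ∀ x ∈ H, x ∈ zpowers z → x = 1 := by
    intro x hx hxz
    obtain ⟨i, rfl⟩ := mem_zpowers_iff.1 hxz
    rcases Int.even_or_odd' i with ⟨l, rfl | rfl⟩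
    · rw [zpow_mul, zpow_two, hzz, one_zpow]
    · rw [zpow_add, zpow_mul, zpow_two, hzz, one_zpow, one_mul, zpow_one] at hx
      exact absurd hx hzH
  let ψ : ↥H × ↥(zpowers z) →* X := MonoidHom.noncommCoprod H.subtype (zpowers z).subtype
    fun h w => by
      obtain ⟨i, hi⟩ := mem_zpowers_iff.1 w.2
      show (h : X) * w = w * h
      rw [← hi]
      exact mem_center_iff.1 (zpow_mem hz i) h
  have hψ : Function.Injective ψ := by
    refine (injective_iff_map_eq_one ψ).2 fun p hp => ?_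
    have hp' : (p.1 : X) * p.2 = 1 := hp
    have h1 : (p.1 : X) = 1 := hHinf _ p.1.2 (by
      rw [eq_inv_of_mul_eq_one_left hp']; exact inv_mem p.2.2)
    have h2 : (p.2 : X) = 1 := by rwa [h1, one_mul] at hp'
    exact Prod.ext (Subtype.ext h1) (Subtype.ext h2)
  have hg : Gen (↥H × ↥(zpowers z)) 2 :=
    (hgen ψ.range).of_surjective (MonoidHom.ofInjective hψ).symm.toMonoidHom
      (MulEquiv.surjective _)
  let ρ : ↥H × ↥(zpowers z) →* (↥H ⧸ frattini H) × ↥(zpowers z) :=
    MonoidHom.prodMap (QuotientGroup.mk' _) (MonoidHom.id _)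
  have hρ : Function.Surjective ρ := by
    rintro ⟨q, w⟩
    obtain ⟨h, rfl⟩ := QuotientGroup.mk'_surjective _ q
    exact ⟨(h, w), rfl⟩
  have hsq : ∀ q : ↥H ⧸ frattini H, q * q = 1 := fun q => by
    obtain ⟨x, rfl⟩ := QuotientGroup.mk'_surjective _ q
    rw [← map_mul, QuotientGroup.mk'_apply, QuotientGroup.eq_one_iff, ← pow_two]
    exact CfsgLib.Transfer.pow_mem_frattini (hX.to_subgroup H) x
  have hwsq : ∀ w : ↥(zpowers z), w * w = 1 := fun w => by
    obtain ⟨i, hi⟩ := mem_zpowers_iff.1 w.2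
    refine Subtype.ext ?_
    show (w : X) * w = 1
    rw [← hi, ← zpow_add, ← two_mul, zpow_mul, zpow_two, hzz, one_zpow]
  have hsq' : ∀ p : (↥H ⧸ frattini H) × ↥(zpowers z), p * p = 1 :=
    fun p => Prod.ext (hsq p.1) (hwsq p.2)
  have hle4 := card_le_of_gen (fun a b => by
      have hinv : ∀ c : (↥H ⧸ frattini H) × ↥(zpowers z), c⁻¹ = c := fun c =>
        inv_eq_of_mul_eq_one_right (hsq' c)
      rw [← hinv (a * b), mul_inv_rev, hinv, hinv]) hsq' (hg.of_surjective ρ hρ)
  rw [Nat.card_prod, Nat.card_zpowers, orderOf_eq_prime (by rw [pow_two]; exact hzz)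
    (fun e => hz1 (Subtype.ext e))] at hle4
  refine hcy ?_
  have h2 : Nat.card (↥H ⧸ frattini H) ≤ 2 := by omega
  obtain ⟨k, hk⟩ := ((hX.to_subgroup H).to_quotient (frattini H)).exists_card_eq
  haveI : IsCyclic (↥H ⧸ frattini H) := by
    rcases k with _ | k
    · haveI : Subsingleton (↥H ⧸ frattini H) := (Nat.card_eq_one_iff_unique.1 hk).1
      infer_instance
    · rcases k with _ | k
      · exact isCyclic_of_prime_card (p := 2) (by simpa using hk)
      · rw [hk] at h2
        have := Nat.pow_le_pow_right two_pos (show 2 ≤ k + 1 + 1 by omega)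
        omega
  obtain ⟨q, hq⟩ := IsCyclic.exists_generator (α := ↥H ⧸ frattini H)
  obtain ⟨x, rfl⟩ := QuotientGroup.mk'_surjective _ q
  refine isCyclic_iff_exists_zpowers_eq_top.2 ⟨x, frattini_nongenerating ?_⟩
  rw [← QuotientGroup.ker_mk' (frattini H), ← comap_map_eq, MonoidHom.map_zpowers,
    show zpowers (QuotientGroup.mk' (frattini H) x) = ⊤ from eq_top_iff.2 fun y _ => hq y, comap_top]

variable {P : Type u} [Group P] [Finite P]

theorem eq_of_four_lt {D B : Subgroup P} (hle : D ≤ B) (h4 : 4 < Nat.card D) (h8 : Nat.card B ≤ 8) :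
    D = B := by
  refine eq_of_le_of_card_ge hle ?_
  obtain ⟨k, hk⟩ := card_dvd_of_le hle
  have h0 : 0 < Nat.card B := Nat.card_pos
  rcases k with _ | _ | k
  · simp only [mul_zero] at hk; omega
  · rw [hk]; simp
  · nlinarith

theorem gen_elementary {H : Subgroup P} (hH : Exp2 H) {n : ℕ} (hn : Nat.card H ≤ 2 ^ n) : Gen H n := by
  obtain ⟨T, hT, hTH, hle⟩ := extend hH hn n 0 ⊥ bot_le (by rw [pow_zero]; exact Nat.card_pos) rfl
  rw [bot_sup_eq] at hle
  exact gen_of_closure_eq T hT (le_antisymm ((closure_le _).2 hTH) hle)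

/-- Subgroups of the group induced on a normal elementary abelian subgroup of order `8`. -/
theorem gen_two_action (hP : IsPGroup 2 P) (B : Subgroup P) [hBn : B.Normal] (hB : Exp2 B)
    (h8 : Nat.card B = 8) (T : Subgroup (P ⧸ centralizer (B : Set P))) : Gen T 2 := by
  classical
  haveI : Fact (Nat.Prime 2) := ⟨Nat.prime_two⟩
  set C := centralizer (B : Set P)
  have hBne : B ≠ ⊥ := fun e => by rw [e, card_bot] at h8; omega
  obtain ⟨b1, hb1, hb11, hb1c⟩ := CfsgLib.OddLocal.exists_center_of_normal_ne_bot hP B hBne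
  haveI hD1 : (zpowers b1).Normal := ⟨by
    rintro x hx g
    have hxc : x ∈ center P := zpowers_le.2 hb1c hx
    rwa [mem_center_iff.1 hxc g, mul_inv_cancel_right]⟩
  have h2 : Nat.card (zpowers b1) = 2 := by
    rw [Nat.card_zpowers]
    exact orderOf_eq_prime (by rw [pow_two]; exact hB b1 hb1) hb11
  have hlt : zpowers b1 < B := lt_of_le_of_ne (zpowers_le.2 hb1) fun e => by
    rw [e, h8] at h2; omega
  obtain ⟨b2, hb2, hb2n, hb2c⟩ := CfsgLib.OddLocal.exists_central_mod hP _ B hlt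
  have hb1mem : ∀ x ∈ zpowers b1, x = 1 ∨ x = b1 := fun x hx => by
    obtain ⟨i, rfl⟩ := mem_zpowers_iff.1 hx
    rcases Int.even_or_odd' i with ⟨l, rfl | rfl⟩
    · left; rw [zpow_mul, zpow_two, hB b1 hb1, one_zpow]
    · right; rw [zpow_add, zpow_mul, zpow_two, hB b1 hb1, one_zpow, one_mul, zpow_one]
  set U : Finset P := {1, b1, b2, b1 * b2} with hU
  have hUB : ∀ u ∈ U, u ∈ B := by
    intro u hu
    simp only [hU, Finset.mem_insert, Finset.mem_singleton] at hu
    rcases hu with rfl | rfl | rfl | rfl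
    exacts [one_mem _, hb1, hb2, mul_mem hb1 hb2]
  obtain ⟨b3, hb3, hb3U⟩ : ∃ b3 ∈ B, b3 ∉ U := by
    by_contra! hall
    haveI := Fintype.ofFinite B
    have h4 : U.card ≤ 4 := Finset.card_le_four
    have : Nat.card B ≤ U.card := by
      rw [Nat.card_eq_fintype_card, ← Finset.card_univ]
      exact Finset.card_le_card_of_injOn Subtype.val (fun x _ => hall x x.2)
        Subtype.val_injective.injOn
    omega
  have hinv : ∀ {x}, x ∈ B → x⁻¹ = x := fun hx => hB.inv_eq hx
  have hUmul : ∀ u ∈ U, ∀ w ∈ U, u * w ∈ U := by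
    intro u hu w hw
    have e1 : b1 * b1 = 1 := hB b1 hb1
    have e2 : b2 * b2 = 1 := hB b2 hb2
    have e3 : b2 * b1 = b1 * b2 := hB.comm hb2 hb1
    have e4 : b1 * (b1 * b2) = b2 := by rw [← mul_assoc, e1, one_mul]
    have e5 : b2 * (b1 * b2) = b1 := by rw [← mul_assoc, e3, mul_assoc, e2, mul_one]
    have e6 : b1 * b2 * b1 = b2 := by rw [mul_assoc, e3, ← mul_assoc, e1, one_mul]
    have e7 : b1 * b2 * b2 = b1 := by rw [mul_assoc, e2, mul_one]
    have e8 : b1 * b2 * (b1 * b2) = 1 := hB _ (mul_mem hb1 hb2)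
    simp only [hU, Finset.mem_insert, Finset.mem_singleton] at hu hw ⊢
    rcases hu with rfl | rfl | rfl | rfl <;> rcases hw with rfl | rfl | rfl | rfl <;>
      simp only [one_mul, mul_one, e1, e2, e3, e4, e5, e6, e7, e8, true_or, or_true]
  -- the eight elements
  have hcover : ∀ x ∈ B, x ∈ U ∨ b3 * x ∈ U := by
    have h1 : U.card = 4 := by
      rw [hU, Finset.card_insert_of_notMem, Finset.card_insert_of_notMem,
        Finset.card_insert_of_notMem, Finset.card_singleton]
      · simp only [Finset.mem_singleton]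
        exact fun e => hb11 (right_eq_mul.1 e)
      · simp only [Finset.mem_insert, Finset.mem_singleton, not_or]
        exact ⟨fun e => hb2n (e ▸ mem_zpowers b1), fun e => hb2n (by
          rw [show b2 = 1 from left_eq_mul.1 e]; exact one_mem _)⟩
      · simp only [Finset.mem_insert, Finset.mem_singleton, not_or]
        exact ⟨Ne.symm hb11, fun e => hb2n (e ▸ one_mem _), fun e => hb2n (by
          rw [eq_inv_of_mul_eq_one_right e.symm]; exact inv_mem (mem_zpowers b1))⟩
    intro x hx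
    by_contra! hne
    haveI := Fintype.ofFinite B
    have hd : Disjoint (U ∪ U.image (fun u => b3 * u)) {x} := by
      simp only [Finset.disjoint_singleton_right, Finset.mem_union, Finset.mem_image, not_or,
        not_exists, not_and]
      refine ⟨hne.1, fun u hu e => hne.2 ?_⟩
      rwa [← e, ← mul_assoc, hB b3 hb3, one_mul]
    have hdd : Disjoint U (U.image (fun u => b3 * u)) := by
      rw [Finset.disjoint_left]
      intro u hu hu'
      obtain ⟨w, hw, hwu⟩ := Finset.mem_image.1 hu'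
      refine hb3U ?_
      rw [show b3 = u * w⁻¹ by rw [← hwu]; group, hinv (hUB w hw)]
      exact hUmul u hu w hw
    have h9 : (U ∪ U.image (fun u => b3 * u) ∪ {x}).card = 9 := by
      rw [Finset.card_union_of_disjoint hd, Finset.card_union_of_disjoint hdd,
        Finset.card_image_of_injective _ (mul_right_injective b3), h1, Finset.card_singleton]
    have : (U ∪ U.image (fun u => b3 * u) ∪ {x}).card ≤ Nat.card B := by
      rw [Nat.card_eq_fintype_card, ← Finset.card_univ,
        ← Finset.card_map (Function.Embedding.subtype (fun t => t ∈ B))]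
      refine Finset.card_le_card fun t ht => ?_
      simp only [Finset.mem_map, Finset.mem_univ, true_and]
      refine ⟨⟨t, ?_⟩, rfl⟩
      simp only [Finset.mem_union, Finset.mem_image, Finset.mem_singleton] at ht
      rcases ht with (ht | ⟨u, hu, rfl⟩) | rfl
      exacts [hUB t ht, mul_mem hb3 (hUB u hu), hx]
    omega
  have hfix1 : ∀ g : P, g * b1 * g⁻¹ = b1 := fun g => by
    rw [mem_center_iff.1 hb1c g, mul_inv_cancel_right]
  have hb2im : ∀ g : P, g * b2 * g⁻¹ = b2 ∨ g * b2 * g⁻¹ = b1 * b2 := fun g => by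
    rcases hb1mem _ (hb2c g) with e | e
    · exact Or.inl (mul_inv_eq_one.1 e)
    · exact Or.inr (mul_inv_eq_iff_eq_mul.1 e)
  have hUc : ∀ g : P, ∀ u ∈ U, g * u * g⁻¹ ∈ U := by
    intro g u hu
    simp only [hU, Finset.mem_insert, Finset.mem_singleton] at hu
    rcases hu with rfl | rfl | rfl | rfl
    · simp [hU]
    · rw [hfix1]; simp [hU]
    · rcases hb2im g with e | e <;> rw [e] <;> simp [hU]
    · rw [show g * (b1 * b2) * g⁻¹ = g * b1 * g⁻¹ * (g * b2 * g⁻¹) by group, hfix1]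
      rcases hb2im g with e | e <;> rw [e]
      · simp [hU]
      · rw [← mul_assoc, hB b1 hb1, one_mul]; simp [hU]
  have hb3im : ∀ g : P, b3 * (g * b3 * g⁻¹) ∈ U := fun g => by
    refine (hcover _ (hBn.conj_mem b3 hb3 g)).resolve_left fun h => hb3U ?_
    have h' := hUc g⁻¹ _ h
    rwa [inv_inv, show g⁻¹ * (g * b3 * g⁻¹) * g = b3 by group] at h'
  have hT : IsPGroup 2 (P ⧸ C) := hP.to_quotient C
  have hrep : ∀ q : P ⧸ C, ∃ g : P, (g : P ⧸ C) = q := QuotientGroup.mk_surjective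
  choose rep hrep using hrep
  let φ : P ⧸ C → U × Bool := fun q =>
    (⟨b3 * (rep q * b3 * (rep q)⁻¹), hb3im _⟩, decide (rep q * b2 * (rep q)⁻¹ = b2))
  have hφ : Function.Injective φ := by
    intro p q hpq
    simp only [φ, Prod.mk.injEq, Subtype.mk.injEq, decide_eq_decide] at hpq
    rw [← hrep p, ← hrep q, QuotientGroup.eq]
    refine mem_centralizer_iff.2 fun x hx => ?_
    have e2 : rep p * b2 * (rep p)⁻¹ = rep q * b2 * (rep q)⁻¹ := by
      rcases hb2im (rep p) with e | e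
      · rw [e, hpq.2.1 e]
      · rcases hb2im (rep q) with e' | e'
        · exact absurd (e.symm.trans (hpq.2.2 e')) fun h => hb11 (mul_eq_right.1 h)
        · rw [e, e']
    have e3 : rep p * b3 * (rep p)⁻¹ = rep q * b3 * (rep q)⁻¹ := mul_left_cancel hpq.1
    have eU : ∀ u ∈ U, rep p * u * (rep p)⁻¹ = rep q * u * (rep q)⁻¹ := by
      intro u hu
      simp only [hU, Finset.mem_insert, Finset.mem_singleton] at hu
      rcases hu with rfl | rfl | rfl | rfl
      · group
      · rw [hfix1, hfix1]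
      · exact e2
      · rw [show ∀ g : P, g * (b1 * b2) * g⁻¹ = g * b1 * g⁻¹ * (g * b2 * g⁻¹) from fun g => by group,
          show ∀ g : P, g * (b1 * b2) * g⁻¹ = g * b1 * g⁻¹ * (g * b2 * g⁻¹) from fun g => by group,
          hfix1, hfix1, e2]
    have e : rep p * x * (rep p)⁻¹ = rep q * x * (rep q)⁻¹ := by
      rcases hcover x hx with h | h
      · exact eU x h
      · have hxe : x = b3 * (b3 * x) := by rw [← mul_assoc, hB b3 hb3, one_mul]
        calc rep p * x * (rep p)⁻¹ = rep p * b3 * (rep p)⁻¹ * (rep p * (b3 * x) * (rep p)⁻¹) := by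
              conv_lhs => rw [hxe]
              group
          _ = rep q * b3 * (rep q)⁻¹ * (rep q * (b3 * x) * (rep q)⁻¹) := by rw [e3, eU _ h]
          _ = rep q * x * (rep q)⁻¹ := by
              conv_rhs => rw [hxe]
              group
    calc x * ((rep p)⁻¹ * rep q) = (rep p)⁻¹ * (rep p * x * (rep p)⁻¹) * rep q := by group
      _ = (rep p)⁻¹ * (rep q * x * (rep q)⁻¹) * rep q := by rw [e]
      _ = _ := by group
  have hU4 : U.card ≤ 4 := Finset.card_le_four
  have h8T : Nat.card (P ⧸ C) ≤ 8 := by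
    refine (Nat.card_le_card_of_injective φ hφ).trans ?_
    simp only [Nat.card_eq_fintype_card, Fintype.card_prod, Fintype.card_coe, Fintype.card_bool]
    omega
  refine gen_two_of_small ((card_le_card_group T).trans h8T) (hT.to_subgroup T) ?_
  by_cases hT4 : Nat.card T ≤ 4
  · exact Or.inl hT4
  refine Or.inr ?_
  have hTle := card_le_card_group T
  have hP8 : Nat.card (P ⧸ C) = 8 := by
    obtain ⟨k, hk⟩ := hT.exists_card_eq
    rw [hk] at h8T hTle ⊢
    rcases k with _ | _ | _ | _ | k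
    · simp at hTle; omega
    · simp at hTle; omega
    · simp at hTle; omega
    · norm_num
    · have := Nat.pow_le_pow_right two_pos (by omega : 4 ≤ k + 4)
      omega
  have hTtop : T = ⊤ := by
    refine eq_top_of_card_eq T (le_antisymm hTle ?_)
    obtain ⟨k, hk⟩ := (hT.to_subgroup T).exists_card_eq
    rw [hP8]
    rw [hk] at hT4 ⊢
    by_contra hlt
    have : k < 3 := (Nat.pow_lt_pow_iff_right one_lt_two).1 (by norm_num; omega : (2 : ℕ) ^ k < 2 ^ 3)
    interval_cases k <;> simp_all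
  have hbij : Function.Bijective φ := by
    refine (Nat.bijective_iff_injective_and_card φ).2 ⟨hφ, ?_⟩
    have h' := Nat.card_le_card_of_injective φ hφ
    rw [Nat.card_prod] at h' ⊢
    simp only [Nat.card_eq_fintype_card, Fintype.card_coe, Fintype.card_bool] at h' ⊢
    omega
  obtain ⟨q, hq⟩ := hbij.2 (⟨b2, by simp [hU]⟩, false)
  simp only [φ, Prod.mk.injEq, Subtype.mk.injEq, decide_eq_false_iff_not] at hq
  refine ⟨⟨q, hTtop ▸ mem_top q⟩, fun hqq => ?_⟩
  have hqq' : q * q = 1 := congrArg Subtype.val hqq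
  set g := rep q
  rw [← hrep q, ← QuotientGroup.mk_mul, QuotientGroup.eq_one_iff] at hqq'
  have hg3 : g * b3 * g⁻¹ = b3 * b2 := by
    have := congrArg (fun t => b3 * t) hq.1
    simp only [← mul_assoc, hB b3 hb3, one_mul] at this
    exact this
  have hg2 : g * b2 * g⁻¹ = b1 * b2 := (hb2im g).resolve_left hq.2
  have hc := mem_centralizer_iff.1 hqq' b3 hb3
  have h1 : g * g * b3 * (g * g)⁻¹ = b3 := by rw [← hc, mul_inv_cancel_right]
  rw [show g * g * b3 * (g * g)⁻¹ = g * (g * b3 * g⁻¹) * g⁻¹ by group, hg3,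
    show g * (b3 * b2) * g⁻¹ = g * b3 * g⁻¹ * (g * b2 * g⁻¹) by group, hg3, hg2, mul_assoc,
    hB.comm hb2 (mul_mem hb1 hb2), mul_assoc b1, hB b2 hb2, mul_one] at h1
  exact hb11 (mul_eq_left.1 h1)

/-- A normal elementary abelian self-centralizing subgroup of order `16`. -/
theorem gen_four_sixteen (hP : IsPGroup 2 P) (B : Subgroup P) [hBn : B.Normal] (hB : Exp2 B)
    (h16 : Nat.card B ≤ 16) (hBC : centralizer (B : Set P) ≤ B) (Q : Subgroup (P ⧸ B))
    (hQ4 : Nat.card Q ≤ 4) (hQC : centralizer (Q : Set (P ⧸ B)) = Q)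
    (hQfix : ∀ z : P, (z : P ⧸ B) ∈ Q → (z : P ⧸ B) ≠ 1 →
      Nat.card (B ⊓ centralizer ({z} : Set P) : Subgroup P) ≤ 4)
    (H : Subgroup P) : Gen H 4 := by
  classical
  obtain ⟨hg, hcase⟩ := selfCentral_small (hP.to_quotient B) Q hQ4 hQC (H.map (QuotientGroup.mk' B))
  set D := H ⊓ B
  have hD : Exp2 D := hB.mono inf_le_right
  have hD16 : Nat.card D ≤ 16 := (card_le_of_le inf_le_right).trans h16
  have hconj : ∀ h ∈ H, ∀ x ∈ D, h * x * h⁻¹ ∈ D := fun h hh x hx =>
    mem_inf.2 ⟨mul_mem (mul_mem hh hx.1) (inv_mem hh), hBn.conj_mem x hx.2 h⟩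
  rcases hcase with hcy | ⟨q, hqH, hqQ, hq1, hq2⟩
  · by_cases hHB : H ≤ B
    · exact gen_elementary (hB.mono hHB) ((card_le_of_le hHB).trans (by simpa using h16))
    haveI := hcy
    obtain ⟨S, hS, hSH, hcov⟩ := exists_lifts H (CfsgLib.TwoLinear.Gen.one_of_isCyclic
      (G := H.map (QuotientGroup.mk' B)))
    by_cases hD8 : Nat.card D ≤ 8
    · obtain ⟨T, hT, hTD, hle⟩ := extend hD (n := 3) (by simpa using hD8) 3 0 ⊥ bot_le
        (by rw [pow_zero]; exact Nat.card_pos) rfl
      rw [bot_sup_eq] at hle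
      exact gen_over H B S hS hSH hcov T hT hTD (le_sup_of_le_right hle)
    have hBH : B ≤ H := by
      have : D = B := eq_of_le_of_card_ge inf_le_right (by
        obtain ⟨k, hk⟩ := (hP.to_subgroup D).exists_card_eq
        have : 4 ≤ k := by
          by_contra hlt
          have := Nat.pow_le_pow_right two_pos (by omega : k ≤ 3)
          omega
        have := Nat.pow_le_pow_right two_pos this
        omega)
      exact this ▸ inf_le_left
    obtain ⟨h, hhH, hhB⟩ := SetLike.not_le_iff_exists.1 hHB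
    obtain ⟨s, hs, hsh⟩ := hcov h hhH
    have hsB : s ∉ B := fun hsB => hhB (by simpa using mul_mem hsB hsh)
    obtain ⟨b, hb, hbne⟩ : ∃ b ∈ B, s * b * s⁻¹ ≠ b := by
      by_contra! hall
      exact hsB (hBC (mem_centralizer_iff.2 fun b hb => (mul_inv_eq_iff_eq_mul.1 (hall b hb)).symm))
    obtain ⟨T, hT, hTD, hle⟩ := exists_save_moved hD (n := 2) (by simpa using hD16) hs
      (mem_inf.2 ⟨hBH hb, hb⟩) (hconj s ((closure_le H).2 hSH hs) b ⟨hBH hb, hb⟩) hbne
    exact gen_over H B S hS hSH hcov T hT hTD hle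
  obtain ⟨S, hS, hSH, hcov⟩ := exists_lifts H hg
  obtain ⟨y, hy, hyq⟩ := hqH
  obtain ⟨z, hz, hzy⟩ := hcov y hy
  have hzq : (z : P ⧸ B) = q := by rw [← hyq]; exact QuotientGroup.eq.2 hzy
  have hzH : z ∈ H := (closure_le H).2 hSH hz
  have hfix := hQfix z (hzq ▸ hqQ) (hzq ▸ hq1)
  have hzz : ∀ x ∈ D, z * z * x = x * (z * z) := fun x hx =>
    hB.comm (by rw [← QuotientGroup.eq_one_iff, QuotientGroup.mk_mul, hzq, hq2]) hx.2
  have hfixD : Nat.card (D ⊓ centralizer ({z} : Set P) : Subgroup P) ≤ 4 :=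
    (card_le_of_le (inf_le_inf_right _ inf_le_right)).trans hfix
  by_cases hD4 : Nat.card D ≤ 4
  · obtain ⟨T, hT, hTD, hle⟩ := extend hD (n := 2) (by simpa using hD4) 2 0 ⊥ bot_le
      (by rw [pow_zero]; exact Nat.card_pos) rfl
    rw [bot_sup_eq] at hle
    exact gen_over H B S hS hSH hcov T hT hTD (le_sup_of_le_right hle)
  by_cases hD8 : Nat.card D ≤ 8
  · obtain ⟨b, hb, hbne⟩ : ∃ b ∈ D, z * b * z⁻¹ ≠ b := by
      by_contra! hall
      have hle : D ≤ D ⊓ centralizer ({z} : Set P) := fun b hb => mem_inf.2 ⟨hb,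
        mem_centralizer_singleton_iff.2 (mul_inv_eq_iff_eq_mul.1 (hall b hb)).symm⟩
      have := card_le_of_le hle
      omega
    obtain ⟨T, hT, hTD, hle⟩ := exists_save_moved hD (n := 1) (by simpa using hD8) hz hb
      (hconj z hzH b hb) hbne
    exact gen_over H B S hS hSH hcov T hT hTD hle
  have hD16' : 16 ≤ Nat.card D := by
    obtain ⟨k, hk⟩ := (hP.to_subgroup D).exists_card_eq
    have : 4 ≤ k := by
      by_contra hlt
      have := Nat.pow_le_pow_right two_pos (by omega : k ≤ 3)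
      omega
    have := Nat.pow_le_pow_right two_pos this
    omega
  obtain ⟨T, hT, hTD, hle⟩ := exists_save_two hD hD16 hz (hconj z hzH) hzz hfixD hD16'
  exact gen_over H B S hS hSH hcov T hT hTD hle

/-- A normal elementary abelian subgroup of order `8` with two-generated quotient subgroups. -/
theorem gen_four_eight (B : Subgroup P) [hBn : B.Normal] (hB : Exp2 B)
    (h8 : Nat.card B ≤ 8) (hX : ∀ K : Subgroup (P ⧸ B), Gen K 2)
    (hsq : ∀ H : Subgroup P, H ≤ centralizer (B : Set P) → B ≤ H →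
      ¬ IsCyclic (H.map (QuotientGroup.mk' B)) → ∃ c ∈ H, c * c ∈ B ∧ c * c ≠ 1)
    (H : Subgroup P) : Gen H 4 := by
  classical
  set D := H ⊓ B
  have hD : Exp2 D := hB.mono inf_le_right
  have hD8 : Nat.card D ≤ 8 := (card_le_of_le inf_le_right).trans h8
  obtain ⟨S, hS, hSH, hcov⟩ := exists_lifts H (hX (H.map (QuotientGroup.mk' B)))
  have hSH' : closure (S : Set P) ≤ H := (closure_le H).2 hSH
  by_cases hD4 : Nat.card D ≤ 4
  · obtain ⟨T, hT, hTD, hle⟩ := extend hD (n := 2) (by simpa using hD4) 2 0 ⊥ bot_le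
      (by rw [pow_zero]; exact Nat.card_pos) rfl
    rw [bot_sup_eq] at hle
    exact gen_over H B S hS hSH hcov T hT hTD (le_sup_of_le_right hle)
  by_cases hmove : ∃ s ∈ closure (S : Set P), ∃ b ∈ D, s * b * s⁻¹ ≠ b
  · obtain ⟨s, hs, b, hb, hbne⟩ := hmove
    obtain ⟨T, hT, hTD, hle⟩ := exists_save_moved hD (n := 1) (by simpa using hD8) hs hb
      (mem_inf.2 ⟨mul_mem (mul_mem (hSH' hs) hb.1) (inv_mem (hSH' hs)), hBn.conj_mem b hb.2 s⟩) hbne
    exact gen_over H B S hS hSH hcov T hT hTD hle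
  push Not at hmove
  have hBH : B ≤ H := by
    exact (eq_of_four_lt (inf_le_right : D ≤ B) (Nat.lt_of_not_le hD4) h8) ▸ inf_le_left
  have hHC : H ≤ centralizer (B : Set P) := by
    intro h hh
    obtain ⟨s, hs, hsh⟩ := hcov h hh
    rw [show h = s * (s⁻¹ * h) by group]
    refine mul_mem (mem_centralizer_iff.2 fun b hb => ?_) (hB.le_centralizer hsh)
    exact (mul_inv_eq_iff_eq_mul.1 (hmove s hs b ⟨hBH hb, hb⟩)).symm
  by_cases hcy : IsCyclic (H.map (QuotientGroup.mk' B))
  · haveI := hcy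
    obtain ⟨S₁, hS₁, hS₁H, hcov₁⟩ := exists_lifts H (CfsgLib.TwoLinear.Gen.one_of_isCyclic
      (G := H.map (QuotientGroup.mk' B)))
    obtain ⟨T, hT, hTD, hle⟩ := extend hD (n := 3) (by simpa using hD8) 3 0 ⊥ bot_le
      (by rw [pow_zero]; exact Nat.card_pos) rfl
    rw [bot_sup_eq] at hle
    exact gen_over H B S₁ hS₁ hS₁H hcov₁ T hT hTD (le_sup_of_le_right hle)
  obtain ⟨c, hc, hcB, hc1⟩ := hsq H hHC hBH hcy
  obtain ⟨s, hs, hsc⟩ := hcov c hc
  have hss : s * s = c * c := by
    have hcomm : s * (s⁻¹ * c) = (s⁻¹ * c) * s :=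
      (mem_centralizer_iff.1 (hHC (hSH' hs)) _ hsc).symm
    calc s * s = s * s * ((s⁻¹ * c) * (s⁻¹ * c)) := by rw [hB _ hsc, mul_one]
      _ = s * (s * (s⁻¹ * c)) * (s⁻¹ * c) := by group
      _ = s * ((s⁻¹ * c) * s) * (s⁻¹ * c) := by rw [hcomm]
      _ = _ := by group
  obtain ⟨T, hT, hTD, hle⟩ := exists_save_mem hD (n := 2) (by simpa using hD8)
    (L := closure (S : Set P)) (mul_mem hs hs) (hss ▸ mem_inf.2 ⟨mul_mem hc hc, hcB⟩) (hss ▸ hc1)
  exact gen_over H B S hS hSH hcov T hT hTD hle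

/-- `C(B) = B⟨c⟩` with `c ^ 2` equal to the centre `v` of a transvection induced by `a`. -/
theorem gen_four_line (hP : IsPGroup 2 P) (B : Subgroup P) [hBn : B.Normal] (hB : Exp2 B)
    (h8 : Nat.card B = 8) (a c v : P) (hcC : c ∈ centralizer (B : Set P)) (hv : v ∈ B) (hv1 : v ≠ 1)
    (hvc : v ∈ center P) (hcc : c * c = v)
    (hC : ∀ x ∈ centralizer (B : Set P), x ∈ B ∨ c⁻¹ * x ∈ B)
    (hav : ∀ b ∈ B, a * b * a⁻¹ * b⁻¹ = 1 ∨ a * b * a⁻¹ * b⁻¹ = v)
    (he : a * c * a⁻¹ * c⁻¹ ∈ B) (he1 : a * c * a⁻¹ * c⁻¹ ≠ 1) (hev : a * c * a⁻¹ * c⁻¹ ≠ v)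
    (H : Subgroup P) : Gen H 4 := by
  classical
  haveI : Fact (Nat.Prime 2) := ⟨Nat.prime_two⟩
  set C := centralizer (B : Set P) with hCdef
  set D := H ⊓ B
  have hD : Exp2 D := hB.mono inf_le_right
  have hD8 : Nat.card D ≤ 8 := (card_le_of_le inf_le_right).trans h8.le
  obtain ⟨S, hS, hSH, hcov⟩ := exists_lifts H (gen_two_action hP B hB h8 (H.map (QuotientGroup.mk' C)))
  have hSH' : closure (S : Set P) ≤ H := (closure_le H).2 hSH
  by_cases hHB : H ⊓ C ≤ B
  · -- the quotient by `B` is two-generated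
    have hcovB : ∀ h ∈ H, ∃ s ∈ closure (S : Set P), s⁻¹ * h ∈ B := fun h hh => by
      obtain ⟨s, hs, hsh⟩ := hcov h hh
      exact ⟨s, hs, hHB (mem_inf.2 ⟨mul_mem (inv_mem (hSH' hs)) hh, hsh⟩)⟩
    by_cases hD4 : Nat.card D ≤ 4
    · obtain ⟨T, hT, hTD, hle⟩ := extend hD (n := 2) (by simpa using hD4) 2 0 ⊥ bot_le
        (by rw [pow_zero]; exact Nat.card_pos) rfl
      rw [bot_sup_eq] at hle
      exact gen_over H B S hS hSH hcovB T hT hTD (le_sup_of_le_right hle)
    by_cases hmove : ∃ s ∈ closure (S : Set P), ∃ b ∈ D, s * b * s⁻¹ ≠ b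
    · obtain ⟨s, hs, b, hb, hbne⟩ := hmove
      obtain ⟨T, hT, hTD, hle⟩ := exists_save_moved hD (n := 1) (by simpa using hD8) hs hb
        (mem_inf.2 ⟨mul_mem (mul_mem (hSH' hs) hb.1) (inv_mem (hSH' hs)), hBn.conj_mem b hb.2 s⟩) hbne
      exact gen_over H B S hS hSH hcovB T hT hTD hle
    push Not at hmove
    have hBH : B ≤ H := by
      exact (eq_of_four_lt (inf_le_right : D ≤ B) (Nat.lt_of_not_le hD4) h8.le) ▸ inf_le_left
    have hle : H ≤ B := fun h hh => by
      obtain ⟨s, hs, hsh⟩ := hcovB h hh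
      have hsC : s ∈ C := mem_centralizer_iff.2 fun b hb =>
        (mul_inv_eq_iff_eq_mul.1 (hmove s hs b ⟨hBH hb, hb⟩)).symm
      rw [show h = s * (s⁻¹ * h) by group]
      exact mul_mem (hHB (mem_inf.2 ⟨hSH' hs, hsC⟩)) hsh
    exact (gen_elementary (hB.mono hle) (n := 3) ((card_le_of_le hle).trans (by rw [h8]; norm_num))).mono
      (by norm_num)
  -- `H` contains a representative `d` of the non-trivial coset
  obtain ⟨d, hd, hdB⟩ := SetLike.not_le_iff_exists.1 hHB
  have hdc : c⁻¹ * d ∈ B := (hC d hd.2).resolve_left hdB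
  have hdd : d * d = v := by
    have h1 : c⁻¹ * d * c = c * (c⁻¹ * d) := (mem_centralizer_iff.1 hcC _ hdc)
    calc d * d = c * ((c⁻¹ * d) * c) * (c⁻¹ * d) := by group
      _ = c * c * ((c⁻¹ * d) * (c⁻¹ * d)) := by rw [h1]; group
      _ = v := by rw [hB _ hdc, hcc, mul_one]
  have hvD : v ∈ D := mem_inf.2 ⟨hdd ▸ mul_mem hd.1 hd.1, hv⟩
  have key : ∀ (S : Finset P) (k : ℕ), S.card ≤ k → (S : Set P) ⊆ H →
      (∀ h ∈ H, ∃ s ∈ closure (S : Set P), s⁻¹ * h ∈ C) →
      ((insert d S : Finset P).card ≤ k + 1) ∧ ((insert d S : Finset P) : Set P) ⊆ H ∧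
      (∀ h ∈ H, ∃ s ∈ closure ((insert d S : Finset P) : Set P), s⁻¹ * h ∈ B) := by
    intro S k hS hSH hcov
    refine ⟨(Finset.card_insert_le d S).trans (by omega), ?_, fun h hh => ?_⟩
    · rw [Finset.coe_insert]; exact Set.insert_subset hd.1 hSH
    · obtain ⟨s, hs, hsh⟩ := hcov h hh
      have hs' : s ∈ closure ((insert d S : Finset P) : Set P) :=
        closure_mono (by simp) hs
      rcases hC _ hsh with h1 | h1
      · exact ⟨s, hs', h1⟩
      · refine ⟨s * d, mul_mem hs' (subset_closure (by simp)), ?_⟩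
        rw [show (s * d)⁻¹ * h = (c⁻¹ * d)⁻¹ * (c⁻¹ * (s⁻¹ * h)) by group]
        exact mul_mem (inv_mem hdc) h1
  obtain ⟨hS', hSH'', hcov'⟩ := key S 2 hS hSH hcov
  have hdL : d ∈ closure ((insert d S : Finset P) : Set P) := subset_closure (by simp)
  by_cases hD4 : Nat.card D ≤ 4
  · obtain ⟨T, hT, hTD, hle⟩ := exists_save_mem hD (n := 1) (by simpa using hD4)
      (mul_mem hdL hdL) (hdd.symm ▸ hvD) (hdd.symm ▸ hv1)
    exact gen_over H B _ hS' hSH'' hcov' T hT hTD hle
  by_cases hcy : IsCyclic (H.map (QuotientGroup.mk' C))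
  · haveI := hcy
    obtain ⟨S₁, hS₁, hS₁H, hcov₁⟩ := exists_lifts H (CfsgLib.TwoLinear.Gen.one_of_isCyclic
      (G := H.map (QuotientGroup.mk' C)))
    obtain ⟨hS₁', hS₁H', hcov₁'⟩ := key S₁ 1 hS₁ hS₁H hcov₁
    have hdL₁ : d ∈ closure ((insert d S₁ : Finset P) : Set P) := subset_closure (by simp)
    obtain ⟨T, hT, hTD, hle⟩ := exists_save_mem hD (n := 2) (by simpa using hD8)
      (mul_mem hdL₁ hdL₁) (hdd.symm ▸ hvD) (hdd.symm ▸ hv1)
    exact gen_over H B _ hS₁' hS₁H' hcov₁' T hT hTD hle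
  set L := closure ((insert d S : Finset P) : Set P)
  have hLH : L ≤ H := (closure_le H).2 hSH''
  have hvL : v ∈ L := hdd ▸ mul_mem hdL hdL
  have hDB : D = B := eq_of_four_lt (inf_le_right : D ≤ B) (Nat.lt_of_not_le hD4) h8.le
  by_cases hout : ∃ s ∈ closure (S : Set P), ∃ b ∈ B,
      s * b * s⁻¹ * b⁻¹ ≠ 1 ∧ s * b * s⁻¹ * b⁻¹ ≠ v
  · obtain ⟨s, hs, b, hb, h1, h2⟩ := hout
    have hsL : s ∈ L := closure_mono (by simp) hs
    have hbD : b ∈ D := hDB.symm ▸ hb
    -- a commutator of `L` with `b`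
    obtain ⟨T, hT, hTD, hle⟩ := exists_save_moved hD (n := 1) (by simpa using hD8) hsL hbD
      (mem_inf.2 ⟨mul_mem (mul_mem (hLH hsL) hbD.1) (inv_mem (hLH hsL)), hBn.conj_mem b hb s⟩)
      (fun e => h1 (mul_inv_eq_one.2 e))
    -- `v`, `b` and the conjugate of `b` generate
    set t := s * b * s⁻¹ * b⁻¹
    have htD : t ∈ D := mul_mem (mem_inf.2 ⟨mul_mem (mul_mem (hLH hsL) hbD.1) (inv_mem (hLH hsL)),
      hBn.conj_mem b hb s⟩) (inv_mem hbD)
    have hT1 : ∃ T : Finset P, T.card ≤ 1 ∧ (T : Set P) ⊆ D ∧ D ≤ L ⊔ closure (T : Set P) := by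
      refine ⟨{b}, by simp, by simp [hbD], ?_⟩
      set M := L ⊔ closure (({b} : Finset P) : Set P)
      have hbM : b ∈ M := mem_sup_right (subset_closure (by simp))
      have htM : t ∈ M := mul_mem (mul_mem (mul_mem (mem_sup_left hsL) hbM)
        (inv_mem (mem_sup_left hsL))) (inv_mem hbM)
      have hvM : v ∈ M := mem_sup_left hvL
      have hbv : b ≠ v := fun e => h1 (by
        simp only [t, e, mem_center_iff.1 hvc s, mul_inv_cancel_right, mul_inv_cancel])
      have hb1 : b ≠ 1 := fun e => h1 (by simp [t, e])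
      have htb : t ≠ b := fun e => hb1 (by
        have h3 : s * b * s⁻¹ = b * b := by rw [← mul_inv_eq_iff_eq_mul]; exact e
        rwa [hB b hb, conj_eq_one_iff] at h3)
      have htbv : t ≠ b * v := fun e => hbv (by
        have h3 : s * b * s⁻¹ = b * v * b := by rw [← mul_inv_eq_iff_eq_mul]; exact e
        rw [hB.comm hb hv, mul_assoc v, hB b hb, mul_one] at h3
        have h4 : s * v * s⁻¹ = v := by rw [mem_center_iff.1 hvc s, mul_inv_cancel_right]
        exact mul_left_cancel (mul_right_cancel (h3.trans h4.symm)))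
      have hsub : ({1, v, b, b * v, t} : Finset P).card = 5 := by
        rw [Finset.card_insert_of_notMem, Finset.card_insert_of_notMem,
          Finset.card_insert_of_notMem, Finset.card_insert_of_notMem, Finset.card_singleton]
        · simp [Ne.symm htbv]
        · simp only [Finset.mem_insert, Finset.mem_singleton, not_or]
          exact ⟨fun e => hv1 (left_eq_mul.1 e), Ne.symm htb⟩
        · simp only [Finset.mem_insert, Finset.mem_singleton, not_or]
          exact ⟨Ne.symm hbv, fun e => hb1 (right_eq_mul.1 e), Ne.symm h2⟩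
        · simp only [Finset.mem_insert, Finset.mem_singleton, not_or]
          exact ⟨Ne.symm hv1, Ne.symm hb1, fun e => hbv (by
            rw [eq_inv_of_mul_eq_one_left e.symm, hB.inv_eq hv]), Ne.symm h1⟩
      have h5 : 5 ≤ Nat.card (D ⊓ M : Subgroup P) := by
        rw [← hsub]
        haveI := Fintype.ofFinite (D ⊓ M : Subgroup P)
        rw [Nat.card_eq_fintype_card, ← Finset.card_univ,
          ← Finset.card_map (Function.Embedding.subtype (fun x => x ∈ (D ⊓ M : Subgroup P)))]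
        refine Finset.card_le_card fun x hx => ?_
        simp only [Finset.mem_map, Finset.mem_univ, true_and]
        refine ⟨⟨x, ?_⟩, rfl⟩
        simp only [Finset.mem_insert, Finset.mem_singleton] at hx
        rcases hx with rfl | rfl | rfl | rfl | rfl
        exacts [one_mem _, ⟨hvD, hvM⟩, ⟨hbD, hbM⟩, ⟨mul_mem hbD hvD, mul_mem hbM hvM⟩, ⟨htD, htM⟩]
      obtain ⟨k, hk⟩ := (hP.to_subgroup (D ⊓ M : Subgroup P)).exists_card_eq
      have hk3 : 3 ≤ k := by
        by_contra hlt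
        have := Nat.pow_le_pow_right two_pos (by omega : k ≤ 2)
        omega
      have := Nat.pow_le_pow_right two_pos hk3
      exact inf_eq_left.1 (eq_of_le_of_card_ge inf_le_left (by omega))
    obtain ⟨T₁, hT₁, hT₁D, hle₁⟩ := hT1
    exact gen_over H B _ hS' hSH'' hcov' T₁ hT₁ hT₁D hle₁
  push Not at hout
  suffices h : ∃ t ∈ L ⊓ D, t ≠ 1 ∧ t ≠ v by
    obtain ⟨t, ht, ht1, htv⟩ := h
    set K := closure ({v, t} : Set P)
    have hKD : K ≤ D := (closure_le D).2 (by rintro _ (rfl | rfl); exacts [hvD, ht.2])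
    have h4 : 2 ^ 2 ≤ Nat.card K := by
      have hsub : ({1, v, t} : Finset P).card = 3 := Finset.card_eq_three.2
        ⟨1, v, t, Ne.symm hv1, Ne.symm ht1, Ne.symm htv, rfl⟩
      have h3 : ({1, v, t} : Finset P).card ≤ Nat.card K := by
        haveI := Fintype.ofFinite K
        rw [Nat.card_eq_fintype_card, ← Finset.card_univ,
          ← Finset.card_map (Function.Embedding.subtype (fun x => x ∈ K))]
        refine Finset.card_le_card fun x hx => ?_
        simp only [Finset.mem_map, Finset.mem_univ, true_and]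
        refine ⟨⟨x, ?_⟩, rfl⟩
        simp only [Finset.mem_insert, Finset.mem_singleton] at hx
        rcases hx with rfl | rfl | rfl
        exacts [one_mem _, subset_closure (Or.inl rfl), subset_closure (Or.inr rfl)]
      obtain ⟨k, hk⟩ := (hP.to_subgroup K).exists_card_eq
      rcases k with _ | _ | k
      · omega
      · omega
      · rw [hk]; exact Nat.pow_le_pow_right two_pos (by omega)
    obtain ⟨T, hT, hTD, hle⟩ := extend hD (n := 3) (by simpa using hD8) 1 2 K hKD h4 rfl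
    refine gen_over H B _ hS' hSH'' hcov' T hT hTD (hle.trans (sup_le_sup_right ?_ _))
    exact (closure_le L).2 (by rintro _ (rfl | rfl); exacts [hvL, ht.1])
  -- all elements of `H` induce transvections with centre `v`; one agrees with `a`
  let M : Subgroup P :=
    { carrier := {x | ∀ b ∈ B, x * b * x⁻¹ * b⁻¹ = 1 ∨ x * b * x⁻¹ * b⁻¹ = v}
      one_mem' := fun b _ => Or.inl (by group)
      mul_mem' := fun {x y} hx hy b hb => by
        have e : x * y * b * (x * y)⁻¹ * b⁻¹ =
            x * (y * b * y⁻¹ * b⁻¹) * x⁻¹ * (x * b * x⁻¹ * b⁻¹) := by group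
        rw [e]
        rcases hy b hb with h1 | h1 <;> rw [h1]
        · rw [mul_one, mul_inv_cancel, one_mul]; exact hx b hb
        · rw [mem_center_iff.1 hvc x, mul_inv_cancel_right]
          rcases hx b hb with h2 | h2 <;> rw [h2]
          · exact Or.inr (mul_one v)
          · exact Or.inl (hB v hv)
      inv_mem' := fun {x} hx b hb => by
        rcases hx _ (hBn.conj_mem b hb x⁻¹) with h | h <;> rw [inv_inv] at h ⊢
        · left
          rw [show x * (x⁻¹ * b * x) * x⁻¹ = b by group, mul_inv_eq_one] at h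
          rw [← h, mul_inv_cancel]
        · right
          rw [show x * (x⁻¹ * b * x) * x⁻¹ = b by group, mul_inv_eq_iff_eq_mul] at h
          rw [mul_inv_eq_iff_eq_mul]
          exact mul_left_cancel (a := v) (h.symm.trans (by rw [← mul_assoc, hB v hv, one_mul])) }
  have hHM : H ≤ M := by
    intro h hh
    obtain ⟨s, hs, hsh⟩ := hcov h hh
    rw [show h = s * (s⁻¹ * h) by group]
    refine mul_mem (fun b hb => ?_) (fun b hb => Or.inl ?_)
    · by_cases h1 : s * b * s⁻¹ * b⁻¹ = 1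
      · exact Or.inl h1
      · exact Or.inr (hout s hs b hb h1)
    · rw [← mem_centralizer_iff.1 hsh b hb, mul_inv_cancel_right, mul_inv_cancel]
  obtain ⟨T₀, hT₀, hT₀B, hBT₀⟩ := extend hB (n := 3) h8.le 2 1 (zpowers v) (zpowers_le.2 hv) (by
    rw [Nat.card_zpowers, pow_one, orderOf_eq_prime (by rw [pow_two]; exact hB v hv) hv1]) rfl
  have hrep : ∀ q : M.map (QuotientGroup.mk' C), ∃ x ∈ M, (x : P ⧸ C) = q.1 := fun q =>
    let ⟨x, hx, hxq⟩ := q.2; ⟨x, hx, hxq⟩
  choose rep hrepM hrepq using hrep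
  let φ : M.map (QuotientGroup.mk' C) → T₀ → Bool := fun q b =>
    decide (rep q * (b : P) * (rep q)⁻¹ * (b : P)⁻¹ = 1)
  have hφ : Function.Injective φ := by
    intro p q hpq
    refine Subtype.ext ?_
    rw [← hrepq p, ← hrepq q, QuotientGroup.eq]
    refine mem_centralizer_iff.2 fun x hx => ?_
    have hle : zpowers v ⊔ closure (T₀ : Set P) ≤ centralizer ({(rep p)⁻¹ * rep q} : Set P) := by
      refine sup_le (zpowers_le.2 (mem_centralizer_singleton_iff.2 ?_)) ((closure_le _).2 fun b hb => ?_)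
      · exact (mem_center_iff.1 hvc _).symm
      · refine mem_centralizer_singleton_iff.2 ?_
        have e := congrFun hpq ⟨b, hb⟩
        simp only [φ, decide_eq_decide] at e
        have e' : rep p * b * (rep p)⁻¹ * b⁻¹ = rep q * b * (rep q)⁻¹ * b⁻¹ := by
          rcases hrepM p b (hT₀B hb) with h1 | h1 <;> rcases hrepM q b (hT₀B hb) with h2 | h2
          · rw [h1, h2]
          · exact absurd ((e.1 h1).symm.trans h2) (Ne.symm hv1)
          · exact absurd ((e.2 h2).symm.trans h1) (Ne.symm hv1)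
          · rw [h1, h2]
        have e'' := mul_right_cancel e'
        calc b * ((rep p)⁻¹ * rep q) = (rep p)⁻¹ * (rep p * b * (rep p)⁻¹) * rep q := by group
          _ = (rep p)⁻¹ * (rep q * b * (rep q)⁻¹) * rep q := by rw [e'']
          _ = _ := by group
    exact mem_centralizer_singleton_iff.1 (hle (hBT₀ hx))
  have hM4 : Nat.card (M.map (QuotientGroup.mk' C)) ≤ 4 := by
    refine (Nat.card_le_card_of_injective φ hφ).trans ?_
    simp only [Nat.card_eq_fintype_card, Fintype.card_fun, Fintype.card_coe, Fintype.card_bool]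
    exact (Nat.pow_le_pow_right two_pos hT₀).trans (by norm_num)
  have hH4 : 4 ≤ Nat.card (H.map (QuotientGroup.mk' C)) := by
    obtain ⟨k, hk⟩ := ((hP.to_quotient C).to_subgroup (H.map (QuotientGroup.mk' C))).exists_card_eq
    rcases k with _ | _ | k
    · haveI : Subsingleton (H.map (QuotientGroup.mk' C)) := (Nat.card_eq_one_iff_unique.1 hk).1
      exact (hcy inferInstance).elim
    · exact absurd (isCyclic_of_prime_card (p := 2) (by simpa using hk)) hcy
    · rw [hk]; exact le_trans (by norm_num) (Nat.pow_le_pow_right two_pos (by omega : 2 ≤ k + 2))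
  have heq : H.map (QuotientGroup.mk' C) = M.map (QuotientGroup.mk' C) :=
    eq_of_le_of_card_ge (map_mono hHM) (hM4.trans hH4)
  obtain ⟨h, hh, hha⟩ : (a : P ⧸ C) ∈ H.map (QuotientGroup.mk' C) :=
    heq ▸ mem_map_of_mem (QuotientGroup.mk' C) (show a ∈ M from hav)
  obtain ⟨s, hs, hsh⟩ := hcov h hh
  have hsa : a⁻¹ * s ∈ C := by
    have h1 : a⁻¹ * h ∈ C := QuotientGroup.eq.1 hha.symm
    rw [show a⁻¹ * s = a⁻¹ * h * (s⁻¹ * h)⁻¹ by group]
    exact mul_mem h1 (inv_mem hsh)
  have hsL : s ∈ L := closure_mono (by simp) hs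
  have hCcomm : ∀ x ∈ C, x * d * x⁻¹ = d := by
    intro x hx
    rcases hC x hx with hxB | hxB
    · rw [(mem_centralizer_iff.1 hd.2 x hxB), mul_inv_cancel_right]
    · rw [show x = c * (c⁻¹ * x) by group,
        show c * (c⁻¹ * x) * d * (c * (c⁻¹ * x))⁻¹ = c * ((c⁻¹ * x) * d * (c⁻¹ * x)⁻¹) * c⁻¹ by group,
        mem_centralizer_iff.1 hd.2 _ hxB, mul_inv_cancel_right, show d = c * (c⁻¹ * d) by group,
        show c * (c * (c⁻¹ * d)) * c⁻¹ = c * (c * (c⁻¹ * d) * c⁻¹) by group,
        ← mem_centralizer_iff.1 hcC _ hdc, mul_inv_cancel_right]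
      exact (mem_centralizer_iff.1 hcC _ hdc).symm
  have hte : s * d * s⁻¹ * d⁻¹ =
      a * c * a⁻¹ * c⁻¹ * (a * (c⁻¹ * d) * a⁻¹ * (c⁻¹ * d)⁻¹) := by
    have h1 : s * d * s⁻¹ = a * d * a⁻¹ := by
      calc s * d * s⁻¹ = a * ((a⁻¹ * s) * d * (a⁻¹ * s)⁻¹) * a⁻¹ := by group
        _ = _ := by rw [hCcomm _ hsa]
    have h2 : ∀ y ∈ B, c⁻¹ * y = y * c⁻¹ := fun y hy => (mem_centralizer_iff.1 (inv_mem hcC) y hy).symm
    rw [h1]
    calc a * d * a⁻¹ * d⁻¹
        = a * c * a⁻¹ * ((a * (c⁻¹ * d) * a⁻¹ * (c⁻¹ * d)⁻¹) * c⁻¹) := by group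
      _ = a * c * a⁻¹ * (c⁻¹ * (a * (c⁻¹ * d) * a⁻¹ * (c⁻¹ * d)⁻¹)) := by
        rw [h2 _ (mul_mem (hBn.conj_mem _ hdc a) (inv_mem hdc))]
      _ = _ := by group
  refine ⟨s * d * s⁻¹ * d⁻¹, mem_inf.2 ⟨mul_mem (mul_mem (mul_mem hsL hdL) (inv_mem hsL))
    (inv_mem hdL), mem_inf.2 ⟨mul_mem (mul_mem (mul_mem (hSH' hs) hd.1) (inv_mem (hSH' hs)))
      (inv_mem hd.1), ?_⟩⟩, ?_, ?_⟩
  · rw [hte]; exact mul_mem he (mul_mem (hBn.conj_mem _ hdc a) (inv_mem hdc))
  · rw [hte]
    rcases hav _ hdc with h1 | h1 <;> rw [h1]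
    · rwa [mul_one]
    · intro h; exact hev (by rw [eq_inv_of_mul_eq_one_left h, hB.inv_eq hv])
  · rw [hte]
    rcases hav _ hdc with h1 | h1 <;> rw [h1]
    · rwa [mul_one]
    · intro h; exact he1 (mul_eq_right.1 h)

end CfsgLib.SRank
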