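import Cfsg.Agent.Lib.SRank.SelfCentral

/-!
A `2`-group in which the involutions of a four group `B` have centralizer `D × B`, `D` dihedral or
quasi-dihedral (Harada).
-/

set_option autoImplicit false
set_option linter.style.haveILetI false

namespace CfsgLib.SRank

open Subgroup
open CfsgLib.TwoLinear (Gen)

/-- What is used about a dihedral or quasi-dihedral group. -/
def Shape (X : Type*) [Group X] : Prop :=
  ∃ c : X, 2 * orderOf c = Nat.card X ∧
    ((Nat.card X = 4 ∧ ∀ x : X, x * x = 1) ∨ ∃ u v : X, u * v ≠ v * u)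

theorem Shape.of_equiv {X Y : Type*} [Group X] [Group Y] (e : X ≃* Y) (h : Shape X) : Shape Y := by
  obtain ⟨c, hc, h'⟩ := h
  refine ⟨e c, by rw [e.orderOf_eq, hc, Nat.card_congr e.toEquiv], ?_⟩
  rcases h' with ⟨h4, h2⟩ | ⟨u, v, huv⟩
  · refine Or.inl ⟨by rw [← Nat.card_congr e.toEquiv, h4], fun y => ?_⟩
    obtain ⟨x, rfl⟩ := e.surjective y
    rw [← map_mul, h2, map_one]
  · exact Or.inr ⟨e u, e v, fun h => huv (e.injective (by rw [map_mul, map_mul, h]))⟩

theorem shape_dihedral (m : ℕ) (hm : 2 ≤ m) : Shape (DihedralGroup m) := by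
  refine ⟨DihedralGroup.r 1, by rw [DihedralGroup.orderOf_r_one, DihedralGroup.nat_card], ?_⟩
  rcases Nat.eq_or_lt_of_le hm with rfl | h3
  · exact Or.inl ⟨DihedralGroup.nat_card, by decide⟩
  · refine Or.inr ⟨DihedralGroup.r 1, DihedralGroup.sr 0, ?_⟩
    intro h
    rw [DihedralGroup.r_mul_sr, DihedralGroup.sr_mul_r, DihedralGroup.sr.injEq] at h
    have h2 : ((2 : ℕ) : ZMod m) = 0 := by
      rw [Nat.cast_ofNat]
      linear_combination -h
    rw [ZMod.natCast_eq_zero_iff] at h2
    exact absurd (Nat.le_of_dvd two_pos h2) (by omega)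

theorem shape_quasiDihedral {X : Type*} [Group X] (h : Cfsg.IsQuasiDihedral X) : Shape X := by
  obtain ⟨n, hn, hc, x, y, hx, -, hrel⟩ := h
  refine ⟨x, by rw [hx, hc, pow_succ, mul_comm], Or.inr ⟨y, x, fun h' => ?_⟩⟩
  rw [h', mul_inv_cancel_right] at hrel
  have h1 : 2 ≤ 2 ^ (n - 1) := le_self_pow₀ one_le_two (by omega)
  have h2 : x ^ (2 ^ (n - 1) - 2) = 1 := by
    have : x ^ (2 ^ (n - 1) - 2) * x = x := by
      rw [← pow_succ, show 2 ^ (n - 1) - 2 + 1 = 2 ^ (n - 1) - 1 by omega, ← hrel]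
    exact mul_eq_right.1 this
  have h3 := orderOf_dvd_of_pow_eq_one h2
  rw [hx] at h3
  have h4 : 4 ≤ 2 ^ (n - 1) := le_trans (by norm_num) (Nat.pow_le_pow_right two_pos (by omega : 2 ≤ n - 1))
  have h5 := Nat.le_of_dvd (by omega) h3
  have h6 : 2 ^ (n - 1) < 2 ^ n := Nat.pow_lt_pow_right one_lt_two (by omega)
  omega

universe u

variable {S : Type u} [Group S] [Finite S]

/-- The hypotheses. -/
structure FourData (T D B : Subgroup S) : Prop where
  hS : IsPGroup 2 S
  hDT : D ≤ T
  hBT : B ≤ T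
  hcomm : ∀ d ∈ D, ∀ b ∈ B, d * b = b * d
  hinf : D ⊓ B = ⊥
  hsup : D ⊔ B = T
  hB : Exp2 B
  hB4 : Nat.card B = 4
  shape : Shape D
  hcent : ∀ b ∈ B, b ≠ 1 → centralizer ({b} : Set S) = T

namespace FourData

variable {T D B : Subgroup S} (s : FourData T D B)
include s

/-- The product map. -/
theorem exists_hom : ∃ f : D × B →* S, Function.Injective f ∧ f.range = T ∧
    ∀ p, f p = (p.1 : S) * p.2 := by
  refine ⟨MonoidHom.noncommCoprod D.subtype B.subtype fun d b => s.hcomm d d.2 b b.2, ?_, ?_,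
    fun p => rfl⟩
  · refine (injective_iff_map_eq_one _).2 fun p hp => ?_
    have hp' : (p.1 : S) * p.2 = 1 := hp
    have h1 : (p.1 : S) ∈ D ⊓ B := mem_inf.2 ⟨p.1.2, by
      rw [eq_inv_of_mul_eq_one_left hp']; exact inv_mem p.2.2⟩
    rw [s.hinf, mem_bot] at h1
    rw [h1, one_mul] at hp'
    exact Prod.ext (Subtype.ext h1) (Subtype.ext hp')
  · exact (MonoidHom.noncommCoprod_range _ _ _).trans (by rw [range_subtype, range_subtype, s.hsup])

theorem gen_le_T {H : Subgroup S} (hH : H ≤ T) : Gen H 4 := by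
  obtain ⟨f, hf, hfr, hfv⟩ := s.exists_hom
  obtain ⟨c, hc, -⟩ := s.shape
  let e : (D × B) ≃* T := (MonoidHom.ofInjective hf).trans (MulEquiv.subgroupCongr hfr)
  let π : H →* D := (MonoidHom.fst D B).comp (e.symm.toMonoidHom.comp (Subgroup.inclusion hH))
  have hidx : (zpowers c).index = 2 := by
    have h := (zpowers c).card_mul_index
    rw [Nat.card_zpowers, ← hc, mul_comm 2] at h
    exact Nat.eq_of_mul_eq_mul_left (orderOf_pos c) h
  haveI : (zpowers c).Normal := normal_of_index_eq_two hidx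
  refine (Gen.of_ker_range π (a := 2) (b := 2) ?_ ?_).mono le_rfl
  · have hker : ∀ k : π.ker, ((k : H) : S) ∈ B := fun k => by
      set p := e.symm (Subgroup.inclusion hH k)
      have h1 : p.1 = 1 := MonoidHom.mem_ker.1 k.2
      have h2 : ((k : H) : S) = f p :=
        (congrArg Subtype.val (e.apply_symm_apply (Subgroup.inclusion hH (k : H)))).symm
      rw [h2, hfv, h1, OneMemClass.coe_one, one_mul]
      exact p.2.2
    have hle : π.ker.map H.subtype ≤ B := by
      rintro _ ⟨x, hx, rfl⟩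
      exact hker ⟨x, hx⟩
    exact (gen_elementary (s.hB.mono hle) (n := 2) (by
      simpa [s.hB4] using card_le_of_le hle)).of_surjective
        (π.ker.equivMapOfInjective H.subtype H.subtype_injective).symm.toMonoidHom
        (MulEquiv.surjective _)
  · let ψ : π.range →* D ⧸ zpowers c := (QuotientGroup.mk' (zpowers c)).comp π.range.subtype
    haveI : IsCyclic (D ⧸ zpowers c) := by
      haveI : Fact (Nat.Prime 2) := ⟨Nat.prime_two⟩
      exact isCyclic_of_prime_card (p := 2) (by rw [← hidx]; rfl)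
    haveI : IsCyclic ψ.range := inferInstance
    haveI : IsCyclic ψ.ker := by
      have hle : ψ.ker.map π.range.subtype ≤ zpowers c := by
        rintro _ ⟨x, hx, rfl⟩
        exact (QuotientGroup.eq_one_iff _).1 hx
      haveI : IsCyclic (ψ.ker.map π.range.subtype) :=
        isCyclic_of_injective (Subgroup.inclusion hle) (inclusion_injective hle)
      exact isCyclic_of_injective
        (ψ.ker.equivMapOfInjective π.range.subtype π.range.subtype_injective).toMonoidHom
        (MulEquiv.injective _)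
    exact Gen.of_ker_range ψ Gen.one_of_isCyclic Gen.one_of_isCyclic

theorem mem_of_fixes {g b : S} (hb : b ∈ B) (hb1 : b ≠ 1) (h : b * g = g * b) : g ∈ T :=
  s.hcent b hb hb1 ▸ mem_centralizer_singleton_iff.2 h.symm

/-- Fixed points of `g ∉ T` meet `B` trivially. -/
theorem four_mul_card_le {Z : Subgroup S} (hBZ : B ≤ Z) {g : S} (hg : g ∉ T) :
    Nat.card (Z ⊓ centralizer ({g} : Set S) : Subgroup S) * 4 ≤ Nat.card Z := by
  rw [← s.hB4, ← Nat.card_prod]
  refine Nat.card_le_card_of_injective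
    (fun p : (Z ⊓ centralizer ({g} : Set S) : Subgroup S) × B =>
      (⟨(p.1 : S) * p.2, mul_mem p.1.2.1 (hBZ p.2.2)⟩ : Z)) ?_
  rintro ⟨x, b⟩ ⟨x', b'⟩ h
  have h' : (x : S) * b = x' * b' := congrArg Subtype.val h
  have hmem : ((x'⁻¹ * x : (Z ⊓ centralizer ({g} : Set S) : Subgroup S)) : S) = (b' : S) * (b : S)⁻¹ := by
    push_cast
    rw [eq_mul_inv_iff_mul_eq, mul_assoc, h', inv_mul_cancel_left]
  have h1 : (b' : S) * (b : S)⁻¹ = 1 := by
    by_contra h1
    refine hg (s.mem_of_fixes (mul_mem b'.2 (inv_mem b.2)) h1 ?_)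
    exact mem_centralizer_singleton_iff.1 (hmem ▸ (x'⁻¹ * x).2.2)
  have h2 : b' = b := Subtype.ext (mul_inv_eq_one.1 h1)
  subst h2
  exact Prod.ext (Subtype.ext (mul_right_cancel h')) rfl

/-- `T` is self-normalizing if `D` is non-abelian. -/
theorem normalizer_le {u v : D} (huv : u * v ≠ v * u) : normalizer (T : Set S) ≤ T := by
  classical
  haveI : Fact (Nat.Prime 2) := ⟨Nat.prime_two⟩
  obtain ⟨f, hf, hfr, hfv⟩ := s.exists_hom
  obtain ⟨c, hc, -⟩ := s.shape
  let Z : Subgroup S :=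
    { carrier := {t | t ∈ T ∧ (∀ y ∈ T, y * t = t * y) ∧ t * t = 1}
      one_mem' := ⟨one_mem T, fun y _ => by rw [mul_one, one_mul], one_mul 1⟩
      mul_mem' := fun {a b} ha hb => ⟨mul_mem ha.1 hb.1, fun y hy => by
          rw [← mul_assoc, ha.2.1 y hy, mul_assoc, hb.2.1 y hy, mul_assoc], by
          rw [mul_assoc, ← mul_assoc b a b, ha.2.1 b hb.1, mul_assoc a b b, hb.2.2, mul_one, ha.2.2]⟩
      inv_mem' := fun {a} ha => ⟨inv_mem ha.1, fun y hy => by
          rw [inv_eq_of_mul_eq_one_right ha.2.2]; exact ha.2.1 y hy, by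
          rw [inv_eq_of_mul_eq_one_right ha.2.2]; exact ha.2.2⟩ }
  have hBZ : B ≤ Z := fun b hb => by
    refine ⟨s.hBT hb, fun y hy => ?_, s.hB b hb⟩
    by_cases hb1 : b = 1
    · rw [hb1, mul_one, one_mul]
    · rw [← s.hcent b hb hb1] at hy
      exact mem_centralizer_singleton_iff.1 hy
  have hidx : (zpowers c).index = 2 := by
    have h := (zpowers c).card_mul_index
    rw [Nat.card_zpowers, ← hc, mul_comm 2] at h
    exact Nat.eq_of_mul_eq_mul_left (orderOf_pos c) h
  -- a non-abelian `D` has at most one central involution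
  have huniq : ∀ d d' : D, (∀ y, y * d = d * y) → (∀ y, y * d' = d' * y) → d * d = 1 → d' * d' = 1 →
      d ≠ 1 → d' ≠ 1 → d = d' := by
    have hin : ∀ d : D, (∀ y, y * d = d * y) → d ∈ zpowers c := by
      intro d hd
      by_contra hdc
      have hall : ∀ x : D, x * c = c * x := by
        intro x
        by_cases hx : x ∈ zpowers c
        · obtain ⟨i, rfl⟩ := mem_zpowers_iff.1 hx
          exact Commute.zpow_self c i
        · have := (mul_mem_iff_of_index_two hidx (a := d) (b := x)).2 (iff_of_false hdc hx)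
          obtain ⟨i, hi⟩ := mem_zpowers_iff.1 this
          have hdc' : Commute d c := (hd c).symm
          have hdx : Commute (d * x) c := by rw [← hi]; exact Commute.zpow_self c i
          have := hdc'.inv_left.mul_left hdx
          rwa [inv_mul_cancel_left] at this
      refine huv ?_
      by_cases hu : u ∈ zpowers c
      · obtain ⟨i, rfl⟩ := mem_zpowers_iff.1 hu
        exact Commute.zpow_left ((hall v).symm : Commute c v) i
      · have := (mul_mem_iff_of_index_two hidx (a := d) (b := u)).2 (iff_of_false hdc hu)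
        obtain ⟨i, hi⟩ := mem_zpowers_iff.1 this
        have hdv : Commute d v := (hd v).symm
        have hdu : Commute (d * u) v := by
          rw [← hi]; exact Commute.zpow_left ((hall v).symm : Commute c v) i
        have := hdv.inv_left.mul_left hdu
        rwa [inv_mul_cancel_left] at this
    intro d d' hd hd' hdd hdd' hd1 hd1'
    by_contra hne
    have h3 : 3 ≤ Nat.card {x : zpowers c // x ^ 2 = 1} := by
      have hm : ∀ z ∈ ({1, d, d'} : Finset D), z ∈ zpowers c ∧ z * z = 1 := by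
        intro z hz
        simp only [Finset.mem_insert, Finset.mem_singleton] at hz
        rcases hz with rfl | rfl | rfl
        exacts [⟨one_mem _, one_mul 1⟩, ⟨hin _ hd, hdd⟩, ⟨hin _ hd', hdd'⟩]
      have h3' : ({1, d, d'} : Finset D).card = 3 :=
        Finset.card_eq_three.2 ⟨1, d, d', Ne.symm hd1, Ne.symm hd1', hne, rfl⟩
      rw [← h3', ← Fintype.card_coe, ← Nat.card_eq_fintype_card]
      refine Nat.card_le_card_of_injective (fun z : ({1, d, d'} : Finset D) =>
        (⟨⟨z.1, (hm z.1 z.2).1⟩, Subtype.ext (by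
          rw [SubgroupClass.coe_pow, pow_two, OneMemClass.coe_one]; exact (hm z.1 z.2).2)⟩ :
          {x : zpowers c // x ^ 2 = 1})) fun a b h => Subtype.ext ?_
      exact congrArg (fun t : {x : zpowers c // x ^ 2 = 1} => ((t : zpowers c) : D)) h
    haveI := Fintype.ofFinite (zpowers c)
    have h2 := IsCyclic.card_pow_eq_one_le (α := zpowers c) (n := 2) two_pos
    rw [Nat.card_eq_fintype_card, Fintype.card_subtype] at h3
    omega
  have hZ8 : Nat.card Z ≤ 8 := by
    have hdec : ∀ z : Z, ∃ d : D, ∃ b : B, (z : S) = d * b ∧ (∀ y, y * d = d * y) ∧ d * d = 1 := by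
      intro z
      obtain ⟨p, hp⟩ : (z : S) ∈ f.range := hfr ▸ z.2.1
      refine ⟨p.1, p.2, by rw [← hp, hfv], fun y => ?_, ?_⟩
      · have := z.2.2.1 (f (y, 1)) (hfr ▸ ⟨_, rfl⟩)
        rw [← hp, ← map_mul, ← map_mul] at this
        exact congrArg Prod.fst (hf this)
      · have := z.2.2.2
        rw [← hp, ← map_mul, ← map_one f] at this
        exact congrArg Prod.fst (hf this)
    choose δ β hz hδc hδ2 using hdec
    let φ : Z → Bool × B := fun z => (decide (δ z = 1), β z)
    have hφ : Function.Injective φ := by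
      intro z z' h
      simp only [φ, Prod.mk.injEq, decide_eq_decide] at h
      refine Subtype.ext ?_
      rw [hz z, hz z', h.2]
      congr 2
      by_cases h1 : δ z = 1
      · rw [h1, h.1.1 h1]
      · exact huniq _ _ (hδc z) (hδc z') (hδ2 z) (hδ2 z') h1 fun h' => h1 (h.1.2 h')
    refine (Nat.card_le_card_of_injective φ hφ).trans ?_
    rw [Nat.card_prod, s.hB4, Nat.card_eq_fintype_card, Fintype.card_bool]
  intro g hg
  by_contra hgT
  obtain ⟨g, ⟨hg, hgT⟩, hg2⟩ : ∃ g, (g ∈ normalizer (T : Set S) ∧ g ∉ T) ∧ g * g ∈ T := by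
    induction hn : orderOf g using Nat.strong_induction_on generalizing g with
    | _ n ih => ?_
    by_cases h2 : g * g ∈ T
    · exact ⟨g, ⟨hg, hgT⟩, h2⟩
    refine ih _ ?_ (mul_mem hg hg) h2 rfl
    subst hn
    obtain ⟨m, hm⟩ := IsPGroup.iff_orderOf.1 s.hS g
    have hm0 : m ≠ 0 := fun e => hgT (by
      rw [orderOf_eq_one_iff.1 (by rw [hm, e, pow_zero] : orderOf g = 1)]; exact one_mem _)
    rw [← pow_two, orderOf_pow' g two_ne_zero, hm, Nat.gcd_eq_right (dvd_pow_self 2 hm0)]
    exact Nat.div_lt_self (pow_pos two_pos m) one_lt_two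
  have hnorm : ∀ t ∈ Z, g * t * g⁻¹ ∈ Z := fun t ht => by
    have hiff := mem_normalizer_iff.1 hg
    refine ⟨(hiff t).1 ht.1, fun y hy => ?_, ?_⟩
    · have h' : g⁻¹ * y * g ∈ T := (hiff _).2 (by
        rwa [show g * (g⁻¹ * y * g) * g⁻¹ = y by group])
      have := ht.2.1 _ h'
      calc y * (g * t * g⁻¹) = g * (g⁻¹ * y * g * t) * g⁻¹ := by group
        _ = g * (t * (g⁻¹ * y * g)) * g⁻¹ := by rw [this]
        _ = _ := by group
    · rw [show g * t * g⁻¹ * (g * t * g⁻¹) = g * (t * t) * g⁻¹ by group, ht.2.2]; group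
  have h1 := card_le_fixed_sq (fun t (ht : t ∈ Z) => ht.2.2) hnorm fun t ht => ht.2.1 _ hg2
  have h2 := s.four_mul_card_le hBZ hgT
  have h4 : 4 ≤ Nat.card Z := s.hB4 ▸ card_le_of_le hBZ
  nlinarith

/-- `|N(T) : T| ≤ 4` for elementary `T` of order `16`. -/
theorem index_le_four (hT : Exp2 T) (h16 : Nat.card T = 16) :
    (T.subgroupOf (normalizer (T : Set S))).index ≤ 4 := by
  classical
  haveI : Fact (Nat.Prime 2) := ⟨Nat.prime_two⟩
  set N := normalizer (T : Set S)
  haveI hTn : (T.subgroupOf N).Normal := normal_in_normalizer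
  by_contra hgt
  set X := N ⧸ T.subgroupOf N
  have hX8 : 8 ≤ Nat.card X := by
    obtain ⟨k, hk⟩ := ((s.hS.to_subgroup N).to_quotient (T.subgroupOf N)).exists_card_eq
    have h4 : 4 < Nat.card X := Nat.lt_of_not_le hgt
    rw [hk] at h4 ⊢
    rcases k with _ | _ | _ | k
    · simp at h4
    · simp at h4
    · simp at h4
    · exact le_trans (by norm_num) (Nat.pow_le_pow_right two_pos (show 3 ≤ k + 1 + 1 + 1 by omega))
  have horb : ∀ b ∈ B, b ≠ 1 → ∀ n n' : N, (n : S) * b * (n : S)⁻¹ = n' * b * (n' : S)⁻¹ →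
      (n : X) = n' := fun b hb hb1 n n' h => by
    refine QuotientGroup.eq.2 (mem_subgroupOf.2 (s.mem_of_fixes hb hb1 ?_))
    push_cast
    calc b * ((n : S)⁻¹ * n') = (n : S)⁻¹ * (n * b * (n : S)⁻¹) * n' := by group
      _ = (n : S)⁻¹ * (n' * b * (n' : S)⁻¹) * n' := by rw [h]
      _ = _ := by group
  -- two involutions of `B` are conjugate in `N`
  have hconj : ∀ b ∈ B, b ≠ 1 → ∀ b' ∈ B, b' ≠ 1 → ∃ n : N, (n : S) * b * (n : S)⁻¹ = b' := by
    intro b hb hb1 b' hb' hb1'
    by_contra! hne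
    let φ : X × Bool → {t : T // t ≠ 1} := fun p =>
      ⟨⟨(p.1.out : S) * (if p.2 then b else b') * (p.1.out : S)⁻¹,
        (mem_normalizer_iff.1 p.1.out.2 _).1 (by split_ifs <;> [exact s.hBT hb; exact s.hBT hb'])⟩,
        fun h => by
          have h' := conj_eq_one_iff.1 (congrArg Subtype.val h : (_ : S) = 1)
          split_ifs at h'
          exacts [hb1 h', hb1' h']⟩
    have hφ : Function.Injective φ := by
      rintro ⟨p, i⟩ ⟨q, j⟩ h
      have h' : (p.out : S) * (if i then b else b') * (p.out : S)⁻¹ =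
          (q.out : S) * (if j then b else b') * (q.out : S)⁻¹ :=
        congrArg (fun t : {t : T // t ≠ 1} => ((t : T) : S)) h
      have key : ∀ p q : X, (p.out : S) * b * (p.out : S)⁻¹ = (q.out : S) * b' * (q.out : S)⁻¹ →
          False := fun p q h => hne (q.out⁻¹ * p.out) (by
            push_cast
            calc (q.out : S)⁻¹ * p.out * b * ((q.out : S)⁻¹ * p.out)⁻¹
                = (q.out : S)⁻¹ * ((p.out : S) * b * (p.out : S)⁻¹) * q.out := by group
              _ = b' := by rw [h]; group)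
      rcases i <;> rcases j <;> simp only [Bool.false_eq_true, if_false, if_true] at h'
      · have := horb b' hb' hb1' _ _ h'
        rw [QuotientGroup.out_eq', QuotientGroup.out_eq'] at this
        rw [this]
      · exact (key q p h'.symm).elim
      · exact (key p q h').elim
      · have := horb b hb hb1 _ _ h'
        rw [QuotientGroup.out_eq', QuotientGroup.out_eq'] at this
        rw [this]
    have h := Nat.card_le_card_of_injective φ hφ
    haveI := Fintype.ofFinite T
    have h15 : Nat.card {t : T // t ≠ 1} = 15 := by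
      rw [Nat.card_eq_fintype_card, Fintype.card_subtype_compl, Fintype.card_subtype_eq,
        ← Nat.card_eq_fintype_card, h16]
    rw [Nat.card_prod, h15, Nat.card_eq_fintype_card (α := Bool), Fintype.card_bool] at h
    omega
  -- but the orbit of `b` is not closed under products modulo a maximal invariant subgroup
  obtain ⟨b1, hb1, hb11⟩ : ∃ b ∈ B, b ≠ 1 := by
    by_contra! hall
    haveI : Subsingleton B := ⟨fun x y => Subtype.ext (by rw [hall x x.2, hall y y.2])⟩
    have := s.hB4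
    rw [Nat.card_unique] at this
    omega
  obtain ⟨b2, hb2, hb2n⟩ : ∃ b ∈ B, b ∉ zpowers b1 := by
    by_contra! hall
    have := card_le_of_le (show B ≤ zpowers b1 from hall)
    rw [s.hB4, Nat.card_zpowers, orderOf_eq_prime (by rw [pow_two]; exact s.hB b1 hb1) hb11] at this
    omega
  have hb21 : b2 ≠ 1 := fun e => hb2n (e ▸ one_mem _)
  have hb31 : b1 * b2 ≠ 1 := fun e => hb2n (by
    rw [eq_inv_of_mul_eq_one_right e]; exact inv_mem (mem_zpowers b1))
  have hTN : T ≤ N := le_normalizer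
  let β : ∀ b ∈ B, N := fun b hb => ⟨b, hTN (s.hBT hb)⟩
  set K : Subgroup N := normalClosure {β b1 hb1}
  let P := {K0 : Subgroup N // K0.Normal ∧ K0 < K}
  haveI : Nonempty P := ⟨⟨⊥, inferInstance, bot_lt_iff_ne_bot.2 fun e => hb11 (by
    have h0 : β b1 hb1 ∈ K := subset_normalClosure (Set.mem_singleton _)
    rw [e, mem_bot] at h0
    simpa [β] using congrArg Subtype.val h0)⟩⟩
  obtain ⟨⟨K0, hK0n, hK0K⟩, hmax⟩ := Finite.exists_max (fun K0 : P => Nat.card K0.1)
  haveI := hK0n
  obtain ⟨x, hxK, hxK0, hxc⟩ := CfsgLib.OddLocal.exists_central_mod (s.hS.to_subgroup N) K0 K hK0K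
  set π := QuotientGroup.mk' K0
  have hxcen : π x ∈ center (N ⧸ K0) := mem_center_iff.2 fun q => by
    obtain ⟨g, rfl⟩ := QuotientGroup.mk'_surjective K0 q
    show π g * π x = π x * π g
    rw [← conj_eq_iff, ← map_inv, ← map_mul, ← map_mul]
    refine (mul_inv_eq_one.1 ?_)
    rw [← map_inv, ← map_mul, QuotientGroup.mk'_apply, QuotientGroup.eq_one_iff]
    exact hxc g
  haveI hzn : (zpowers (π x)).Normal := ⟨fun y hy q => by
    rwa [mem_center_iff.1 (zpowers_le.2 hxcen hy) q, mul_inv_cancel_right]⟩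
  have hK1 : K ≤ (zpowers (π x)).comap π := by
    have hle : K0 ≤ K ⊓ (zpowers (π x)).comap π := le_inf hK0K.le fun y hy => by
      rw [mem_comap, show π y = 1 from (QuotientGroup.eq_one_iff y).2 hy]
      exact one_mem _
    have hlt : K0 < K ⊓ (zpowers (π x)).comap π :=
      lt_of_le_not_ge hle fun h => hxK0 (h ⟨hxK, mem_zpowers _⟩)
    by_contra hne
    have h := hmax ⟨K ⊓ (zpowers (π x)).comap π, inferInstance,
      lt_of_le_not_ge inf_le_left fun h => hne (le_inf_iff.1 h).2⟩
    exact hlt.ne (eq_of_le_of_card_ge hle h)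
  have himg : ∀ b (hb : b ∈ B), b ≠ 1 → π (β b hb) = π (β b1 hb1) := by
    intro b hb hb'
    obtain ⟨n, hn⟩ := hconj b1 hb1 hb11 b hb hb'
    have e : β b hb = n * β b1 hb1 * n⁻¹ := Subtype.ext (by push_cast; exact hn.symm)
    have hc : π (β b1 hb1) ∈ center (N ⧸ K0) :=
      zpowers_le.2 hxcen (hK1 (subset_normalClosure (Set.mem_singleton _)))
    rw [e, map_mul, map_mul, map_inv, mem_center_iff.1 hc (π n), mul_inv_cancel_right]
  have h3 : π (β b1 hb1) * π (β b2 hb2) = π (β (b1 * b2) (mul_mem hb1 hb2)) := (map_mul π _ _).symm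
  rw [himg b2 hb2 hb21, himg (b1 * b2) (mul_mem hb1 hb2) hb31] at h3
  have hmem : β b1 hb1 ∈ K0 := (QuotientGroup.eq_one_iff _).1 (mul_eq_left.1 h3)
  exact hK0K.not_ge (normalClosure_le_normal (Set.singleton_subset_iff.2 hmem))

omit s in
theorem comm_of_card_le_four {X : Type u} [Group X] [Finite X] (hX : IsPGroup 2 X)
    (h : Nat.card X ≤ 4) (a b : X) : a * b = b * a := by
  haveI : Fact (Nat.Prime 2) := ⟨Nat.prime_two⟩
  obtain ⟨n, hn⟩ := hX.exists_card_eq
  rcases n with _ | _ | _ | n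
  · haveI : Subsingleton X := (Nat.card_eq_one_iff_unique.1 (by simpa using hn)).1
    exact Subsingleton.elim _ _
  · haveI : IsCyclic X := isCyclic_of_prime_card (p := 2) (by simpa using hn)
    letI := IsCyclic.commGroup (α := X)
    exact mul_comm a b
  · exact (IsPGroup.isMulCommutative_of_card_eq_prime_sq (p := 2) (by simpa using hn)).is_comm.comm a b
  · rw [hn] at h
    have := Nat.pow_le_pow_right two_pos (show 3 ≤ n + 1 + 1 + 1 by omega)
    omega

theorem gen_four (H : Subgroup S) : Gen H 4 := by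
  classical
  haveI : Fact (Nat.Prime 2) := ⟨Nat.prime_two⟩
  obtain ⟨b0, hb0, hb01⟩ : ∃ b ∈ B, b ≠ 1 := by
    by_contra! hall
    haveI : Subsingleton B := ⟨fun x y => Subtype.ext (by rw [hall x x.2, hall y y.2])⟩
    have := s.hB4
    rw [Nat.card_unique] at this
    omega
  have hnc : NormalizerCondition S := by
    haveI : Group.IsNilpotent S := s.hS.isNilpotent
    exact normalizerCondition_of_isNilpotent
  by_cases htop : T = ⊤
  · exact s.gen_le_T (htop ▸ le_top)
  set N := normalizer (T : Set S)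
  have hTN : T < N := hnc T (lt_top_iff_ne_top.2 htop)
  obtain ⟨-, -, ⟨hD4, hD2⟩ | ⟨u, v, huv⟩⟩ := s.shape
  swap
  · exact absurd (s.normalizer_le huv) hTN.not_ge
  obtain ⟨f, hf, hfr, hfv⟩ := s.exists_hom
  have hT : Exp2 T := by
    intro t ht
    obtain ⟨p, rfl⟩ : t ∈ f.range := hfr ▸ ht
    rw [← map_mul, show p * p = 1 from Prod.ext (hD2 p.1) (Subtype.ext (s.hB p.2 p.2.2)), map_one]
  have h16 : Nat.card T = 16 := by
    rw [← hfr, ← Nat.card_congr (MonoidHom.ofInjective hf).toEquiv, Nat.card_prod, hD4, s.hB4]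
  have hfix : ∀ g : S, g ∉ T → Nat.card (T ⊓ centralizer ({g} : Set S) : Subgroup S) ≤ 4 :=
    fun g hg => by
      have := s.four_mul_card_le s.hBT hg
      omega
  have hidx := s.index_le_four hT h16
  by_cases hN : N = ⊤
  · haveI hTn : T.Normal := normalizer_eq_top_iff.1 hN
    have hq : Nat.card (S ⧸ T) ≤ 4 := by
      have h1 : (T.subgroupOf N).index = T.index := by
        show T.relIndex N = T.index
        rw [hN, relIndex_top_right]
      rw [h1] at hidx
      exact hidx
    refine gen_four_sixteen s.hS T hT h16.le ?_ ⊤ (by rwa [card_top]) ?_ (fun z _ hz => hfix z ?_) H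
    · exact (centralizer_le (Set.singleton_subset_iff.2 (s.hBT hb0))).trans (s.hcent b0 hb0 hb01).le
    · refine eq_top_iff.2 fun q _ => mem_centralizer_iff.2 fun p _ => ?_
      exact comm_of_card_le_four (s.hS.to_quotient T) hq p q
    · exact fun h => hz ((QuotientGroup.eq_one_iff z).2 h)
  refine gen_four_of_no_normal_eight s.hS (fun B0 hB0n _ hB02 => ?_) H
  have hB0e : Exp2 B0 := fun x hx => by rw [← pow_two]; exact hB02 x hx
  obtain ⟨g, hgN, hg⟩ := SetLike.not_le_iff_exists.1 (hnc N (lt_top_iff_ne_top.2 hN)).not_ge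
  set T' := T.map (MulAut.conj g).toMonoidHom
  have hmemT' : ∀ y, y ∈ T' ↔ g⁻¹ * y * g ∈ T := fun y => by
    constructor
    · rintro ⟨t, ht, rfl⟩
      simpa [mul_assoc] using ht
    · exact fun h => ⟨_, h, by simp [mul_assoc]⟩
  have hiffN := mem_normalizer_iff.1 hgN
  have hT'N : T' ≤ N := by
    rintro _ ⟨t, ht, rfl⟩
    exact (hiffN t).1 (le_normalizer ht)
  have hT'16 : Nat.card T' = 16 := by
    rw [card_map_of_injective (MulAut.conj g).injective, h16]
  have hT' : Exp2 T' := by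
    rintro _ ⟨t, ht, rfl⟩
    rw [← map_mul, hT t ht, map_one]
  have hT'T : ¬ T' ≤ T := fun h => hg (by
    have heq := eq_of_le_of_card_ge h (by rw [hT'16, h16])
    refine mem_normalizer_iff.2 fun t => ⟨fun ht => heq.le ⟨t, ht, rfl⟩, fun ht => ?_⟩
    have := (hmemT' _).1 (heq.ge ht)
    simpa [mul_assoc] using this)
  set W := T ⊓ T'
  obtain ⟨a0, ha0', ha0⟩ := SetLike.not_le_iff_exists.1 hT'T
  have hWle : ∀ a ∈ T', W ≤ T ⊓ centralizer ({a} : Set S) := fun a ha w hw =>
    ⟨hw.1, mem_centralizer_singleton_iff.2 (hT'.comm hw.2 ha)⟩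
  have hW4 : Nat.card W ≤ 4 := (card_le_of_le (hWle a0 ha0')).trans (hfix a0 ha0)
  haveI hTnN : (T.subgroupOf N).Normal := normal_in_normalizer
  let ρ : T' →* N ⧸ T.subgroupOf N :=
    (QuotientGroup.mk' (T.subgroupOf N)).comp (Subgroup.inclusion hT'N)
  have hρk : Nat.card ρ.ker = Nat.card W := by
    refine Nat.card_congr ⟨fun x => ⟨x.1.1, mem_subgroupOf.1 ((QuotientGroup.eq_one_iff
      (Subgroup.inclusion hT'N x.1)).1 (MonoidHom.mem_ker.1 x.2)), x.1.2⟩, fun x => ⟨⟨x.1, x.2.2⟩, MonoidHom.mem_ker.2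
      ((QuotientGroup.eq_one_iff _).2 (mem_subgroupOf.2 x.2.1))⟩, fun x => rfl, fun x => rfl⟩
  have hρ : ρ.range = ⊤ ∧ Nat.card W = 4 := by
    have h := ρ.ker.card_mul_index
    rw [index_ker, hρk, hT'16] at h
    have h' : Nat.card ρ.range ≤ 4 := (card_le_card_group _).trans hidx
    have hW : Nat.card W = 4 := by nlinarith
    refine ⟨eq_top_of_le_card _ (hidx.trans ?_), hW⟩
    rw [hW] at h
    omega
  have hinv : ∀ n ∈ N, n * n = 1 → n ∈ T ∨ n ∈ T' := by
    intro n hn hnn
    obtain ⟨⟨a, ha⟩, hna⟩ :=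
      (hρ.1 ▸ mem_top _ : ((⟨n, hn⟩ : N) : N ⧸ T.subgroupOf N) ∈ ρ.range)
    have ht : a⁻¹ * n ∈ T := mem_subgroupOf.1 (QuotientGroup.eq.1 hna)
    by_cases haT : a ∈ T
    · exact Or.inl (by simpa using mul_mem haT ht)
    right
    set t := a⁻¹ * n
    have hn' : n = a * t := (mul_inv_cancel_left a n).symm
    have hat : a * t = t * a := by
      rw [hn'] at hnn
      rw [← inv_eq_of_mul_eq_one_right hnn, mul_inv_rev, hT.inv_eq ht, hT'.inv_eq ha]
    have hW : W = T ⊓ centralizer ({a} : Set S) :=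
      eq_of_le_of_card_ge (hWle a ha) (by rw [hρ.2]; exact hfix a haT)
    have htW : t ∈ W := hW.ge ⟨ht, mem_centralizer_singleton_iff.2 hat.symm⟩
    rw [hn']
    exact mul_mem ha htW.2
  have hB1 : B0 ⊓ N ≤ T ∨ B0 ⊓ N ≤ T' := by
    by_contra! h
    obtain ⟨x, hx, hxT⟩ := SetLike.not_le_iff_exists.1 h.1
    obtain ⟨y, hy, hyT⟩ := SetLike.not_le_iff_exists.1 h.2
    have hxT' := (hinv x hx.2 (hB0e x hx.1)).resolve_left hxT
    have hyT' := (hinv y hy.2 (hB0e y hy.1)).resolve_right hyT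
    rcases hinv (x * y) (mul_mem hx.2 hy.2) (hB0e _ (mul_mem hx.1 hy.1)) with h' | h'
    · exact hxT (by simpa using mul_mem h' (inv_mem hyT'))
    · exact hyT (by simpa using mul_mem (inv_mem hxT') h')
  have hB1W : B0 ⊓ N ≤ W := by
    rcases hB1 with h | h
    · refine le_inf h fun y hy => (hmemT' y).2 (h ⟨?_, ?_⟩)
      · simpa using hB0n.conj_mem y hy.1 g⁻¹
      · exact (hiffN _).2 (by simpa [mul_assoc] using hy.2)
    · refine le_inf (fun y hy => ?_) h
      have := (hmemT' _).1 (h ⟨hB0n.conj_mem y hy.1 g, (hiffN y).1 hy.2⟩)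
      simpa [mul_assoc] using this
  -- `B0` lies in the normalizer of `T`
  have hB0N : B0 ≤ N := by
    set L := T ⊔ B0
    by_contra hne
    haveI : Group.IsNilpotent L := (s.hS.to_subgroup L).isNilpotent
    have hlt : T.subgroupOf L < ⊤ := lt_top_iff_ne_top.2 fun e =>
      hne ((le_sup_right : B0 ≤ L).trans ((subgroupOf_eq_top.1 e).trans hTN.le))
    obtain ⟨⟨x, hxL⟩, hxn, hxT⟩ := SetLike.not_le_iff_exists.1
      (normalizerCondition_of_isNilpotent (T.subgroupOf L) hlt).not_ge
    have hxN : x ∈ N := by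
      refine mem_normalizer_iff.2 fun y => ⟨fun hy => ?_, fun hy => ?_⟩
      · exact mem_subgroupOf.1 ((mem_normalizer_iff.1 hxn ⟨y, mem_sup_left hy⟩).1 hy)
      · have hyL : y ∈ L := by
          have hc := mul_mem (mul_mem (inv_mem hxL) (mem_sup_left hy : x * y * x⁻¹ ∈ L)) hxL
          simpa [mul_assoc] using hc
        exact mem_subgroupOf.1 ((mem_normalizer_iff.1 hxn ⟨y, hyL⟩).2 hy)
    obtain ⟨t, ht, u, hu, rfl⟩ := Subgroup.mem_sup_of_normal_right.1 hxL
    have huN : u ∈ N := by simpa using mul_mem (inv_mem (le_normalizer ht)) hxN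
    exact hxT (mem_subgroupOf.2 (mul_mem ht (hB1W ⟨hu, huN⟩).1))
  rw [inf_eq_left.2 hB0N] at hB1W
  exact (card_le_of_le hB1W).trans hW4

end FourData

end CfsgLib.SRank
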