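import Cfsg.Agent.Lib.SRank.Basic
import Cfsg.Agent.Lib.Transfer.MaxClass

/-!
Generators of a subgroup from its image modulo a normal elementary abelian `2`-subgroup.
-/

set_option autoImplicit false
set_option linter.style.haveILetI false

namespace CfsgLib.SRank

open Subgroup
open CfsgLib.TwoLinear (Gen)

variable {G : Type*} [Group G]

/-- All elements square to `1`. -/
def Exp2 (B : Subgroup G) : Prop := ∀ x ∈ B, x * x = 1

namespace Exp2

variable {B : Subgroup G} (hB : Exp2 B)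
include hB

theorem mono {D : Subgroup G} (h : D ≤ B) : Exp2 D := fun x hx => hB x (h hx)

theorem inv_eq {x : G} (hx : x ∈ B) : x⁻¹ = x := inv_eq_of_mul_eq_one_right (hB x hx)

theorem comm {x y : G} (hx : x ∈ B) (hy : y ∈ B) : x * y = y * x := by
  rw [← hB.inv_eq (mul_mem hx hy), mul_inv_rev, hB.inv_eq hx, hB.inv_eq hy]

theorem le_centralizer : B ≤ centralizer (B : Set G) :=
  fun _ hx => mem_centralizer_iff.2 fun _ hy => hB.comm hy hx

theorem isMulCommutative : IsMulCommutative B :=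
  ⟨⟨fun a b => Subtype.ext (hB.comm a.2 b.2)⟩⟩

theorem isElementary : IsMulCommutative B ∧ ∀ x ∈ B, x ^ 2 = 1 :=
  ⟨hB.isMulCommutative, fun x hx => by rw [pow_two]; exact hB x hx⟩

end Exp2

variable [Finite G]

/-- A bound on the order of `B ∩ C(a)` for an element `a` acting as an involution on `B`. -/
theorem card_le_fixed_sq {B : Subgroup G} (hB : Exp2 B) {a : G} (ha : ∀ x ∈ B, a * x * a⁻¹ ∈ B)
    (haa : ∀ x ∈ B, a * a * x = x * (a * a)) :
    Nat.card B ≤ Nat.card (B ⊓ centralizer ({a} : Set G) : Subgroup G) *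
      Nat.card (B ⊓ centralizer ({a} : Set G) : Subgroup G) := by
  have hfix : ∀ x ∈ B, a * (a * x * a⁻¹ * x⁻¹) * a⁻¹ = a * x * a⁻¹ * x⁻¹ := fun x hx => by
    have h1 : a * (a * x * a⁻¹) * a⁻¹ = x := by
      rw [show a * (a * x * a⁻¹) * a⁻¹ = a * a * x * (a * a)⁻¹ by group, haa x hx,
        mul_inv_cancel_right]
    calc a * (a * x * a⁻¹ * x⁻¹) * a⁻¹ = a * (a * x * a⁻¹) * a⁻¹ * (a * x * a⁻¹)⁻¹ := by group
      _ = x * (a * x * a⁻¹)⁻¹ := by rw [h1]
      _ = x * (a * x * a⁻¹) := by rw [hB.inv_eq (ha x hx)]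
      _ = (a * x * a⁻¹) * x := hB.comm hx (ha x hx)
      _ = _ := by rw [hB.inv_eq hx]
  let f : B →* (B ⊓ centralizer ({a} : Set G) : Subgroup G) :=
    MonoidHom.mk' (fun x => ⟨a * x * a⁻¹ * (x : G)⁻¹, mem_inf.2 ⟨mul_mem (ha x x.2) (inv_mem x.2),
      mem_centralizer_singleton_iff.2 (mul_inv_eq_iff_eq_mul.1 (hfix x x.2)).symm⟩⟩)
      (fun x y => Subtype.ext (by
        show a * ((x : G) * y) * a⁻¹ * ((x : G) * y)⁻¹ =
          a * x * a⁻¹ * (x : G)⁻¹ * (a * y * a⁻¹ * (y : G)⁻¹)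
        calc a * ((x : G) * y) * a⁻¹ * ((x : G) * y)⁻¹
            = a * x * a⁻¹ * ((a * y * a⁻¹ * (y : G)⁻¹) * (x : G)⁻¹) := by group
          _ = a * x * a⁻¹ * ((x : G)⁻¹ * (a * y * a⁻¹ * (y : G)⁻¹)) := by
            rw [hB.comm (mul_mem (ha y y.2) (inv_mem y.2)) (inv_mem x.2)]
          _ = _ := by group))
  rw [← f.ker.card_mul_index, index_ker, mul_comm]
  refine Nat.mul_le_mul (card_le_card_group _) ?_
  refine Nat.card_le_card_of_injective (fun x => (⟨((x : B) : G), mem_inf.2 ⟨(x : B).2, ?_⟩⟩ :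
    (B ⊓ centralizer ({a} : Set G) : Subgroup G))) fun x y h =>
      Subtype.ext (Subtype.ext (congrArg (fun t : (B ⊓ centralizer ({a} : Set G) : Subgroup G) =>
        (t : G)) h))
  have h : a * ((x : B) : G) * a⁻¹ * ((x : B) : G)⁻¹ = 1 :=
    congrArg Subtype.val (MonoidHom.mem_ker.1 x.2)
  exact mem_centralizer_singleton_iff.2 (mul_inv_eq_iff_eq_mul.1 (mul_inv_eq_one.1 h)).symm

/-- Few further generators when part of the subgroup is known. -/
theorem extend {D : Subgroup G} (hD : Exp2 D) {n : ℕ} (hn : Nat.card D ≤ 2 ^ n) :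
    ∀ (d j : ℕ) (K : Subgroup G), K ≤ D → 2 ^ j ≤ Nat.card K → n - j = d →
      ∃ T : Finset G, T.card ≤ d ∧ (T : Set G) ⊆ D ∧ D ≤ K ⊔ closure (T : Set G) := by
  classical
  intro d
  induction d with
  | zero =>
    intro j K hKD hK hd
    refine ⟨∅, le_rfl, by simp, le_sup_of_le_left (eq_of_le_of_card_ge hKD ?_).ge⟩
    exact hn.trans ((Nat.pow_le_pow_right two_pos (by omega)).trans hK)
  | succ d ih =>
    intro j K hKD hK hd
    by_cases hDK : D ≤ K
    · exact ⟨∅, Nat.zero_le _, by simp, le_sup_of_le_left hDK⟩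
    obtain ⟨x, hxD, hxK⟩ := SetLike.not_le_iff_exists.1 hDK
    have hle : K ⊔ zpowers x ≤ D := sup_le hKD (zpowers_le.2 hxD)
    have h2 : 2 * Nat.card K ≤ Nat.card (K ⊔ zpowers x : Subgroup G) := by
      have hlt : K < K ⊔ zpowers x := lt_of_le_of_ne le_sup_left fun e =>
        hxK (e ▸ mem_sup_right (mem_zpowers x))
      obtain ⟨c, hc⟩ := card_dvd_of_le hlt.le
      have h0 : 0 < Nat.card (K ⊔ zpowers x : Subgroup G) := Nat.card_pos
      rcases c with _ | _ | c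
      · simp [hc] at h0
      · exact absurd (eq_of_le_of_card_ge hlt.le (by rw [hc]; simp)) hlt.ne
      · rw [hc, mul_comm 2]
        exact Nat.mul_le_mul_left _ (by omega)
    obtain ⟨T, hT, hTD, hle'⟩ := ih (j + 1) (K ⊔ zpowers x) hle
      (by rw [pow_succ, mul_comm]; exact (Nat.mul_le_mul_left 2 hK).trans h2) (by omega)
    refine ⟨insert x T, (Finset.card_insert_le x T).trans (by omega), ?_, hle'.trans ?_⟩
    · rw [Finset.coe_insert]
      exact Set.insert_subset hxD hTD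
    · rw [Finset.coe_insert, Set.insert_eq, Subgroup.closure_union, ← zpowers_eq_closure, ← sup_assoc]

/-- Generators from the image modulo `B`. -/
theorem gen_over (H B : Subgroup G) (S : Finset G) {k l : ℕ} (hS : S.card ≤ k)
    (hSH : (S : Set G) ⊆ H) (hcov : ∀ h ∈ H, ∃ s ∈ closure (S : Set G), s⁻¹ * h ∈ B)
    (T : Finset G) (hT : T.card ≤ l) (hTD : (T : Set G) ⊆ (H ⊓ B : Subgroup G))
    (hD : H ⊓ B ≤ closure (S : Set G) ⊔ closure (T : Set G)) : Gen H (k + l) := by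
  have hSH' : closure (S : Set G) ≤ H := (closure_le H).2 hSH
  refine gen_of_cover H (H ⊓ B) S hS hSH' inf_le_left (fun h hh => ?_) T hT hTD hD
  obtain ⟨t, ht, htB⟩ := hcov h hh
  exact ⟨t, ht, mem_inf.2 ⟨mul_mem (inv_mem (hSH' ht)) hh, htB⟩⟩

/-- One generator saved by a known element. -/
theorem exists_save_mem {D : Subgroup G} (hD : Exp2 D) {n : ℕ} (hn : Nat.card D ≤ 2 ^ (n + 1))
    {L : Subgroup G} {t : G} (ht : t ∈ L) (htD : t ∈ D) (ht1 : t ≠ 1) :
    ∃ T : Finset G, T.card ≤ n ∧ (T : Set G) ⊆ D ∧ D ≤ L ⊔ closure (T : Set G) := by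
  have h2 : 2 ^ 1 ≤ Nat.card (zpowers t) := by
    rw [Nat.card_zpowers, pow_one]
    have h0 := orderOf_pos t
    have h1 : orderOf t ≠ 1 := fun e => ht1 (orderOf_eq_one_iff.1 e)
    omega
  obtain ⟨T, hT, hTD, hle⟩ := extend hD hn n 1 (zpowers t) (zpowers_le.2 htD) h2 (by omega)
  exact ⟨T, hT, hTD, hle.trans (sup_le_sup_right (zpowers_le.2 ht) _)⟩

/-- One generator saved by an element acting nontrivially. -/
theorem exists_save_moved {D : Subgroup G} (hD : Exp2 D) {n : ℕ} (hn : Nat.card D ≤ 2 ^ (n + 2))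
    {L : Subgroup G} {h b : G} (hh : h ∈ L) (hb : b ∈ D) (hhb : h * b * h⁻¹ ∈ D)
    (hne : h * b * h⁻¹ ≠ b) :
    ∃ T : Finset G, T.card ≤ n + 1 ∧ (T : Set G) ⊆ D ∧ D ≤ L ⊔ closure (T : Set G) := by
  classical
  have hb1 : b ≠ 1 := fun e => hne (by rw [e]; group)
  set K := closure ({b, h * b * h⁻¹} : Set G)
  have hKD : K ≤ D := (closure_le D).2 (by rintro _ (rfl | rfl) <;> assumption)
  have h4 : 2 ^ 2 ≤ Nat.card K := by
    have h2 : Nat.card (zpowers b) = 2 := by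
      rw [Nat.card_zpowers]
      exact orderOf_eq_prime (by rw [pow_two]; exact hD b hb) hb1
    have hle : zpowers b ≤ K := zpowers_le.2 (subset_closure (Or.inl rfl))
    have hlt : ¬ K ≤ zpowers b := fun hle' => by
      obtain ⟨i, hi⟩ := mem_zpowers_iff.1 (hle' (subset_closure (Or.inr rfl)))
      rcases Int.even_or_odd' i with ⟨m, rfl | rfl⟩
      · rw [zpow_mul, zpow_two, hD b hb, one_zpow, eq_comm, conj_eq_one_iff] at hi
        exact hb1 hi
      · rw [zpow_add, zpow_mul, zpow_two, hD b hb, one_zpow, one_mul, zpow_one] at hi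
        exact hne hi.symm
    obtain ⟨c, hc⟩ := card_dvd_of_le hle
    rw [h2] at hc
    have h0 : 0 < Nat.card K := Nat.card_pos
    rcases c with _ | _ | c
    · omega
    · exact absurd (eq_of_le_of_card_ge hle (by rw [hc, h2])).ge hlt
    · rw [hc]; omega
  obtain ⟨T, hT, hTD, hle⟩ := extend hD hn n 2 K hKD h4 (by omega)
  refine ⟨insert b T, (Finset.card_insert_le b T).trans (by omega), ?_, hle.trans (sup_le ?_ ?_)⟩
  · rw [Finset.coe_insert]
    exact Set.insert_subset hb hTD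
  · refine (closure_le _).2 ?_
    have hbm : b ∈ L ⊔ closure ((insert b T : Finset G) : Set G) :=
      mem_sup_right (subset_closure (by simp))
    rintro _ (rfl | rfl)
    · exact hbm
    · exact mul_mem (mul_mem (mem_sup_left hh) hbm) (inv_mem (mem_sup_left hh))
  · exact le_sup_of_le_right (closure_mono (by simp))

/-- Two generators saved by an element with large commutator group. -/
theorem exists_save_two {D : Subgroup G} (hD : Exp2 D) (hn : Nat.card D ≤ 16) {L : Subgroup G} {z : G}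
    (hz : z ∈ L) (hzD : ∀ x ∈ D, z * x * z⁻¹ ∈ D) (hzz : ∀ x ∈ D, z * z * x = x * (z * z))
    (hbig : Nat.card (D ⊓ centralizer ({z} : Set G) : Subgroup G) ≤ 4)
    (h16 : 16 ≤ Nat.card D) :
    ∃ T : Finset G, T.card ≤ 2 ∧ (T : Set G) ⊆ D ∧ D ≤ L ⊔ closure (T : Set G) := by
  classical
  set R := D ⊓ centralizer ({z} : Set G) with hR
  have hR4 : Nat.card R = 4 := by
    have := card_le_fixed_sq hD hzD hzz
    rw [← hR] at this
    nlinarith
  let δ : G → G := fun x => z * x * z⁻¹ * x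
  have hδR : ∀ x ∈ D, δ x ∈ R := fun x hx => by
    refine mem_inf.2 ⟨mul_mem (hzD x hx) hx, mem_centralizer_singleton_iff.2 ?_⟩
    have h1 : z * (z * x * z⁻¹) * z⁻¹ = x := by
      rw [show z * (z * x * z⁻¹) * z⁻¹ = z * z * x * (z * z)⁻¹ by group, hzz x hx, mul_inv_cancel_right]
    have h2 : z * δ x * z⁻¹ = δ x := by
      calc z * δ x * z⁻¹ = z * (z * x * z⁻¹) * z⁻¹ * (z * x * z⁻¹) := by simp only [δ]; group
        _ = x * (z * x * z⁻¹) := by rw [h1]
        _ = δ x := hD.comm hx (hzD x hx)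
    exact (mul_inv_eq_iff_eq_mul.1 h2).symm
  have hδmul : ∀ x ∈ D, ∀ y ∈ D, δ (x * y) = δ x * δ y := fun x hx y hy => by
    calc δ (x * y) = z * x * z⁻¹ * ((z * y * z⁻¹) * (x * y)) := by simp only [δ]; group
      _ = z * x * z⁻¹ * (x * (z * y * z⁻¹) * y) := by
        rw [← mul_assoc (z * y * z⁻¹), hD.comm (hzD y hy) hx]
      _ = _ := by simp only [δ]; group
  have hker : ∀ x ∈ D, δ x = 1 → x ∈ R := fun x hx h => by
    refine mem_inf.2 ⟨hx, mem_centralizer_singleton_iff.2 ?_⟩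
    have h' : z * x * z⁻¹ = x := by
      rw [eq_inv_of_mul_eq_one_left h, hD.inv_eq hx]
    exact (mul_inv_eq_iff_eq_mul.1 h').symm
  let f : D →* R := MonoidHom.mk' (fun x => ⟨δ x, hδR x x.2⟩)
    (fun x y => Subtype.ext (hδmul x x.2 y y.2))
  have hf : Function.Surjective f := by
    rw [← MonoidHom.range_eq_top]
    refine eq_top_of_le_card _ ?_
    have h1 : Nat.card f.ker ≤ 4 := by
      rw [← hR4]
      exact Nat.card_le_card_of_injective (fun x => (⟨((x : D) : G), hker _ (x : D).2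
        (congrArg Subtype.val (MonoidHom.mem_ker.1 x.2))⟩ : R)) fun x y h =>
          Subtype.ext (Subtype.ext (congrArg (fun t : R => (t : G)) h))
    have h2 : Nat.card f.range * Nat.card f.ker = Nat.card D := by
      rw [← index_ker, mul_comm]; exact f.ker.card_mul_index
    rw [hR4]
    nlinarith
  obtain ⟨T₀, hT₀, hT₀D, hRT⟩ := extend (hD.mono (inf_le_left : R ≤ D)) (n := 2) hR4.le 2 0 ⊥
    bot_le (by rw [pow_zero]; exact Nat.card_pos) rfl
  rw [bot_sup_eq] at hRT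
  choose g hg using hf
  have hT₀R : ∀ r ∈ T₀, r ∈ R := fun r hr => hT₀D hr
  set T : Finset G := T₀.attach.image fun r => ((g ⟨r.1, hT₀R r.1 r.2⟩ : D) : G) with hT
  have hTD : (T : Set G) ⊆ D := by
    intro x hx
    obtain ⟨r, -, rfl⟩ := Finset.mem_image.1 hx
    exact (g ⟨r.1, hT₀R r.1 r.2⟩).2
  refine ⟨T, (Finset.card_image_le.trans (Finset.card_attach (s := T₀)).le).trans hT₀, hTD, ?_⟩
  set M := L ⊔ closure (T : Set G)
  have hTM : closure (T : Set G) ≤ M := le_sup_right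
  have hgT : ∀ r (hr : r ∈ T₀), ((g ⟨r, hT₀R r hr⟩ : D) : G) ∈ closure (T : Set G) := fun r hr =>
    subset_closure (Finset.mem_image.2 ⟨⟨r, hr⟩, Finset.mem_attach _ _, rfl⟩)
  have hδT : ∀ r ∈ R, ∃ y ∈ closure (T : Set G), y ∈ D ∧ δ y = r := by
    intro r hr
    refine closure_induction (p := fun r _ => ∃ y ∈ closure (T : Set G), y ∈ D ∧ δ y = r)
      (fun u hu => ⟨_, hgT u hu, (g _).2, congrArg Subtype.val (hg ⟨u, hT₀R u hu⟩)⟩)
      ⟨1, one_mem _, one_mem _, by simp [δ]⟩ (fun u v _ _ ⟨y, hy, hyD, hyu⟩ ⟨w, hw, hwD, hwv⟩ =>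
        ⟨y * w, mul_mem hy hw, mul_mem hyD hwD, by rw [hδmul y hyD w hwD, hyu, hwv]⟩)
      (fun u _ ⟨y, hy, hyD, hyu⟩ => ⟨y, hy, hyD, ?_⟩) (hRT hr)
    rw [hyu, (hD.mono (inf_le_left : R ≤ D)).inv_eq (hyu ▸ hδR y hyD)]
  have hRM : R ≤ M := fun r hr => by
    obtain ⟨y, hy, -, rfl⟩ := hδT r hr
    exact mul_mem (mul_mem (mul_mem (mem_sup_left hz) (hTM hy)) (inv_mem (mem_sup_left hz))) (hTM hy)
  intro x hx
  obtain ⟨y, hy, hyD, hyx⟩ := hδT (δ x) (hδR x hx)
  have h1 : δ (y * x) = 1 := by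
    rw [hδmul y hyD x hx, hyx]
    exact (mem_inf.1 (hδR x hx)).1 |> hD (δ x)
  rw [show x = y⁻¹ * (y * x) by group]
  exact mul_mem (inv_mem (hTM hy)) (hRM (hker _ (mul_mem hyD hx) h1))

omit [Finite G] in
/-- An element whose image commutes with an involution. -/
theorem exists_comm_mem (hG : IsPGroup 2 G) {K E : Subgroup G} {a : G} (haa : a * a = 1)
    (haK : ∀ c ∈ K, a * c * a⁻¹ ∈ K) (hne : ¬ K ≤ E) :
    ∃ c ∈ K, c ∉ E ∧ c⁻¹ * (a * c * a⁻¹) ∈ E := by
  obtain ⟨c, hc, hcE⟩ := SetLike.not_le_iff_exists.1 hne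
  by_cases h : c⁻¹ * (a * c * a⁻¹) ∈ E
  · exact ⟨c, hc, hcE, h⟩
  suffices ∀ d : G, d ∈ K → d ∉ E → a * d * a⁻¹ = d⁻¹ → ∃ c ∈ K, c ∉ E ∧ c⁻¹ * (a * c * a⁻¹) ∈ E by
    refine this _ (mul_mem (inv_mem hc) (haK c hc)) h ?_
    have ha' : a⁻¹ = a := inv_eq_of_mul_eq_one_right haa
    rw [eq_inv_iff_mul_eq_one]
    calc a * (c⁻¹ * (a * c * a⁻¹)) * a⁻¹ * (c⁻¹ * (a * c * a⁻¹))
        = a * c⁻¹ * a * c * (a⁻¹ * a⁻¹) * c⁻¹ * a * c * a⁻¹ := by group
      _ = a * c⁻¹ * a * c * c⁻¹ * a * c * a⁻¹ := by rw [← mul_inv_rev, haa, inv_one, mul_one]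
      _ = a * c⁻¹ * (a * a) * c * a⁻¹ := by group
      _ = 1 := by rw [haa]; group
  intro d
  induction hn : orderOf d using Nat.strong_induction_on generalizing d with
  | _ n ih => ?_
  intro hd hdE hinv
  by_cases h2 : d * d ∈ E
  · refine ⟨d, hd, hdE, ?_⟩
    rw [hinv, ← mul_inv_rev]
    exact inv_mem h2
  haveI : Fact (Nat.Prime 2) := ⟨Nat.prime_two⟩
  refine ih _ ?_ (d * d) rfl (mul_mem hd hd) h2 (by rw [← pow_two, ← conj_pow, hinv, inv_pow])
  subst hn
  obtain ⟨m, hm⟩ := IsPGroup.iff_orderOf.1 hG d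
  have hm0 : m ≠ 0 := fun e => hdE (by
    rw [orderOf_eq_one_iff.1 (by rw [hm, e, pow_zero] : orderOf d = 1)]; exact one_mem _)
  rw [← pow_two, orderOf_pow' d two_ne_zero, hm, Nat.gcd_eq_right (dvd_pow_self 2 hm0)]
  exact Nat.div_lt_self (pow_pos two_pos m) one_lt_two

omit [Finite G] in
/-- Lifting two generators from the quotient. -/
theorem exists_lifts {B : Subgroup G} [B.Normal] (H : Subgroup G) {k : ℕ}
    (h : Gen (H.map (QuotientGroup.mk' B)) k) :
    ∃ S : Finset G, S.card ≤ k ∧ (S : Set G) ⊆ H ∧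
      ∀ x ∈ H, ∃ s ∈ closure (S : Set G), s⁻¹ * x ∈ B := by
  classical
  obtain ⟨T, hT, hT'⟩ := exists_closure_of_gen h
  have hpre : ∀ q : T, ∃ x ∈ H, (x : G ⧸ B) = q.1 := fun q => by
    obtain ⟨x, hx, hxq⟩ := (hT' ▸ subset_closure q.2 : (q.1 : G ⧸ B) ∈ H.map (QuotientGroup.mk' B))
    exact ⟨x, hx, hxq⟩
  choose f hfH hfq using hpre
  refine ⟨T.attach.image f, (Finset.card_image_le.trans (Finset.card_attach (s := T)).le).trans hT,
    fun x hx => ?_, fun x hx => ?_⟩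
  · obtain ⟨q, -, rfl⟩ := Finset.mem_image.1 hx
    exact hfH q
  have hle : closure (T : Set (G ⧸ B)) ≤
      (closure ((T.attach.image f : Finset G) : Set G)).map (QuotientGroup.mk' B) := by
    refine (closure_le _).2 fun q hq => ⟨f ⟨q, hq⟩, subset_closure ?_, hfq ⟨q, hq⟩⟩
    exact Finset.mem_image.2 ⟨⟨q, hq⟩, Finset.mem_attach _ _, rfl⟩
  obtain ⟨t, ht, htx⟩ := hle (hT'.ge (mem_map_of_mem (QuotientGroup.mk' B) hx))
  exact ⟨t, ht, QuotientGroup.eq.1 htx⟩

end CfsgLib.SRank
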