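import Cfsg.Agent.Lib.SRank.QuatDihedral
import Cfsg.Agent.Lib.SRank.ConstrainedQuot
import Cfsg.Agent.Lib.InvChar.HallJankoCount
import Cfsg.Agent.Lib.InvChar.Basic

/-!
Extensions of a `2`-group `Q` by `A₅` of sectional `2`-rank at most `4`: `Q` is elementary of order
`16` or `Q₈ * D₈`.
-/

set_option autoImplicit false
set_option linter.style.haveILetI false

namespace CfsgLib.SRank.Five

open Subgroup
open scoped commutatorElement

universe u

variable {Y : Type u} [Group Y] [Finite Y]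

/-- An element of prime order permuting a set fixes as many points as the set has, modulo the
prime. -/
theorem card_set_modEq {p : ℕ} [Fact p.Prime] {y : Y} (hy : y ^ p = 1) {S : Set Y}
    (hS : ∀ s ∈ S, y * s * y⁻¹ ∈ S) :
    Nat.card S ≡ Nat.card {s : Y // s ∈ S ∧ y * s * y⁻¹ = s} [MOD p] := by
  classical
  haveI : Fintype Y := Fintype.ofFinite Y
  let f : Function.End S := fun a => ⟨y * a.1 * y⁻¹, hS _ a.2⟩
  have hit : ∀ n : ℕ, ∀ a : S, (((f ^ n : Function.End S) a : S) : Y) = y ^ n * a.1 * (y ^ n)⁻¹ := by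
    intro n
    induction n with
    | zero =>
      intro a
      rw [pow_zero, pow_zero, one_mul, inv_one, mul_one]
      rfl
    | succ n ih =>
      intro a
      rw [pow_succ']
      show y * ((f ^ n : Function.End S) a : S).1 * y⁻¹ = _
      rw [ih, pow_succ']
      group
  have hf : f ^ p ^ 1 = 1 := funext fun a => Subtype.ext (by
    rw [pow_one]
    exact (hit p a).trans (by rw [hy, one_mul, inv_one, mul_one]; rfl))
  have h1 := Equiv.Perm.card_fixedPoints_modEq hf
  rw [Nat.card_eq_fintype_card, Nat.card_eq_fintype_card]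
  refine h1.trans (congrArg (· % p) ?_)
  exact Fintype.card_congr
    { toFun := fun a => ⟨a.1.1, a.1.2, congrArg Subtype.val a.2⟩
      invFun := fun a => ⟨⟨a.1, a.2.1⟩, Subtype.ext a.2.2⟩
      left_inv := fun a => rfl
      right_inv := fun a => rfl }

/-- The subgroup form. -/
theorem card_modEq {p : ℕ} [Fact p.Prime] {y : Y} (hy : y ^ p = 1) {B : Subgroup Y}
    (hB : ∀ b ∈ B, y * b * y⁻¹ ∈ B) :
    Nat.card B ≡ Nat.card (B ⊓ centralizer ({y} : Set Y) : Subgroup Y) [MOD p] := by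
  refine (card_set_modEq hy (S := (B : Set Y)) hB).trans (congrArg (· % p) ?_)
  refine Nat.card_congr (Equiv.subtypeEquivRight fun s => ?_)
  rw [mem_inf, mem_centralizer_singleton_iff, conj_eq_iff]
  exact and_congr_right fun _ => eq_comm

omit [Finite Y] in
theorem card_map_mk {Q B : Subgroup Y} [Q.Normal] (hQB : Q ≤ B) :
    Nat.card B = Nat.card Q * Nat.card (B.map (QuotientGroup.mk' Q)) := by
  set ρ : B →* Y ⧸ Q := (QuotientGroup.mk' Q).comp B.subtype with hρ
  have hk : Nat.card ρ.ker = Nat.card Q :=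
    Nat.card_congr ⟨fun x => ⟨x.1.1, (QuotientGroup.eq_one_iff _).1 (MonoidHom.mem_ker.1 x.2)⟩,
      fun v => ⟨⟨v.1, hQB v.2⟩, MonoidHom.mem_ker.2 ((QuotientGroup.eq_one_iff _).2 v.2)⟩,
      fun x => rfl, fun x => rfl⟩
  rw [← ρ.ker.card_mul_index, index_ker, hk, hρ, MonoidHom.range_comp, range_subtype]

/-- An element of odd prime order lifts through a quotient by a `2`-group. -/
theorem exists_lift {Q : Subgroup Y} [Q.Normal] (hQ : IsPGroup 2 Q) {p : ℕ} (hp : p.Prime) (hp2 : p ≠ 2)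
    {s : Y ⧸ Q} (hs : s ^ p = 1) : ∃ g : Y, (g : Y ⧸ Q) = s ∧ g ^ p = 1 := by
  obtain ⟨g, rfl⟩ := QuotientGroup.mk_surjective s
  have hgQ : g ^ p ∈ Q := (QuotientGroup.eq_one_iff _).1 (by rw [QuotientGroup.mk_pow, hs])
  obtain ⟨a, ha⟩ := hQ ⟨_, hgQ⟩
  have ha' : (g ^ p) ^ 2 ^ a = 1 := congrArg Subtype.val ha
  obtain ⟨m, hm⟩ := Nat.exists_mul_mod_eq_one_of_coprime (n := 2 ^ a) (k := p)
    (Nat.Coprime.pow_left a ((Nat.coprime_primes Nat.prime_two hp).2 (Ne.symm hp2))) hp.one_lt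
  obtain ⟨-, hm⟩ := hm
  refine ⟨g ^ (2 ^ a * m), ?_, ?_⟩
  · rw [QuotientGroup.mk_pow, pow_eq_pow_mod _ hs, hm, pow_one]
  · rw [← pow_mul, mul_comm, ← mul_assoc, pow_mul, pow_mul, ha', one_pow]

omit [Finite Y] in
theorem mem_zpowers_iff_commute_aux {h a : Y} (ha : a ∈ zpowers h) : h * a = a * h := by
  obtain ⟨n, rfl⟩ := mem_zpowers_iff.1 ha
  exact (Commute.refl h).zpow_right n |>.eq

/-- An involution inverting an element of order `5` without fixed points on a group `E₁₆` fixes a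
subgroup of order `4`. -/
theorem card_fixed_inverter {B : Subgroup Y} {x h : Y} (hB : Exp2 B) (h16 : Nat.card B = 16)
    (hxB : ∀ b ∈ B, x * b * x⁻¹ ∈ B) (hhB : ∀ b ∈ B, h * b * h⁻¹ ∈ B) (h5 : h ^ 5 = 1)
    (hxx : x * x = 1) (hinv : x * h * x⁻¹ = h⁻¹) (hfix : ∀ b ∈ B, h * b = b * h → b = 1) :
    Nat.card (B ⊓ centralizer ({x} : Set Y) : Subgroup Y) = 4 := by
  haveI : Fact (Nat.Prime 2) := ⟨Nat.prime_two⟩
  set F := B ⊓ centralizer ({x} : Set Y) with hF
  have hlo : 16 ≤ Nat.card F * Nat.card F := by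
    have := card_le_fixed_sq hB (a := x) hxB fun b _ => by rw [hxx, one_mul, mul_one]
    rwa [h16] at this
  let f : F × F → B := fun p => ⟨p.1 * (h * p.2 * h⁻¹), mul_mem p.1.2.1 (hhB _ p.2.2.1)⟩
  have hf : Function.Injective f := by
    rintro ⟨a, b⟩ ⟨c, d⟩ e
    have e' : (a : Y) * (h * b * h⁻¹) = c * (h * d * h⁻¹) := congrArg Subtype.val e
    set u := (c : Y)⁻¹ * a with hu
    have hu1 : u ∈ F := mul_mem (inv_mem c.2) a.2
    have hu2 : u = h * ((d : Y) * (b : Y)⁻¹) * h⁻¹ := by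
      rw [hu, show (a : Y) = c * (h * d * h⁻¹) * (h * b * h⁻¹)⁻¹ by rw [← e', mul_inv_cancel_right]]
      group
    set v := (d : Y) * (b : Y)⁻¹
    have hv : v ∈ F := mul_mem d.2 (inv_mem b.2)
    -- `v` is fixed by `x` and `h⁻¹ x h`
    have hxh : x * h = h⁻¹ * x := by rw [← hinv, inv_mul_cancel_right]
    have hxv : x * v = v * x := (mem_centralizer_singleton_iff.1 hv.2).symm
    have hxu : x * u = u * x := (mem_centralizer_singleton_iff.1 hu1.2).symm
    have h2v : h * h * v = v * (h * h) := by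
      have h3 : h⁻¹ * (x * v) * h⁻¹ = h * v * h⁻¹ * x := by
        calc h⁻¹ * (x * v) * h⁻¹ = (x * h) * v * h⁻¹ := by rw [hxh]; group
          _ = x * u := by rw [hu2]; group
          _ = u * x := hxu
          _ = _ := by rw [hu2]
      have h4 : h⁻¹ * x = x * h := hxh.symm
      have h5' : x * h⁻¹ = h * x := by
        rw [← mul_right_inj h⁻¹, ← mul_assoc, h4, mul_assoc, mul_inv_cancel, mul_one, inv_mul_cancel_left]
      rw [hxv, mul_assoc h⁻¹, mul_assoc v, h5'] at h3
      have h6 : h⁻¹ * v * h = h * v * h⁻¹ := mul_right_cancel (b := x)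
        ((show h⁻¹ * v * h * x = h⁻¹ * (v * (h * x)) by group).trans h3)
      calc h * h * v = h * (h * v * h⁻¹) * h := by group
        _ = h * (h⁻¹ * v * h) * h := by rw [h6]
        _ = v * (h * h) := by group
    have hhv : h * v = v * h := by
      have hc : Commute (h * h) v := h2v
      have : h = (h * h) ^ 3 := by rw [← pow_two, ← pow_mul, show 2 * 3 = 5 + 1 from rfl, pow_succ, h5, one_mul]
      rw [this]; exact (hc.pow_left 3).eq
    have hv1 := hfix v hv.1 hhv
    have hdb : d = b := Subtype.ext (mul_inv_eq_one.1 hv1)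
    subst hdb
    exact Prod.ext (Subtype.ext (mul_right_cancel e')) rfl
  have hhi := Nat.card_le_card_of_injective f hf
  rw [Nat.card_prod, h16] at hhi
  have := Nat.mul_self_le_mul_self_iff.1 (hhi.trans (by norm_num : 16 ≤ 4 * 4))
  have := Nat.mul_self_le_mul_self_iff.1 ((by norm_num : 4 * 4 ≤ 16).trans hlo)
  omega

/-- The hypotheses: `Y/Q ≅ A₅`, and `Q/P` is elementary of order `16` with trivial centralizer. -/
structure Setting (Q P : Subgroup Y) [Q.Normal] [P.Normal] : Prop where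
  sq : P = Subgroup.closure ((fun q => q * q) '' (Q : Set Y))
  two : IsPGroup 2 Q
  card : Nat.card Q = 16 * Nat.card P
  self : ∀ y, (∀ q ∈ Q, y * q * y⁻¹ * q⁻¹ ∈ P) → y ∈ Q
  iso : Nonempty (Y ⧸ Q ≃* alternatingGroup (Fin 5))
  rank : Cfsg.SectionalPRankLE 2 4 Y

namespace Setting

variable {Q P : Subgroup Y} [Q.Normal] [P.Normal] (s : Setting Q P)
include s

omit [Finite Y] in
theorem le : P ≤ Q := by
  rw [s.sq, Subgroup.closure_le]
  rintro _ ⟨q, hq, rfl⟩
  exact mul_mem hq hq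

omit [Finite Y] in
theorem sq_mem {q : Y} (hq : q ∈ Q) : q * q ∈ P := s.sq.ge (Subgroup.subset_closure ⟨q, hq, rfl⟩)

omit [Finite Y] in
theorem exp2_bar : Exp2 (Q.map (QuotientGroup.mk' P)) := by
  rintro _ ⟨q, hq, rfl⟩
  rw [← map_mul]
  exact (QuotientGroup.eq_one_iff _).2 (s.sq_mem hq)

omit [Finite Y] in
theorem comm_mem {a b : Y} (ha : a ∈ Q) (hb : b ∈ Q) : a * b * a⁻¹ * b⁻¹ ∈ P := by
  have h := s.exp2_bar.comm (mem_map_of_mem _ ha) (mem_map_of_mem _ hb)
  rw [← map_mul, ← map_mul, QuotientGroup.mk'_eq_mk'] at h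
  obtain ⟨z, hz, h⟩ := h
  have : a * b * a⁻¹ * b⁻¹ = (b * a) * z⁻¹ * (b * a)⁻¹ := by
    rw [eq_inv_mul_of_mul_eq h]; group
  rw [this]
  exact Normal.conj_mem inferInstance _ (inv_mem hz) _

theorem card_bar {B : Subgroup Y} (hPB : P ≤ B) :
    Nat.card P * Nat.card (B.map (QuotientGroup.mk' P)) = Nat.card B := by
  set ρ : B →* Y ⧸ P := (QuotientGroup.mk' P).comp B.subtype with hρ
  have hk : Nat.card ρ.ker = Nat.card P :=
    Nat.card_congr ⟨fun x => ⟨x.1.1, (QuotientGroup.eq_one_iff _).1 (MonoidHom.mem_ker.1 x.2)⟩,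
      fun v => ⟨⟨v.1, hPB v.2⟩, MonoidHom.mem_ker.2 ((QuotientGroup.eq_one_iff _).2 v.2)⟩,
      fun x => rfl, fun x => rfl⟩
  rw [← ρ.ker.card_mul_index, index_ker, hk, hρ, MonoidHom.range_comp, range_subtype]

theorem card_top_bar : Nat.card (Q.map (QuotientGroup.mk' P)) = 16 := by
  have h := s.card_bar s.le
  rw [s.card, mul_comm 16] at h
  exact Nat.eq_of_mul_eq_mul_left Nat.card_pos h

theorem not_self {y : Y} (hy : y ∉ Q) : ∃ q ∈ Q, y * q * y⁻¹ * q⁻¹ ∉ P := by
  by_contra! h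
  exact hy (s.self y h)

/-- An element of order `5` fixes no coset. -/
theorem fpf {h : Y} (h5 : h ^ 5 = 1) (hh : h ∉ Q) {q : Y} (hq : q ∈ Q)
    (hfix : h * q * h⁻¹ * q⁻¹ ∈ P) : q ∈ P := by
  haveI : Fact (Nat.Prime 5) := ⟨by norm_num⟩
  set B := Q.map (QuotientGroup.mk' P) with hB
  haveI : B.Normal := Normal.map inferInstance _ (QuotientGroup.mk'_surjective P)
  set hb := QuotientGroup.mk' P h
  have hm := card_modEq (y := hb) (p := 5) (by rw [← map_pow, h5, map_one]) (B := B)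
    fun b hb' => Normal.conj_mem inferInstance b hb' _
  rw [s.card_top_bar] at hm
  have hd : Nat.card (B ⊓ centralizer ({hb} : Set (Y ⧸ P)) : Subgroup (Y ⧸ P)) ∣ 2 ^ 4 := by
    have := card_dvd_of_le (inf_le_left : B ⊓ centralizer ({hb} : Set (Y ⧸ P)) ≤ B)
    rwa [s.card_top_bar] at this
  obtain ⟨k, hk, hkF⟩ := (Nat.dvd_prime_pow Nat.prime_two).1 hd
  rw [hkF, Nat.ModEq] at hm
  by_contra hqP
  have hne : (B ⊓ centralizer ({hb} : Set (Y ⧸ P)) : Subgroup (Y ⧸ P)) ≠ ⊥ := by
    intro e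
    refine hqP ((QuotientGroup.eq_one_iff q).1 ((eq_bot_iff_forall _).1 e _ ⟨mem_map_of_mem _ hq,
      mem_centralizer_singleton_iff.2 (commutatorElement_eq_one_iff_mul_comm.1 ?_).symm⟩))
    rw [commutatorElement_def]
    exact (QuotientGroup.eq_one_iff _).2 hfix
  interval_cases k
  · exact hne (card_eq_one.1 (hkF.trans rfl))
  all_goals first
    | (norm_num at hm)
    | skip
  have heq := eq_of_le_of_card_ge (inf_le_left : B ⊓ centralizer ({hb} : Set (Y ⧸ P)) ≤ B)
    (by rw [hkF, s.card_top_bar]; norm_num)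
  obtain ⟨r, hr, hrn⟩ := s.not_self hh
  refine hrn ((QuotientGroup.eq_one_iff _).1 ?_)
  have hc := mem_centralizer_singleton_iff.1 (heq.ge (mem_map_of_mem _ hr)).2
  show hb * QuotientGroup.mk' P r * hb⁻¹ * (QuotientGroup.mk' P r)⁻¹ = 1
  rw [← hc, mul_inv_cancel_right, mul_inv_cancel]

omit [Finite Y] in
theorem exists_elts : ∃ h x y : Y ⧸ Q, h ^ 5 = 1 ∧ h ≠ 1 ∧ x * x = 1 ∧ x ≠ 1 ∧
    x * h * x⁻¹ = h⁻¹ ∧ y ^ 3 = 1 ∧ y ≠ 1 := by
  obtain ⟨e⟩ := s.iso
  obtain ⟨h, x, y, a1, a2, a3, a4, a5, a6, a7⟩ :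
      ∃ h x y : alternatingGroup (Fin 5), h ^ 5 = 1 ∧ h ≠ 1 ∧ x * x = 1 ∧ x ≠ 1 ∧
        x * h * x⁻¹ = h⁻¹ ∧ y ^ 3 = 1 ∧ y ≠ 1 := by
    refine ⟨⟨Equiv.swap 0 1 * Equiv.swap 1 2 * Equiv.swap 2 3 * Equiv.swap 3 4, Equiv.Perm.mem_alternatingGroup.2 (by decide)⟩,
      ⟨Equiv.swap 1 4 * Equiv.swap 2 3, Equiv.Perm.mem_alternatingGroup.2 (by decide)⟩, ⟨Equiv.swap 0 1 * Equiv.swap 1 2, Equiv.Perm.mem_alternatingGroup.2 (by decide)⟩, ?_⟩
    simp only [Subtype.ext_iff, ne_eq, SubgroupClass.coe_pow, Subgroup.coe_mul, Subgroup.coe_inv,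
      OneMemClass.coe_one]
    decide
  refine ⟨e.symm h, e.symm x, e.symm y, ?_, ?_, ?_, ?_, ?_, ?_, ?_⟩
  all_goals simp only [← map_pow, ← map_mul, ← map_inv, ne_eq, EmbeddingLike.map_eq_one_iff]
  exacts [a1, a2, a3, a4, congrArg e.symm a5, a6, a7]

/-- An element of order `5`, and one of order `3`. -/
theorem exists_five_three :
    (∃ h : Y, h ^ 5 = 1 ∧ h ∉ Q) ∧ ∃ y : Y, y ^ 3 = 1 ∧ y ∉ Q := by
  obtain ⟨h, x, y, h5, h1, -, -, -, y3, y1⟩ := s.exists_elts
  obtain ⟨g, rfl, hg⟩ := exists_lift s.two (by norm_num : Nat.Prime 5) (by norm_num) h5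
  obtain ⟨k, rfl, hk⟩ := exists_lift s.two (by norm_num : Nat.Prime 3) (by norm_num) y3
  exact ⟨⟨g, hg, fun hm => h1 ((QuotientGroup.eq_one_iff _).2 hm)⟩,
    ⟨k, hk, fun hm => y1 ((QuotientGroup.eq_one_iff _).2 hm)⟩⟩

omit [Finite Y] in
/-- A normal subgroup containing `Q` and one more element is everything. -/
theorem eq_top {K : Subgroup Y} [K.Normal] (hQK : Q ≤ K) {g : Y} (hg : g ∈ K) (hgQ : g ∉ Q) :
    K = ⊤ := by
  obtain ⟨e⟩ := s.iso
  haveI : IsSimpleGroup (Y ⧸ Q) := by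
    haveI := alternatingGroup.isSimpleGroup (α := Fin 5) (by simp)
    exact e.isSimpleGroup
  haveI : (K.map (QuotientGroup.mk' Q)).Normal :=
    Normal.map inferInstance _ (QuotientGroup.mk'_surjective Q)
  rcases (inferInstance : (K.map (QuotientGroup.mk' Q)).Normal).eq_bot_or_eq_top with h | h
  · exact absurd ((QuotientGroup.eq_one_iff g).1 ((eq_bot_iff_forall _).1 h _ (mem_map_of_mem _ hg))) hgQ
  · rw [← comap_map_eq_self (f := QuotientGroup.mk' Q) (H := K) (by rwa [QuotientGroup.ker_mk']),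
      h, comap_top]

/-- The quotient by a normal subgroup of `Y` inside `P`. -/
theorem quot {R : Subgroup Y} [R.Normal] (hR : R ≤ P) [(Q.map (QuotientGroup.mk' R)).Normal]
    [(P.map (QuotientGroup.mk' R)).Normal] :
    Setting (Q.map (QuotientGroup.mk' R)) (P.map (QuotientGroup.mk' R)) where
  sq := by
    conv_lhs => rw [s.sq]
    rw [MonoidHom.map_closure, coe_map, Set.image_image, Set.image_image]
    simp only [map_mul]
  two := s.two.map _
  card := by
    have h1 : ∀ B : Subgroup Y, R ≤ B →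
        Nat.card R * Nat.card (B.map (QuotientGroup.mk' R)) = Nat.card B := by
      intro B hRB
      set ρ : B →* Y ⧸ R := (QuotientGroup.mk' R).comp B.subtype with hρ
      have hk : Nat.card ρ.ker = Nat.card R :=
        Nat.card_congr ⟨fun x => ⟨x.1.1, (QuotientGroup.eq_one_iff _).1 (MonoidHom.mem_ker.1 x.2)⟩,
          fun v => ⟨⟨v.1, hRB v.2⟩, MonoidHom.mem_ker.2 ((QuotientGroup.eq_one_iff _).2 v.2)⟩,
          fun x => rfl, fun x => rfl⟩
      rw [← ρ.ker.card_mul_index, index_ker, hk, hρ, MonoidHom.range_comp, range_subtype]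
    refine Nat.eq_of_mul_eq_mul_left (Nat.card_pos (α := R)) ?_
    rw [h1 Q (hR.trans s.le), s.card, ← h1 P hR]
    ring
  self := by
    intro y hy
    obtain ⟨y, rfl⟩ := QuotientGroup.mk'_surjective R y
    refine mem_map_of_mem _ (s.self y fun q hq => ?_)
    have h := hy _ (mem_map_of_mem _ hq)
    rw [← map_inv, ← map_inv, ← map_mul, ← map_mul, ← map_mul] at h
    obtain ⟨z, hz, hze⟩ := h
    have hm : z⁻¹ * (y * q * y⁻¹ * q⁻¹) ∈ R := QuotientGroup.eq.1 hze
    simpa using mul_mem hz (hR hm)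
  iso := by
    obtain ⟨e⟩ := s.iso
    exact ⟨(QuotientGroup.quotientQuotientEquivQuotient R Q (hR.trans s.le)).trans e⟩
  rank := Invol.sectional_quotient R s.rank

/-- A minimal normal subgroup inside `P`. -/
theorem minimal {W : Subgroup Y} [W.Normal] (hW1 : W ≠ ⊥) (hWP : W ≤ P)
    (hmin : ∀ K : Subgroup Y, K.Normal → K ≤ W → K = ⊥ ∨ K = W) :
    (∀ w ∈ W, ∀ q ∈ Q, w * q = q * w) ∧ Exp2 W ∧
      ((Nat.card W = 2 ∧ W ≤ center Y) ∨
        (Nat.card W = 16 ∧ ∀ h : Y, h ^ 5 = 1 → h ∉ Q → ∀ w ∈ W, h * w = w * h → w = 1)) := by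
  haveI : Fact (Nat.Prime 2) := ⟨Nat.prime_two⟩
  haveI : Fact (Nat.Prime 5) := ⟨by norm_num⟩
  have hWQ := hWP.trans s.le
  haveI : (centralizer (Q : Set Y)).Normal := inferInstance
  have hcen : W ≤ centralizer (Q : Set Y) := by
    haveI : (W.subgroupOf Q).Normal := Normal.subgroupOf inferInstance Q
    obtain ⟨z, hzW, hz1, hzc⟩ := InvChar.exists_mem_center_of_normal s.two (W.subgroupOf Q)
      (fun e => hW1 (by
        rw [eq_bot_iff]
        intro w hw
        have : (⟨w, hWQ hw⟩ : Q) = 1 := (eq_bot_iff_forall _).1 e _ hw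
        exact congrArg Subtype.val this))
    refine inf_eq_left.1 ((hmin _ inferInstance inf_le_left).resolve_left fun e => hz1 ?_)
    exact Subtype.ext ((eq_bot_iff_forall _).1 e z ⟨hzW,
      mem_centralizer_iff.2 fun q hq => congrArg Subtype.val (mem_center_iff.1 hzc ⟨q, hq⟩)⟩)
  have hcq : ∀ w ∈ W, ∀ q ∈ Q, w * q = q * w := fun w hw q hq =>
    (mem_centralizer_iff.1 (hcen hw) q hq).symm
  have hexp : Exp2 W := by
    let W0 : Subgroup Y :=
      { carrier := {w | w ∈ W ∧ w * w = 1}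
        mul_mem' := fun {a b} ha hb => ⟨mul_mem ha.1 hb.1, by
          rw [mul_assoc, ← mul_assoc b, ← hcq a ha.1 b (hWQ hb.1), mul_assoc, hb.2, mul_one, ha.2]⟩
        one_mem' := ⟨one_mem _, one_mul 1⟩
        inv_mem' := fun {a} ha => ⟨inv_mem ha.1, by rw [← mul_inv_rev, ha.2, inv_one]⟩ }
    have hW0 : W0.Normal := ⟨fun w hw g => ⟨Normal.conj_mem inferInstance w hw.1 g, by
      rw [show g * w * g⁻¹ * (g * w * g⁻¹) = g * (w * w) * g⁻¹ by group, hw.2, mul_one, mul_inv_cancel]⟩⟩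
    have hne : W0 ≠ ⊥ := by
      obtain ⟨k, hk⟩ := (s.two.to_le hWQ).exists_card_eq
      have hk0 : k ≠ 0 := fun e => hW1 (card_eq_one.1 (by rw [hk, e, pow_zero]))
      obtain ⟨⟨w, hw⟩, ho⟩ := exists_prime_orderOf_dvd_card' (G := W) 2 (hk ▸ dvd_pow_self 2 hk0)
      intro e
      have h2 : w * w = 1 := by
        have := congrArg Subtype.val (pow_orderOf_eq_one (⟨w, hw⟩ : W))
        rwa [ho, pow_two] at this
      have hw1 : w = 1 := (eq_bot_iff_forall _).1 e w ⟨hw, h2⟩
      subst hw1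
      simp at ho
    have := (hmin W0 hW0 fun w hw => hw.1).resolve_left hne
    intro w hw
    exact (this.ge hw).2
  refine ⟨hcq, hexp, ?_⟩
  obtain ⟨h, h5, hhQ⟩ := s.exists_five_three.1
  by_cases htriv : ∀ w ∈ W, h * w = w * h
  · refine Or.inl ?_
    have hK : centralizer (W : Set Y) = ⊤ := s.eq_top
      (fun q hq => mem_centralizer_iff.2 fun w hw => hcq w hw q hq)
      (mem_centralizer_iff.2 fun w hw => (htriv w hw).symm) hhQ
    have hWZ : W ≤ center Y := fun w hw => mem_center_iff.2 fun g =>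
      (mem_centralizer_iff.1 (hK.ge (mem_top g)) w hw).symm
    obtain ⟨w, hw, hw1⟩ := W.bot_or_exists_ne_one.resolve_left hW1
    have hzn : (zpowers w).Normal := ⟨fun a ha g => by
      rw [mem_center_iff.1 (zpowers_le.2 (hWZ hw) ha) g, mul_inv_cancel_right]; exact ha⟩
    have heq := (hmin _ hzn (zpowers_le.2 hw)).resolve_left (zpowers_ne_bot.2 hw1)
    refine ⟨?_, hWZ⟩
    rw [← heq, Nat.card_zpowers, orderOf_eq_prime_iff]
    exact ⟨by rw [pow_two]; exact hexp w hw, hw1⟩
  · have hfix : ∀ g : Y, g ^ 5 = 1 → g ∉ Q →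
        ∀ w ∈ W, g * w = w * g → w = 1 ∨ ∀ v ∈ W, g * v = v * g := by
      intro g g5 gQ w hw hgw
      have hm := card_modEq (y := g) g5 (B := W) fun b hb => Normal.conj_mem inferInstance b hb g
      have hle : Nat.card W ≤ 2 ^ 4 := Invol.prank_of_sectional s.rank W hexp.isMulCommutative
        (fun a ha => by rw [pow_two]; exact hexp a ha)
      set F := W ⊓ centralizer ({g} : Set Y)
      obtain ⟨n, hn⟩ := (s.two.to_le hWQ).exists_card_eq
      obtain ⟨k, hk, hkF⟩ := (Nat.dvd_prime_pow Nat.prime_two).1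
        (hn ▸ card_dvd_of_le (inf_le_left : F ≤ W))
      have hn4 : n ≤ 4 := (Nat.pow_le_pow_iff_right (a := 2) (by norm_num)).1 (hn ▸ hle)
      by_cases hk0 : k = 0
      · exact Or.inl ((eq_bot_iff_forall _).1 (card_eq_one.1 (hkF.trans (by rw [hk0, pow_zero]))) w
          ⟨hw, mem_centralizer_singleton_iff.2 hgw.symm⟩)
      rw [hn, hkF, Nat.ModEq] at hm
      have : k = n := by interval_cases n <;> interval_cases k <;> first | rfl | omega
      have heq := eq_of_le_of_card_ge (inf_le_left : F ≤ W) (by rw [hn, hkF, this])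
      exact Or.inr fun v hv => (mem_centralizer_singleton_iff.1 (heq.ge hv).2).symm
    have hno : ∀ g : Y, g ^ 5 = 1 → g ∉ Q → ¬ ∀ v ∈ W, g * v = v * g := fun g g5 gQ hall => by
      have hK : centralizer (W : Set Y) = ⊤ := s.eq_top
        (fun q hq => mem_centralizer_iff.2 fun w hw => hcq w hw q hq)
        (mem_centralizer_iff.2 fun w hw => (hall w hw).symm) gQ
      exact htriv fun w hw => (mem_centralizer_iff.1 (hK.ge (mem_top h)) w hw).symm
    refine Or.inr ⟨?_, fun g g5 gQ w hw hgw => (hfix g g5 gQ w hw hgw).resolve_right (hno g g5 gQ)⟩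
    have hm := card_modEq (y := h) h5 (B := W) fun b hb => Normal.conj_mem inferInstance b hb h
    have hF : W ⊓ centralizer ({h} : Set Y) = ⊥ := (eq_bot_iff_forall _).2 fun w hw =>
      (hfix h h5 hhQ w hw.1 (mem_centralizer_singleton_iff.1 hw.2).symm).resolve_right htriv
    have hle : Nat.card W ≤ 2 ^ 4 := Invol.prank_of_sectional s.rank W hexp.isMulCommutative
      (fun a ha => by rw [pow_two]; exact hexp a ha)
    obtain ⟨n, hn⟩ := (s.two.to_le hWQ).exists_card_eq
    have hn4 : n ≤ 4 := (Nat.pow_le_pow_iff_right (a := 2) (by norm_num)).1 (hn ▸ hle)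
    have hn0 : n ≠ 0 := fun e => hW1 (card_eq_one.1 (by rw [hn, e, pow_zero]))
    rw [hn, hF, card_bot, Nat.ModEq] at hm
    rw [hn]
    interval_cases n <;> omega

/-- `P` of order `16`, central in `Q`, with the element of order `5` fixing nothing: impossible. -/
theorem false_of_big (h16 : Nat.card P = 16) (hPQ : ∀ w ∈ P, ∀ q ∈ Q, w * q = q * w) (hP2 : Exp2 P)
    (hPf : ∀ h : Y, h ^ 5 = 1 → h ∉ Q → ∀ w ∈ P, h * w = w * h → w = 1) : False := by
  haveI : Fact (Nat.Prime 2) := ⟨Nat.prime_two⟩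
  haveI : Fact (Nat.Prime 5) := ⟨by norm_num⟩
  obtain ⟨hs, xs, -, h5, h1, x2, x1, hinv, -, -⟩ := s.exists_elts
  obtain ⟨h, rfl, hh5⟩ := exists_lift s.two (by norm_num : Nat.Prime 5) (by norm_num) h5
  have hhQ : h ∉ Q := fun hm => h1 ((QuotientGroup.eq_one_iff _).2 hm)
  -- `C_Q(h) = 1`
  have hfree : ∀ q ∈ Q, h * q = q * h → q = 1 := fun q hq hc => hPf h hh5 hhQ q
    (s.fpf hh5 hhQ hq (by rw [hc, mul_inv_cancel_right, mul_inv_cancel]; exact one_mem _)) hc
  -- an involution inverting `h`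
  obtain ⟨x0, rfl⟩ := QuotientGroup.mk_surjective xs
  obtain ⟨x, hxQ, hxx, hxh⟩ : ∃ x : Y, x ∉ Q ∧ x * x = 1 ∧ x * h * x⁻¹ = h⁻¹ := by
    set k := x0 * h * x0⁻¹ with hk
    set K := Q ⊔ zpowers h with hK
    have hkh : ∃ q ∈ Q, k = q * h⁻¹ := by
      refine ⟨k * h, (QuotientGroup.eq_one_iff _).1 ?_, by group⟩
      rw [hk, QuotientGroup.mk_mul, QuotientGroup.mk_mul, QuotientGroup.mk_mul, QuotientGroup.mk_inv,
        hinv, inv_mul_cancel]
    obtain ⟨q, hq, hkq⟩ := hkh
    have hkK : k ∈ K := by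
      rw [hkq]; exact mul_mem_sup hq (inv_mem (mem_zpowers h))
    have hk5 : k ^ 5 = 1 := by rw [hk, conj_pow, hh5, mul_one, mul_inv_cancel]
    have hk1 : k ≠ 1 := fun e => hhQ (by
      have : h⁻¹ = q⁻¹ := by rw [eq_inv_iff_mul_eq_one, ← mul_right_inj q, ← mul_assoc, ← hkq, e, one_mul, mul_one]
      rw [inv_inj.1 this]; exact hq)
    have oh : Nat.card (zpowers h) = 5 := by
      rw [Nat.card_zpowers]; exact orderOf_eq_prime hh5 fun e => hhQ (e ▸ one_mem _)
    have ok : Nat.card (zpowers k) = 5 := by rw [Nat.card_zpowers]; exact orderOf_eq_prime hk5 hk1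
    have hKcard : Nat.card K ∣ Nat.card Q * 5 := by
      refine dvd_of_eq ?_
      rw [card_map_mk (show Q ≤ K from le_sup_left), hK, Subgroup.map_sup, QuotientGroup.map_mk'_self, bot_sup_eq,
        MonoidHom.map_zpowers, Nat.card_zpowers, QuotientGroup.mk'_apply, orderOf_eq_prime h5 h1]
    have hSyl : ∀ g, g ∈ K → Nat.card (zpowers g) = 5 → ∃ S : Sylow 5 K, (S : Subgroup K) = (zpowers g).subgroupOf K := by
      intro g hg og
      refine ⟨Sylow.ofCard _ ?_, Sylow.coe_ofCard _ _⟩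
      rw [Nat.card_congr (subgroupOfEquivOfLe (zpowers_le.2 hg)).toEquiv, og]
      have hd := Nat.ordProj_dvd (Nat.card K) 5
      have h5d : 5 ∣ Nat.card K := og ▸ card_dvd_of_le (zpowers_le.2 hg)
      obtain ⟨n, hn⟩ := s.two.exists_card_eq
      have hcop : Nat.Coprime (5 ^ (Nat.card K).factorization 5) (Nat.card Q) := by
        rw [hn]; exact Nat.Coprime.pow _ _ (by norm_num)
      have hle := hcop.dvd_of_dvd_mul_left (hd.trans hKcard)
      have hne : (Nat.card K).factorization 5 ≠ 0 :=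
        (Nat.Prime.factorization_pos_of_dvd (by norm_num) Nat.card_pos.ne' h5d).ne'
      have := (Nat.dvd_prime_pow (by norm_num : Nat.Prime 5)).1 (show 5 ^ (Nat.card K).factorization 5 ∣ 5 ^ 1 by simpa using hle)
      obtain ⟨i, hi, hie⟩ := this
      have := Nat.pow_right_injective (show 2 ≤ 5 by norm_num) hie
      rw [show (Nat.card K).factorization 5 = 1 by omega, pow_one]
    obtain ⟨Sh, hSh⟩ := hSyl h (mem_sup_right (mem_zpowers h) : h ∈ Q ⊔ zpowers h) oh
    obtain ⟨Sk, hSk⟩ := hSyl k hkK ok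
    obtain ⟨⟨c, hc⟩, hcS⟩ := MulAction.exists_smul_eq K Sk Sh
    obtain ⟨q', hq', g, hg, rfl⟩ : ∃ q' ∈ Q, ∃ g ∈ zpowers h, g * q' = c := by
      have hc' : c ∈ ((zpowers h ⊔ Q : Subgroup Y) : Set Y) := by rw [sup_comm]; exact hc
      rw [mul_normal] at hc'
      obtain ⟨g, hg, q', hq', e⟩ := Set.mem_mul.1 hc'
      exact ⟨q', hq', g, hg, e⟩
    have hkmem : (g * q') * k * (g * q')⁻¹ ∈ zpowers h := by
      have h1 : (⟨g * q', hc⟩ : K) * ⟨k, hkK⟩ * (⟨g * q', hc⟩ : K)⁻¹ ∈ (Sh : Subgroup K) := by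
        rw [← hcS, Sylow.coe_subgroup_smul, mem_smul_pointwise_iff_exists]
        exact ⟨⟨k, hkK⟩, by rw [hSk]; exact mem_zpowers k, rfl⟩
      rw [hSh] at h1
      exact h1
    have hq'k : q' * k * q'⁻¹ ∈ zpowers h := by
      have := mul_mem (mul_mem (inv_mem hg) hkmem) hg
      rwa [show g⁻¹ * (g * q' * k * (g * q')⁻¹) * g = q' * k * q'⁻¹ by group] at this
    set x := q' * x0 with hx
    have hxQ : x ∉ Q := fun hm => x1 ((QuotientGroup.eq_one_iff _).2 (by
      simpa [hx] using mul_mem (inv_mem hq') hm))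
    have hxh : x * h * x⁻¹ = h⁻¹ := by
      have hmem : x * h * x⁻¹ * h ∈ zpowers h := by
        refine mul_mem ?_ (mem_zpowers h)
        rwa [show x * h * x⁻¹ = q' * k * q'⁻¹ by rw [hx, hk]; group]
      have hQm : x * h * x⁻¹ * h ∈ Q := (QuotientGroup.eq_one_iff _).1 (by
        rw [show x * h * x⁻¹ * h = q' * k * q'⁻¹ * h by rw [hx, hk]; group]
        simp only [QuotientGroup.mk_mul, QuotientGroup.mk_inv, (QuotientGroup.eq_one_iff q').2 hq', hk,
          hinv, one_mul, inv_one, mul_one, inv_mul_cancel])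
      have := hfree _ hQm (mem_zpowers_iff_commute_aux hmem)
      exact eq_inv_of_mul_eq_one_left this
    refine ⟨x, hxQ, hfree _ ((QuotientGroup.eq_one_iff _).1 ?_) ?_, hxh⟩
    · rw [hx]
      simp only [QuotientGroup.mk_mul, (QuotientGroup.eq_one_iff q').2 hq', one_mul]
      exact x2
    · have e : x * x * h * (x * x)⁻¹ = h := by
        calc x * x * h * (x * x)⁻¹ = x * (x * h * x⁻¹) * x⁻¹ := by group
          _ = x * h⁻¹ * x⁻¹ := by rw [hxh]
          _ = (x * h * x⁻¹)⁻¹ := by group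
          _ = h := by rw [hxh, inv_inv]
      exact (conj_eq_iff.1 e).symm
  -- fixed points of `x`
  have hxi : x⁻¹ = x := inv_eq_of_mul_eq_one_right hxx
  have hPf' := card_fixed_inverter (h := h) hP2 h16 (fun b hb => Normal.conj_mem inferInstance b hb x)
    (fun b hb => Normal.conj_mem inferInstance b hb h) hh5 hxx hxh (hPf h hh5 hhQ)
  set R := P ⊓ centralizer ({x} : Set Y) with hR
  haveI : (Q.map (QuotientGroup.mk' P)).Normal :=
    Normal.map inferInstance _ (QuotientGroup.mk'_surjective P)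
  set xb := QuotientGroup.mk' P x with hxb
  have hQf' := card_fixed_inverter (h := QuotientGroup.mk' P h) s.exp2_bar s.card_top_bar
    (fun b hb => Normal.conj_mem inferInstance b hb xb)
    (fun b hb => Normal.conj_mem inferInstance b hb _) (by rw [← map_pow, hh5, map_one])
    (show xb * xb = 1 by rw [hxb, ← map_mul, hxx, map_one])
    (by rw [hxb, ← map_inv, ← map_mul, ← map_mul, hxh, map_inv]) (by
      rintro _ ⟨q, hq, rfl⟩ hc
      refine (QuotientGroup.eq_one_iff q).2 (s.fpf hh5 hhQ hq ((QuotientGroup.eq_one_iff _).1 ?_))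
      show QuotientGroup.mk' P h * QuotientGroup.mk' P q * (QuotientGroup.mk' P h)⁻¹ * (QuotientGroup.mk' P q)⁻¹ = 1
      rw [hc, mul_inv_cancel_right, mul_inv_cancel])
  set L := Q ⊓ (centralizer ({xb} : Set (Y ⧸ P))).comap (QuotientGroup.mk' P) with hL
  have hPL : P ≤ L := fun p hp => ⟨s.le hp, by
    show QuotientGroup.mk' P p ∈ centralizer ({xb} : Set (Y ⧸ P))
    rw [mem_centralizer_singleton_iff,
      show QuotientGroup.mk' P p = 1 from (QuotientGroup.eq_one_iff p).2 hp, one_mul, mul_one]⟩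
  have hLcard : Nat.card L = 64 := by
    rw [← s.card_bar hPL, h16, hL]
    have : (Q ⊓ (centralizer ({xb} : Set (Y ⧸ P))).comap (QuotientGroup.mk' P)).map (QuotientGroup.mk' P) =
        Q.map (QuotientGroup.mk' P) ⊓ centralizer ({xb} : Set (Y ⧸ P)) := by
      ext y
      constructor
      · rintro ⟨z, ⟨hz1, hz2⟩, rfl⟩
        exact ⟨mem_map_of_mem _ hz1, hz2⟩
      · rintro ⟨⟨z, hz, rfl⟩, h2⟩
        exact ⟨z, ⟨hz, h2⟩, rfl⟩
    rw [this, hQf']
  -- every point of `L` is a commutator with `x` up to `P`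
  have hform : ∀ l ∈ L, ∃ l0 w, l = l0 * w ∧ w ∈ P ∧ l0 ∈ Q ∧ x * l0 * x⁻¹ = l0⁻¹ := by
    intro l hl
    set B := Q.map (QuotientGroup.mk' P) with hB
    have hbv : B ⊓ centralizer ({xb} : Set (Y ⧸ P)) = ((dltHom s.exp2_bar xb).range).map B.subtype := by
      refine (eq_of_le_of_card_ge ?_ ?_).symm
      · rintro _ ⟨_, ⟨⟨b, hb⟩, rfl⟩, rfl⟩
        show b * (xb * b * xb⁻¹) ∈ B ⊓ centralizer ({xb} : Set (Y ⧸ P))
        have hxb2 : xb * xb = 1 := by rw [hxb, ← map_mul, hxx, map_one]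
        have hb' : xb * b * xb⁻¹ ∈ B := Normal.conj_mem inferInstance b hb xb
        refine ⟨mul_mem hb hb', mem_centralizer_singleton_iff.2 ?_⟩
        have hx' : xb⁻¹ = xb := inv_eq_of_mul_eq_one_right hxb2
        have hbi : xb * b * xb⁻¹ * b = b * (xb * b * xb⁻¹) := s.exp2_bar.comm hb' hb
        calc b * (xb * b * xb⁻¹) * xb = xb * b * xb⁻¹ * b * xb := by rw [hbi]
          _ = xb * (b * (xb⁻¹ * b * xb)) := by group
          _ = xb * (b * (xb * b * xb⁻¹)) := by rw [hx']
      · have hr := card_range_dlt s.exp2_bar xb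
        change _ * Nat.card (B ⊓ centralizer ({xb} : Set (Y ⧸ P)) : Subgroup (Y ⧸ P)) = _ at hr
        rw [hQf', show Nat.card B = 16 from s.card_top_bar] at hr
        rw [hQf', card_map_of_injective B.subtype_injective]
        refine Nat.le_of_mul_le_mul_right (le_of_eq ?_) (show 0 < 4 by norm_num)
        exact hr.symm
    have hmem : QuotientGroup.mk' P l ∈ ((dltHom s.exp2_bar xb).range).map B.subtype :=
      hbv.le ⟨mem_map_of_mem _ hl.1, hl.2⟩
    obtain ⟨_, ⟨⟨_, a, ha, rfl⟩, rfl⟩, he⟩ := hmem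
    change QuotientGroup.mk' P a * (xb * QuotientGroup.mk' P a * xb⁻¹) = QuotientGroup.mk' P l at he
    set l0 := a⁻¹ * (x * a * x⁻¹) with hl0
    have hl0Q : l0 ∈ Q := mul_mem (inv_mem ha) (Normal.conj_mem inferInstance a ha x)
    refine ⟨l0, l0⁻¹ * l, by group, QuotientGroup.eq.1 ?_, hl0Q, ?_⟩
    · show QuotientGroup.mk' P l0 = QuotientGroup.mk' P l
      rw [← he, hl0, map_mul, map_inv, s.exp2_bar.inv_eq (mem_map_of_mem _ ha), map_mul, map_mul, map_inv]
    · calc x * l0 * x⁻¹ = x * a⁻¹ * x * a * (x * x)⁻¹ := by rw [hl0]; group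
        _ = x * a⁻¹ * x⁻¹ * a := by rw [hxx, inv_one, mul_one, hxi]
        _ = l0⁻¹ := by rw [hl0]; group
  have hRc : ∀ r ∈ R, ∀ l ∈ Q, r * l = l * r := fun r hr l hl => hPQ r hr.1 l hl
  have hsqR : ∀ l ∈ L, l * l ∈ R := by
    intro l hl
    obtain ⟨l0, w, rfl, hw, hl0, hx0⟩ := hform l hl
    have he : l0 * w * (l0 * w) = l0 * l0 := by
      rw [mul_assoc, ← mul_assoc w, hPQ w hw l0 hl0, mul_assoc, hP2 w hw, mul_one]
    rw [he]
    refine ⟨s.sq_mem hl0, mem_centralizer_singleton_iff.2 ?_⟩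
    have h2 : x * (l0 * l0) * x⁻¹ = l0 * l0 := by
      rw [show x * (l0 * l0) * x⁻¹ = (x * l0 * x⁻¹) * (x * l0 * x⁻¹) by group, hx0, ← mul_inv_rev,
        hP2.inv_eq (s.sq_mem hl0)]
    exact (conj_eq_iff.1 h2).symm
  have hxR : ∀ l ∈ L, l⁻¹ * (x * l * x⁻¹) ∈ R := by
    intro l hl
    obtain ⟨l0, w, rfl, hw, hl0, hx0⟩ := hform l hl
    have hxw : x * w * x⁻¹ ∈ P := Normal.conj_mem inferInstance w hw x
    have hl2 : (l0 * l0)⁻¹ = l0 * l0 := hP2.inv_eq (s.sq_mem hl0)
    have hsr : l0 * l0 ∈ R := by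
      have := hsqR l0 (by
        simpa using mul_mem hl (inv_mem (hPL hw)))
      exact this
    have hwr : w * (x * w * x⁻¹) ∈ R := by
      refine ⟨mul_mem hw hxw, mem_centralizer_singleton_iff.2 ?_⟩
      have h2 : x * (w * (x * w * x⁻¹)) * x⁻¹ = w * (x * w * x⁻¹) := by
        rw [show x * (w * (x * w * x⁻¹)) * x⁻¹ = (x * w * x⁻¹) * (x * x * w * (x * x)⁻¹) by group, hxx,
          one_mul, inv_one, mul_one, hP2.comm hxw hw]
      exact (conj_eq_iff.1 h2).symm
    have : (l0 * w)⁻¹ * (x * (l0 * w) * x⁻¹) = (l0 * l0)⁻¹ * (w * (x * w * x⁻¹)) := by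
      rw [mul_inv_rev, hP2.inv_eq hw,
        show x * (l0 * w) * x⁻¹ = (x * l0 * x⁻¹) * (x * w * x⁻¹) by group, hx0, mul_inv_rev,
        mul_assoc w, ← mul_assoc l0⁻¹ l0⁻¹, ← mul_assoc w,
        hPQ w hw _ (mul_mem (inv_mem hl0) (inv_mem hl0)), mul_assoc]
    rw [this]
    exact mul_mem (inv_mem hsr) hwr
  -- the section
  set H := L ⊔ zpowers x with hH
  have hRL : R ≤ L := inf_le_left.trans hPL
  have hHc : H ≤ centralizer (R : Set Y) := by
    refine sup_le (fun l hl => mem_centralizer_iff.2 fun r hr => hRc r hr l hl.1)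
      (zpowers_le.2 (mem_centralizer_iff.2 fun r hr => mem_centralizer_singleton_iff.1 hr.2))
  have hRH : R ≤ H := hRL.trans le_sup_left
  haveI hN : (R.subgroupOf H).Normal := ⟨fun n hn g => by
    have e : (g : Y) * n * (g : Y)⁻¹ = n := by
      rw [← mem_centralizer_iff.1 (hHc g.2) n hn, mul_inv_cancel_right]
    show (g : Y) * n * (g : Y)⁻¹ ∈ R
    rw [e]; exact hn⟩
  set π := QuotientGroup.mk' (R.subgroupOf H)
  set G : Set (H ⧸ R.subgroupOf H) :=
    {g | ∃ (y : Y) (hy : y ∈ H), (y ∈ L ∨ y = x) ∧ π ⟨y, hy⟩ = g} with hG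
  have hgsq : ∀ g ∈ G, g * g = 1 := by
    rintro _ ⟨y, hy, hyc, rfl⟩
    rw [← map_mul]
    refine (QuotientGroup.eq_one_iff _).2 ?_
    show y * y ∈ R
    rcases hyc with hl | rfl
    exacts [hsqR y hl, hxx ▸ one_mem R]
  have hgc : ∀ a ∈ G, ∀ b ∈ G, a * b = b * a := by
    have key : ∀ (l : Y) (hl : l ∈ H) (hlL : l ∈ L) (hx : x ∈ H),
        π ⟨x, hx⟩ * π ⟨l, hl⟩ = π ⟨l, hl⟩ * π ⟨x, hx⟩ := by
      intro l hl hlL hx
      rw [← map_mul, ← map_mul]
      refine (QuotientGroup.eq.2 ?_).symm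
      show (l * x)⁻¹ * (x * l) ∈ R
      have := hxR l hlL
      have hh : (l * x)⁻¹ * (x * l) = x * (l⁻¹ * (x * l * x⁻¹)) * x⁻¹ := by
        rw [mul_inv_rev, hxi]; simp only [mul_assoc]; rw [hxx, mul_one]
      rw [hh, ← mem_centralizer_singleton_iff.1 this.2, mul_inv_cancel_right]
      exact this
    rintro _ ⟨a, ha, hac, rfl⟩ _ ⟨b, hb, hbc, rfl⟩
    rcases hac with hal | rfl <;> rcases hbc with hbl | rfl
    · rw [← map_mul, ← map_mul]
      refine (QuotientGroup.eq.2 ?_).symm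
      show (b * a)⁻¹ * (a * b) ∈ R
      have h1 := hsqR _ (mul_mem hal hbl)
      have h2 := hsqR a hal
      have h3 := hsqR b hbl
      have e : (b * a)⁻¹ * (a * b) = (a⁻¹ * (b * b)⁻¹ * a) * (a * a)⁻¹ * ((a * b) * (a * b)) := by group
      rw [e, mul_assoc a⁻¹, hRc _ (inv_mem h3) a hal.1, inv_mul_cancel_left]
      exact mul_mem (mul_mem (inv_mem h3) (inv_mem h2)) h1
    · exact (key a ha hal hb).symm
    · exact key b hb hbl ha
    · rfl
  have htop : Subgroup.closure G = ⊤ := by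
    rw [eq_top_iff]
    rintro g -
    obtain ⟨⟨y, hy⟩, rfl⟩ := QuotientGroup.mk'_surjective _ g
    have hle : H ≤ ((Subgroup.closure G).comap π).map H.subtype := by
      refine sup_le (fun l hl => ?_) (zpowers_le.2 ?_)
      · exact ⟨⟨l, mem_sup_left hl⟩, Subgroup.subset_closure ⟨l, _, Or.inl hl, rfl⟩, rfl⟩
      · exact ⟨⟨x, mem_sup_right (mem_zpowers x)⟩, Subgroup.subset_closure ⟨x, _, Or.inr rfl, rfl⟩, rfl⟩
    obtain ⟨z, hz, hzy⟩ := hle hy
    rwa [show (⟨y, hy⟩ : H) = z from Subtype.ext hzy.symm]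
  have hcomm : IsMulCommutative (⊤ : Subgroup (H ⧸ R.subgroupOf H)) := by
    rw [← htop]; exact isMulCommutative_closure hgc
  have hexp : ∀ g ∈ (⊤ : Subgroup (H ⧸ R.subgroupOf H)), g ^ 2 = 1 := by
    intro g _
    refine Subgroup.closure_induction (p := fun g _ => g ^ 2 = 1) (fun a ha => by rw [pow_two]; exact hgsq a ha)
      (one_pow 2) (fun a b _ _ ha hb => ?_) (fun a _ ha => by rw [inv_pow, ha, inv_one]) (htop.ge (mem_top g))
    rw [Commute.mul_pow, ha, hb, one_mul]
    exact congrArg Subtype.val (hcomm.is_comm.comm ⟨a, mem_top _⟩ ⟨b, mem_top _⟩)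
  have hle := s.rank H (R.subgroupOf H) ⊤ hcomm hexp
  have hbig : 2 * Nat.card L ≤ Nat.card H :=
    two_mul_card_le (lt_of_le_not_ge le_sup_left fun h => hxQ (h (mem_sup_right (mem_zpowers x))).1)
  have hmul := (R.subgroupOf H).card_mul_index
  rw [Nat.card_congr (subgroupOfEquivOfLe hRH).toEquiv, hPf'] at hmul
  rw [card_top, ← index_eq_card] at hle
  omega

/-- `P` of order `2`: `Q` is extraspecial of order `32` with `12` square roots of one. -/
theorem five (hP : Nat.card P = 2) :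
    Cfsg.IsExtraspecial 2 Q ∧ Nat.card Q = 32 ∧ Nat.card {x : Q // x ^ 2 = 1} = 12 := by
  haveI : Fact (Nat.Prime 2) := ⟨Nat.prime_two⟩
  haveI : Fact (Nat.Prime 5) := ⟨by norm_num⟩
  have h32 : Nat.card Q = 32 := by rw [s.card, hP]
  obtain ⟨h, h5, hh⟩ := s.exists_five_three.1
  have hP2 : Exp2 P := fun p hp => by
    have h1 := pow_card_eq_one' (x := (⟨p, hp⟩ : P))
    rw [hP, pow_two] at h1
    exact congrArg Subtype.val h1
  have hPc : ∀ g : Y, ∀ p ∈ P, g * p = p * g := by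
    intro g p hp
    by_cases h1 : p = 1
    · rw [h1, mul_one, one_mul]
    have h2 := two_cases hP.le hp h1 (Normal.conj_mem inferInstance p hp g : g * p * g⁻¹ ∈ P)
    exact conj_eq_iff.1 (h2.resolve_left fun e => h1 (conj_eq_one_iff.1 e))
  have hfixP : ∀ B : Subgroup Y, P ≤ B → B ≤ Q → (B ⊓ centralizer ({h} : Set Y)) = P := by
    intro B h1 h2
    refine le_antisymm (fun q hq => s.fpf h5 hh (h2 hq.1) ?_) fun p hp => ⟨h1 hp, mem_centralizer_singleton_iff.2 (hPc h p hp).symm⟩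
    rw [← mem_centralizer_singleton_iff.1 hq.2, mul_inv_cancel_right, mul_inv_cancel]
    exact one_mem _
  have hna : ¬ ∀ a ∈ Q, ∀ b ∈ Q, a * b = b * a := by
    intro hab
    let f : Q →* P :=
      { toFun := fun q => ⟨(q : Y) * q, s.sq_mem q.2⟩
        map_one' := Subtype.ext (one_mul 1)
        map_mul' := fun a b => Subtype.ext (by
          show (a : Y) * b * (a * b) = a * a * (b * b)
          rw [mul_assoc, ← mul_assoc (b : Y), hab b b.2 a a.2]
          simp only [mul_assoc]) }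
    set K := f.ker.map Q.subtype with hK
    have hKQ : K ≤ Q := map_subtype_le _
    have hKmem : ∀ q, q ∈ K ↔ q ∈ Q ∧ q * q = 1 := fun q =>
      ⟨by rintro ⟨⟨a, ha⟩, hk, rfl⟩; exact ⟨ha, congrArg Subtype.val hk⟩,
        fun hq => ⟨⟨q, hq.1⟩, Subtype.ext hq.2, rfl⟩⟩
    have hK2 : Exp2 K := fun q hq => ((hKmem q).1 hq).2
    have hr := Invol.prank_of_sectional s.rank K hK2.isMulCommutative
      (fun a ha => by rw [pow_two]; exact hK2 a ha)
    have hcard : 16 ≤ Nat.card K := by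
      rw [hK, card_map_of_injective Q.subtype_injective]
      have h1 := f.ker.card_mul_index
      rw [index_ker, h32] at h1
      have h2 : Nat.card f.range ≤ 2 := hP ▸ card_le_card_group f.range
      nlinarith
    have hm := card_modEq h5 (B := K) fun b hb => by
      obtain ⟨hbQ, hb2⟩ := (hKmem b).1 hb
      exact (hKmem _).2 ⟨Normal.conj_mem inferInstance b hbQ h, by
        rw [show h * b * h⁻¹ * (h * b * h⁻¹) = h * (b * b) * h⁻¹ by group, hb2, mul_one, mul_inv_cancel]⟩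
    rw [hfixP K (fun q hq => (hKmem q).2 ⟨s.le hq, hP2 q hq⟩) hKQ, hP,
      le_antisymm (by simpa using hr) hcard, Nat.ModEq] at hm
    omega
  set Z := Q ⊓ centralizer (Q : Set Y) with hZ
  have hPZ : P ≤ Z := fun p hp => ⟨s.le hp, mem_centralizer_iff.2 fun q _ => hPc q p hp⟩
  haveI : Z.Normal := inferInstance
  have hZP : Z = P := by
    have hm := card_modEq h5 (B := Z) fun b hb => Normal.conj_mem inferInstance b hb h
    rw [hfixP Z hPZ inf_le_left, hP] at hm
    have hd := card_dvd_of_le (inf_le_left : Z ≤ Q)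
    rw [h32, show 32 = 2 ^ 5 from rfl] at hd
    obtain ⟨k, hk, hkZ⟩ := (Nat.dvd_prime_pow Nat.prime_two).1 hd
    rw [hkZ, Nat.ModEq] at hm
    have hk1 : k = 1 ∨ k = 5 := by interval_cases k <;> simp_all
    rcases hk1 with rfl | rfl
    · exact (eq_of_le_of_card_ge hPZ (by rw [hkZ, hP, pow_one])).symm
    · refine absurd ?_ hna
      have heq := eq_of_le_of_card_ge (inf_le_left : Z ≤ Q) (by rw [hkZ, h32]; rfl)
      exact fun a ha b hb => mem_centralizer_iff.1 (heq.ge hb).2 a ha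
  have hex : Cfsg.IsExtraspecial 2 Q := by
    refine Coprime.isExtraspecial_of_central s.two (P.subgroupOf Q) ?_ ?_ ?_ ?_ ?_
    · rw [Nat.card_congr (subgroupOfEquivOfLe s.le).toEquiv, hP]
    · ext q
      rw [mem_center_iff, mem_subgroupOf]
      refine ⟨fun hq => hZP.le ⟨q.2, mem_centralizer_iff.2 fun r hr => congrArg Subtype.val (hq ⟨r, hr⟩)⟩,
        fun hq g => Subtype.ext (hPc g q hq)⟩
    · intro a b
      rw [mem_subgroupOf, commutatorElement_def]
      exact s.comm_mem a.2 b.2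
    · intro a
      rw [mem_subgroupOf, Subgroup.coe_pow, pow_two]
      exact s.sq_mem a.2
    · intro e
      have := congrArg (fun H : Subgroup Q => Nat.card H) e
      simp only [Nat.card_congr (subgroupOfEquivOfLe s.le).toEquiv, hP, card_top, h32] at this
      omega
  refine ⟨hex, h32, (InvChar.HJ.extraspecial_five hex h32 (MulAut.conjNormal h) ?_ ?_).1⟩
  · rw [← map_pow, h5, map_one]
  · intro e
    obtain ⟨q, hq, hn⟩ := s.not_self hh
    have he : h * q * h⁻¹ = q :=
      congrArg Subtype.val (DFunLike.congr_fun e (⟨q, hq⟩ : Q))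
    rw [he, mul_inv_cancel] at hn
    exact hn (one_mem _)

/-- A second layer is impossible. -/
theorem false_layer {W : Subgroup Y} [W.Normal] (hW1 : W ≠ ⊥) (hWP : W ≤ P)
    (hmin : ∀ K : Subgroup Y, K.Normal → K ≤ W → K = ⊥ ∨ K = W)
    (h2W : Nat.card P = 2 * Nat.card W) : False := by
  classical
  haveI : Fact (Nat.Prime 2) := ⟨Nat.prime_two⟩
  haveI : Fact (Nat.Prime 3) := ⟨Nat.prime_three⟩
  haveI : Fact (Nat.Prime 5) := ⟨by norm_num⟩
  obtain ⟨hWQ, hW2, hW⟩ := s.minimal hW1 hWP hmin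
  obtain ⟨⟨h, h5, hh⟩, y, y3, hy⟩ := s.exists_five_three
  have hidx : (W.subgroupOf P).index = 2 := by
    have := (W.subgroupOf P).card_mul_index
    rw [Nat.card_congr (subgroupOfEquivOfLe hWP).toEquiv, h2W, mul_comm 2] at this
    exact Nat.eq_of_mul_eq_mul_left Nat.card_pos this
  have hsqW : ∀ a ∈ P, a * a ∈ W := fun a ha => by
    have := sq_mem_of_index_two hidx (⟨a, ha⟩ : P)
    rwa [pow_two] at this
  have hcoset : ∀ a ∈ P, a ∉ W → ∀ b ∈ P, b ∉ W → a⁻¹ * b ∈ W := by
    intro a ha haW b hb hbW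
    have := (mul_mem_iff_of_index_two hidx (a := (⟨a, ha⟩ : P)⁻¹) (b := ⟨b, hb⟩)).2
      (by simp only [inv_mem_iff, mem_subgroupOf]; exact ⟨fun e => absurd e haW, fun e => absurd e hbW⟩)
    exact this
  have habel : ∀ a ∈ P, ∀ b ∈ P, a * b = b * a := by
    intro a ha b hb
    by_cases haW : a ∈ W
    · exact hWQ a haW b (s.le hb)
    by_cases hbW : b ∈ W
    · exact (hWQ b hbW a (s.le ha)).symm
    have hw := hcoset a ha haW b hb hbW
    have := hWQ _ hw a (s.le ha)
    calc a * b = a * (a * (a⁻¹ * b)) := by group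
      _ = a * (a⁻¹ * b * a) := by rw [this]
      _ = b * a := by group
  have hout : ∀ a ∈ P, a ∉ W → ∃ w ∈ W, h * a * h⁻¹ = a * w ∧ h * (a * a) * h⁻¹ = a * a := by
    intro a ha haW
    have hb : h * a * h⁻¹ ∈ P := Normal.conj_mem inferInstance a ha h
    have hbW : h * a * h⁻¹ ∉ W := fun e => haW (by
      have := Normal.conj_mem inferInstance _ e h⁻¹
      simpa [mul_assoc] using this)
    set w := a⁻¹ * (h * a * h⁻¹)
    have hw : w ∈ W := hcoset a ha haW _ hb hbW
    have he : h * a * h⁻¹ = a * w := by simp only [w]; group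
    refine ⟨w, hw, he, ?_⟩
    rw [show h * (a * a) * h⁻¹ = (h * a * h⁻¹) * (h * a * h⁻¹) by group, he, mul_assoc,
      ← mul_assoc w, hWQ w hw a (s.le ha), mul_assoc, hW2 w hw, mul_one]
  rcases hW with ⟨hc2, hWZ⟩ | ⟨hc16, hWf⟩
  swap
  · have hexp : Exp2 P := by
      intro a ha
      by_cases haW : a ∈ W
      · exact hW2 a haW
      obtain ⟨w, -, -, he⟩ := hout a ha haW
      exact hWf h h5 hh _ (hsqW a ha) (conj_eq_iff.1 he)
    have := Invol.prank_of_sectional s.rank P hexp.isMulCommutative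
      (fun a ha => by rw [pow_two]; exact hexp a ha)
    rw [h2W, hc16] at this
    norm_num at this
  have hP4 : Nat.card P = 4 := by rw [h2W, hc2]
  have h64 : Nat.card Q = 64 := by rw [s.card, hP4]
  -- `h` centralizes `P`
  have hhP : P ≤ centralizer ({h} : Set Y) := by
    have hm := card_modEq h5 (B := P) fun b hb => Normal.conj_mem inferInstance b hb h
    set F := P ⊓ centralizer ({h} : Set Y) with hF
    have hWF : W ≤ F := fun w hw => ⟨hWP hw, mem_centralizer_singleton_iff.2 (mem_center_iff.1 (hWZ hw) h).symm⟩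
    have h1 := card_le_of_le hWF
    have h2 := card_dvd_of_le (inf_le_left : F ≤ P)
    rw [hP4] at hm h2
    rw [hc2] at h1
    have h3 := Nat.le_of_dvd (by norm_num) h2
    generalize hn : Nat.card F = n at *
    have : n = 4 := by interval_cases n <;> simp_all [Nat.ModEq]
    exact (eq_of_le_of_card_ge (inf_le_left : F ≤ P) (by rw [hP4, hn, this])).ge.trans inf_le_right
  have hfixQ : ∀ B : Subgroup Y, P ≤ B → B ≤ Q → (B ⊓ centralizer ({h} : Set Y)) = P := by
    intro B h1 h2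
    refine le_antisymm (fun q hq => s.fpf h5 hh (h2 hq.1) ?_) fun p hp => ⟨h1 hp, hhP hp⟩
    rw [← mem_centralizer_singleton_iff.1 hq.2, mul_inv_cancel_right, mul_inv_cancel]
    exact one_mem _
  -- `Q` centralizes `P`
  have hQP : ∀ a ∈ P, ∀ q ∈ Q, q * a = a * q := by
    intro a ha
    set C := Q ⊓ centralizer ({a} : Set Y) with hC
    have hPC : P ≤ C := fun p hp => ⟨s.le hp, mem_centralizer_singleton_iff.2 (habel p hp a ha)⟩
    have hcw : ∀ q ∈ Q, q * a * q⁻¹ * a⁻¹ ∈ W := by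
      intro q _
      by_cases haW : a ∈ W
      · exact mul_mem (Normal.conj_mem inferInstance a haW q) (inv_mem haW)
      have hbW : q * a * q⁻¹ ∉ W := fun e => haW (by
        have := Normal.conj_mem inferInstance _ e q⁻¹
        simpa [mul_assoc] using this)
      have := hcoset a ha haW _ (Normal.conj_mem inferInstance a ha q) hbW
      have := Normal.conj_mem inferInstance _ this a
      rwa [show a * (a⁻¹ * (q * a * q⁻¹)) * a⁻¹ = q * a * q⁻¹ * a⁻¹ by group] at this
    let f : Q →* W :=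
      { toFun := fun q => ⟨(q : Y) * a * (q : Y)⁻¹ * a⁻¹, hcw q q.2⟩
        map_one' := Subtype.ext (by simp)
        map_mul' := fun q r => Subtype.ext (by
          show (q : Y) * r * a * ((q : Y) * r)⁻¹ * a⁻¹ =
            (q : Y) * a * (q : Y)⁻¹ * a⁻¹ * ((r : Y) * a * (r : Y)⁻¹ * a⁻¹)
          have hz := mem_center_iff.1 (hWZ (hcw r r.2))
          calc (q : Y) * r * a * ((q : Y) * r)⁻¹ * a⁻¹
              = (q : Y) * ((r : Y) * a * (r : Y)⁻¹ * a⁻¹) * (a * (q : Y)⁻¹ * a⁻¹) := by group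
            _ = (q : Y) * ((a * (q : Y)⁻¹ * a⁻¹) * ((r : Y) * a * (r : Y)⁻¹ * a⁻¹)) := by
                rw [mul_assoc, hz]
            _ = _ := by group) }
    have hk : f.ker.map Q.subtype = C := by
      ext q
      constructor
      · rintro ⟨⟨r, hr⟩, hk, rfl⟩
        refine ⟨hr, mem_centralizer_singleton_iff.2 ?_⟩
        have e : r * a * r⁻¹ * a⁻¹ = 1 := congrArg Subtype.val hk
        exact mul_inv_eq_iff_eq_mul.1 (mul_inv_eq_one.1 e)
      · intro hq
        refine ⟨⟨q, hq.1⟩, Subtype.ext ?_, rfl⟩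
        show q * a * q⁻¹ * a⁻¹ = 1
        rw [mem_centralizer_singleton_iff.1 hq.2, mul_inv_cancel_right, mul_inv_cancel]
    have h1 := f.ker.card_mul_index
    rw [index_ker, h64, ← card_map_of_injective Q.subtype_injective, hk] at h1
    have h2 : Nat.card f.range ≤ 2 := hc2 ▸ card_le_card_group f.range
    have hm := card_modEq h5 (B := C) fun b hb => by
      refine ⟨Normal.conj_mem inferInstance b hb.1 h, mem_centralizer_singleton_iff.2 ?_⟩
      have e1 := mem_centralizer_singleton_iff.1 hb.2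
      have e2 := mem_centralizer_singleton_iff.1 (hhP ha)
      calc h * b * h⁻¹ * a = h * b * (h⁻¹ * a * h) * h⁻¹ := by group
        _ = h * b * a * h⁻¹ := by rw [mul_assoc h⁻¹, e2, inv_mul_cancel_left]
        _ = h * a * b * h⁻¹ := by rw [mul_assoc h, e1, ← mul_assoc]
        _ = a * (h * b * h⁻¹) := by rw [← e2]; group
    rw [hfixQ C hPC inf_le_left, hP4, Nat.ModEq] at hm
    have hC64 : Nat.card C = 64 := by
      generalize Nat.card f.range = r at h1 h2
      interval_cases r <;> omega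
    exact fun q hq => mem_centralizer_singleton_iff.1
      ((eq_of_le_of_card_ge (inf_le_left : C ≤ Q) (by rw [hC64, h64])).ge hq).2
  have hPZ : P ≤ center Y := by
    have hK : centralizer (P : Set Y) = ⊤ := s.eq_top
      (fun q hq => mem_centralizer_iff.2 fun a ha => (hQP a ha q hq).symm)
      (mem_centralizer_iff.2 fun a ha => mem_centralizer_singleton_iff.1 (hhP ha)) hh
    exact fun a ha => mem_center_iff.2 fun g => (mem_centralizer_iff.1 (hK.ge (mem_top g)) a ha).symm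
  have hnorm := fun K : Subgroup Y => fun hK : K ≤ center Y =>
    (show K.Normal from ⟨fun n hn g => by rw [mem_center_iff.1 (hK hn) g, mul_inv_cancel_right]; exact hn⟩)
  -- `P` is elementary
  have hP2 : Exp2 P := by
    by_contra hno
    simp only [Exp2, not_forall] at hno
    obtain ⟨z, hz, hzz⟩ := hno
    have hzW : z ∉ W := fun e => hzz (hW2 z e)
    have hout1 : ∀ a ∈ P, a * a = 1 → a ∈ W := by
      intro a ha h2
      by_contra haW
      set w := z⁻¹ * a
      have hw : w ∈ W := hcoset z hz hzW a ha haW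
      refine hzz ?_
      rw [show a = z * w by simp only [w]; group, mul_assoc, ← mul_assoc w, hWQ w hw z (s.le hz),
        mul_assoc, hW2 w hw, mul_one] at h2
      exact h2
    have hcm : ∀ a ∈ Q, ∀ b ∈ Q, a * b * a⁻¹ * b⁻¹ ∈ W := by
      intro a ha b hb
      refine hout1 _ (s.comm_mem ha hb) ?_
      set c := a * b * a⁻¹ * b⁻¹
      have hcc : ∀ g : Y, g * c = c * g := mem_center_iff.1 (hPZ (s.comm_mem ha hb))
      have haa : ∀ g : Y, g * (a * a) = a * a * g := mem_center_iff.1 (hPZ (s.sq_mem ha))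
      calc c * c = a * ((b * a⁻¹ * b⁻¹) * c) := by simp only [c]; group
        _ = a * (c * (b * a⁻¹ * b⁻¹)) := by rw [hcc]
        _ = (a * a) * b * (a * a)⁻¹ * b⁻¹ := by simp only [c]; group
        _ = 1 := by rw [← haa b]; group
    haveI : (Q.map (QuotientGroup.mk' W)).Normal := Normal.map inferInstance _ (QuotientGroup.mk'_surjective W)
    haveI : (P.map (QuotientGroup.mk' W)).Normal := Normal.map inferInstance _ (QuotientGroup.mk'_surjective W)
    have s' := s.quot hWP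
    obtain ⟨hex, h32, -⟩ := s'.five (by
      have := card_map_mk hWP
      rw [hP4, hc2] at this
      omega)
    have hab : center (Q.map (QuotientGroup.mk' W)) = ⊤ := by
      refine eq_top_iff.2 fun a _ => mem_center_iff.2 fun b => Subtype.ext ?_
      obtain ⟨⟨_, a, ha, rfl⟩, rfl⟩ : ∃ a', a' = a := ⟨a, rfl⟩
      obtain ⟨⟨_, b, hb, rfl⟩, rfl⟩ : ∃ b', b' = b := ⟨b, rfl⟩
      refine commutatorElement_eq_one_iff_mul_comm.1 ?_
      rw [commutatorElement_def]
      exact (QuotientGroup.eq_one_iff _).2 (hcm b hb a ha)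
    have := hex.2
    rw [hab, card_top, h32] at this
    omega
  -- squaring fibres
  haveI : Fintype Y := Fintype.ofFinite Y
  let S : Y → Finset Y := fun k => Finset.univ.filter fun q => q ∈ Q ∧ q * q = k
  have hS : ∀ k ∈ P, k ≠ 1 → (S 1).card + (S k).card = 24 := by
    intro k hk hk1
    haveI := hnorm (zpowers k) (zpowers_le.2 (hPZ hk))
    haveI : (Q.map (QuotientGroup.mk' (zpowers k))).Normal :=
      Normal.map inferInstance _ (QuotientGroup.mk'_surjective _)
    haveI : (P.map (QuotientGroup.mk' (zpowers k))).Normal :=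
      Normal.map inferInstance _ (QuotientGroup.mk'_surjective _)
    have hk2 : Nat.card (zpowers k) = 2 := by
      rw [Nat.card_zpowers, orderOf_eq_prime_iff]; exact ⟨by rw [pow_two]; exact hP2 k hk, hk1⟩
    have s' := s.quot (zpowers_le.2 hk)
    obtain ⟨-, -, h12⟩ := s'.five (by
      have := card_map_mk (zpowers_le.2 hk : zpowers k ≤ P)
      rw [hP4, hk2] at this
      omega)
    set K := zpowers k
    let A := {q : Y // q ∈ Q ∧ q * q ∈ K}
    let B := {x : Q.map (QuotientGroup.mk' K) // x ^ 2 = 1}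
    have hcard : Nat.card A = Nat.card B * Nat.card K := by
      rw [← Nat.card_prod]
      let g : A → B := fun q => ⟨⟨QuotientGroup.mk' K q.1, mem_map_of_mem _ q.2.1⟩, Subtype.ext (by
        rw [Subgroup.coe_pow, Subgroup.coe_one, pow_two, ← map_mul]
        exact (QuotientGroup.eq_one_iff _).2 q.2.2)⟩
      have hg : Function.Surjective g := by
        rintro ⟨⟨_, q, hq, rfl⟩, hx⟩
        refine ⟨⟨q, hq, (QuotientGroup.eq_one_iff _).1 ?_⟩, rfl⟩
        have := congrArg Subtype.val hx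
        rwa [Subgroup.coe_pow, Subgroup.coe_one, pow_two, ← map_mul] at this
      choose r hr using hg
      have hrq : ∀ q : A, (r (g q)).1⁻¹ * q.1 ∈ K := fun q =>
        QuotientGroup.eq.1 (congrArg (fun t : B => (t.1 : Y ⧸ K)) (hr (g q)))
      have hadd : ∀ (q : A) (u : Y), u ∈ K → q.1 * u ∈ Q ∧ q.1 * u * (q.1 * u) ∈ K := by
        intro q u hu
        have hz := mem_center_iff.1 (zpowers_le.2 (hPZ hk) hu)
        refine ⟨mul_mem q.2.1 (s.le ((zpowers_le.2 hk) hu)), ?_⟩
        rw [mul_assoc, ← mul_assoc u, ← hz q.1, mul_assoc, ← mul_assoc]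
        exact mul_mem q.2.2 (mul_mem hu hu)
      refine Nat.card_congr ⟨fun q => (g q, ⟨_, hrq q⟩), fun p => ⟨(r p.1).1 * p.2.1, hadd _ _ p.2.2⟩,
        fun q => Subtype.ext (mul_inv_cancel_left _ _), fun p => ?_⟩
      have e1 : g ⟨(r p.1).1 * p.2.1, hadd _ _ p.2.2⟩ = p.1 := by
        refine Eq.trans ?_ (hr p.1)
        refine Subtype.ext (Subtype.ext ?_)
        show QuotientGroup.mk' K ((r p.1).1 * p.2.1) = QuotientGroup.mk' K (r p.1).1
        rw [map_mul, show QuotientGroup.mk' K p.2.1 = 1 from (QuotientGroup.eq_one_iff _).2 p.2.2, mul_one]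
      refine Prod.ext e1 (Subtype.ext ?_)
      show (r (g _)).1⁻¹ * ((r p.1).1 * p.2.1) = p.2.1
      rw [e1, inv_mul_cancel_left]
    have hdis : Disjoint (S 1) (S k) := Finset.disjoint_left.2 fun q h1 h2 => hk1 (by
      simp only [S, Finset.mem_filter, Finset.mem_univ, true_and] at h1 h2
      exact h2.2.symm.trans h1.2)
    rw [show Nat.card B = 12 from h12, hk2, Nat.card_eq_fintype_card] at hcard
    rw [← Finset.card_union_of_disjoint hdis, show (24 : ℕ) = 12 * 2 from rfl, ← hcard, Fintype.card_subtype]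
    congr 1
    ext q
    simp only [S, Finset.mem_filter, Finset.mem_univ, true_and, Finset.mem_union]
    refine ⟨?_, fun hq => ?_⟩
    · rintro (⟨h1, h2⟩ | ⟨h1, h2⟩) <;> exact ⟨h1, h2 ▸ by first | exact one_mem _ | exact mem_zpowers _⟩
    · rcases two_cases hk2.le (mem_zpowers k) hk1 hq.2 with e | e
      exacts [Or.inl ⟨hq.1, e⟩, Or.inr ⟨hq.1, e⟩]
  let PF : Finset Y := Finset.univ.filter fun q => q ∈ P
  have hPF : PF.card = 4 := by
    rw [← hP4, Nat.card_eq_fintype_card, Fintype.card_subtype]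
  have hsum : ∑ k ∈ PF, (S k).card = 64 := by
    rw [← h64, Nat.card_eq_fintype_card, Fintype.card_subtype]
    rw [Finset.card_eq_sum_card_fiberwise (f := fun q => q * q) (t := PF)]
    · refine Finset.sum_congr rfl fun k _ => ?_
      congr 1
      ext q
      simp [S]
    · intro q hq
      simp only [Finset.coe_filter, Finset.mem_univ, true_and, Set.mem_setOf_eq] at hq
      simp only [PF, Finset.coe_filter, Finset.mem_univ, true_and, Set.mem_setOf_eq]
      exact s.sq_mem hq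
  have h1PF : (1 : Y) ∈ PF := by simp [PF]
  rw [← Finset.add_sum_erase PF _ h1PF,
    Finset.sum_congr rfl (g := fun _ => 24 - (S 1).card) (fun k hk => by
      obtain ⟨hk1, hkP⟩ := Finset.mem_erase.1 hk
      simp only [PF, Finset.mem_filter, Finset.mem_univ, true_and] at hkP
      have := hS k hkP hk1
      show (S k).card = 24 - (S 1).card
      omega),
    Finset.sum_const, smul_eq_mul, Finset.card_erase_of_mem h1PF, hPF] at hsum
  have hS1 : (S 1).card = 4 := by
    obtain ⟨k, hk⟩ := Finset.card_pos.1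
      (show 0 < (PF.erase 1).card by rw [Finset.card_erase_of_mem h1PF, hPF]; norm_num)
    obtain ⟨hk1, hkP⟩ := Finset.mem_erase.1 hk
    simp only [PF, Finset.mem_filter, Finset.mem_univ, true_and] at hkP
    have hb := hS k hkP hk1
    generalize (S 1).card = a at hsum hb ⊢
    generalize (S k).card = b at hb
    omega
  -- the element of order `3`
  let T : Finset Y := Finset.univ.filter fun q => q ∈ Q ∧ y * q * y⁻¹ = q
  have hTk : ∀ k ∈ PF.erase 1, 5 ≤ (T.filter fun q => q * q = k).card := by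
    intro k hk
    obtain ⟨hk1, hkP⟩ := Finset.mem_erase.1 hk
    simp only [PF, Finset.mem_filter, Finset.mem_univ, true_and] at hkP
    have h20 := hS k hkP hk1
    have hky := mem_center_iff.1 (hPZ hkP) y
    have hm := card_set_modEq y3 (S := ((S k : Finset Y) : Set Y)) (by
      intro q hq
      simp only [S, Finset.coe_filter, Finset.mem_univ, true_and, Set.mem_setOf_eq] at hq ⊢
      refine ⟨Normal.conj_mem inferInstance q hq.1 y, ?_⟩
      rw [show y * q * y⁻¹ * (y * q * y⁻¹) = y * (q * q) * y⁻¹ by group, hq.2, hky, mul_inv_cancel_right])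
    rw [Nat.card_coe_set_eq, Set.ncard_coe_finset, show (S k).card = 20 by omega] at hm
    rw [Nat.card_eq_fintype_card, Fintype.card_subtype] at hm
    set U := Finset.univ.filter fun q => q ∈ ((S k : Finset Y) : Set Y) ∧ y * q * y⁻¹ = q with hU
    have hUT : U = T.filter fun q => q * q = k := by
      ext q
      simp only [U, T, S, Finset.coe_filter, Set.mem_setOf_eq, Finset.mem_filter, Finset.mem_univ, true_and]
      exact ⟨fun h => ⟨⟨h.1.1, h.2⟩, h.1.2⟩, fun h => ⟨⟨h.1.1, h.2⟩, h.1.2⟩⟩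
    rw [hUT] at hm
    set n := (T.filter fun q => q * q = k).card with hn
    rw [Nat.ModEq] at hm
    obtain ⟨q, hq⟩ := Finset.card_pos.1 (show 0 < n by omega)
    simp only [T, Finset.mem_filter, Finset.mem_univ, true_and] at hq
    have h4 : (PF.image fun u => q * u).card ≤ n := by
      refine Finset.card_le_card fun v hv => ?_
      obtain ⟨u, hu, rfl⟩ := Finset.mem_image.1 hv
      simp only [PF, Finset.mem_filter, Finset.mem_univ, true_and] at hu
      simp only [T, Finset.mem_filter, Finset.mem_univ, true_and]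
      have hu' := mem_center_iff.1 (hPZ hu)
      refine ⟨⟨mul_mem hq.1.1 (s.le hu), ?_⟩, ?_⟩
      · rw [show y * (q * u) * y⁻¹ = (y * q * y⁻¹) * (y * u * y⁻¹) by group, hq.1.2, hu' y, mul_inv_cancel_right]
      · rw [mul_assoc, ← mul_assoc u, ← hu' q, mul_assoc, hP2 u hu, mul_one, hq.2]
    rw [Finset.card_image_of_injective _ (mul_right_injective q), hPF] at h4
    omega
  have hT19 : 19 ≤ T.card := by
    have h1 : T.card = ∑ k ∈ PF, (T.filter fun q => q * q = k).card :=
      Finset.card_eq_sum_card_fiberwise fun q hq => by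
        simp only [T, PF, Finset.coe_filter, Finset.mem_univ, true_and, Set.mem_setOf_eq] at hq ⊢
        exact s.sq_mem hq.1
    rw [h1, ← Finset.add_sum_erase PF _ h1PF]
    have h2 := Finset.card_nsmul_le_sum (PF.erase 1) (fun k => (T.filter fun q => q * q = k).card) 5 hTk
    rw [smul_eq_mul, Finset.card_erase_of_mem h1PF, hPF] at h2
    have h3 : PF ⊆ T.filter fun q => q * q = 1 := fun u hu => by
      simp only [PF, Finset.mem_filter, Finset.mem_univ, true_and] at hu
      simp only [T, Finset.mem_filter, Finset.mem_univ, true_and]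
      exact ⟨⟨s.le hu, by rw [mem_center_iff.1 (hPZ hu) y, mul_inv_cancel_right]⟩, hP2 u hu⟩
    have h4 := Finset.card_le_card h3
    omega
  have hm := card_modEq y3 (B := Q) fun b hb => Normal.conj_mem inferInstance b hb y
  have hF : Nat.card (Q ⊓ centralizer ({y} : Set Y) : Subgroup Y) = T.card := by
    rw [Nat.card_eq_fintype_card, Fintype.card_subtype]
    congr 1
    ext q
    simp only [T, Finset.mem_filter, Finset.mem_univ, true_and, mem_inf, mem_centralizer_singleton_iff, conj_eq_iff]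
    exact and_congr_right fun _ => eq_comm
  have hd := card_dvd_of_le (inf_le_left : Q ⊓ centralizer ({y} : Set Y) ≤ Q)
  rw [h64, show 64 = 2 ^ 6 from rfl] at hd
  obtain ⟨k, hk, hkF⟩ := (Nat.dvd_prime_pow Nat.prime_two).1 hd
  rw [h64, hkF, Nat.ModEq] at hm
  rw [← hF, hkF] at hT19
  have hk6 : k = 6 := by interval_cases k <;> omega
  have heq := eq_of_le_of_card_ge (inf_le_left : Q ⊓ centralizer ({y} : Set Y) ≤ Q) (by rw [hkF, hk6, h64]; rfl)
  obtain ⟨q, hq, hn⟩ := s.not_self hy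
  refine hn ?_
  rw [← mem_centralizer_singleton_iff.1 (heq.ge hq).2, mul_inv_cancel_right, mul_inv_cancel]
  exact one_mem _

/-- The classification. -/
theorem classify : (P = ⊥ ∧ Exp2 Q ∧ Nat.card Q = 16) ∨ Nat.card P = 2 := by
  classical
  by_cases hP : P = ⊥
  · subst hP
    exact Or.inl ⟨rfl, fun q hq => mem_bot.1 (s.sq_mem hq), by rw [s.card, card_bot]⟩
  have hmax : ∀ M : Subgroup Y, M ≠ ⊥ → ∃ N : Subgroup Y, N.Normal ∧ N < M ∧
      ∀ K : Subgroup Y, K.Normal → N ≤ K → K ≤ M → K = N ∨ K = M := by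
    intro M hM
    obtain ⟨N, ⟨hNn, hNM⟩, hN⟩ := Set.exists_max_image {N : Subgroup Y | N.Normal ∧ N < M}
      (fun N => Nat.card N) (Set.toFinite _) ⟨⊥, inferInstance, bot_lt_iff_ne_bot.2 hM⟩
    refine ⟨N, hNn, hNM, fun K hK h1 h2 => ?_⟩
    by_cases hKM : K = M
    · exact Or.inr hKM
    · exact Or.inl (eq_of_le_of_card_ge h1 (hN K ⟨hK, lt_of_le_of_ne h2 hKM⟩)).symm
  have hsec : ∀ {R M : Subgroup Y} [R.Normal], R < M →
      (∀ K : Subgroup Y, K.Normal → R ≤ K → K ≤ M → K = R ∨ K = M) →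
      M.map (QuotientGroup.mk' R) ≠ ⊥ ∧
      ∀ K : Subgroup (Y ⧸ R), K.Normal → K ≤ M.map (QuotientGroup.mk' R) →
        K = ⊥ ∨ K = M.map (QuotientGroup.mk' R) := by
    intro R M _ hlt hmin
    refine ⟨fun e => hlt.not_ge fun m hm => (QuotientGroup.eq_one_iff m).1
      ((eq_bot_iff_forall _).1 e _ (mem_map_of_mem _ hm)), fun K hK hKM => ?_⟩
    have hsurj := QuotientGroup.mk'_surjective R
    rcases hmin (K.comap (QuotientGroup.mk' R)) (hK.comap _)
      (fun r hr => by
        show QuotientGroup.mk' R r ∈ K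
        rw [show QuotientGroup.mk' R r = 1 from (QuotientGroup.eq_one_iff r).2 hr]; exact one_mem _)
      (fun m hm => by
        obtain ⟨m', hm', e⟩ := hKM hm
        have h1 : m'⁻¹ * m ∈ R := QuotientGroup.eq.1 e
        simpa using mul_mem hm' (hlt.le h1)) with h | h
    · refine Or.inl ?_
      rw [← map_comap_eq_self_of_surjective hsurj K, h]
      exact QuotientGroup.map_mk'_self R
    · exact Or.inr (by rw [← h, map_comap_eq_self_of_surjective hsurj K])
  obtain ⟨N, hNn, hNP, hNmax⟩ := hmax P hP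
  haveI : (Q.map (QuotientGroup.mk' N)).Normal := Normal.map inferInstance _ (QuotientGroup.mk'_surjective N)
  haveI : (P.map (QuotientGroup.mk' N)).Normal := Normal.map inferInstance _ (QuotientGroup.mk'_surjective N)
  have s' := s.quot hNP.le
  obtain ⟨hb1, hbmin⟩ := hsec hNP hNmax
  obtain ⟨hcq, hexp, hcase⟩ := s'.minimal hb1 le_rfl hbmin
  rcases hcase with ⟨h2, -⟩ | ⟨h16, hf⟩
  swap
  · exact (s'.false_of_big h16 hcq hexp hf).elim
  have hPN : Nat.card P = 2 * Nat.card N := by rw [card_map_mk hNP.le, h2, mul_comm]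
  refine Or.inr ?_
  by_cases hN : N = ⊥
  · rw [hPN, hN, card_bot]
  exfalso
  obtain ⟨R, hRn, hRN, hRmax⟩ := hmax N hN
  haveI : (Q.map (QuotientGroup.mk' R)).Normal := Normal.map inferInstance _ (QuotientGroup.mk'_surjective R)
  haveI : (P.map (QuotientGroup.mk' R)).Normal := Normal.map inferInstance _ (QuotientGroup.mk'_surjective R)
  haveI : (N.map (QuotientGroup.mk' R)).Normal := Normal.map inferInstance _ (QuotientGroup.mk'_surjective R)
  obtain ⟨hw1, hwmin⟩ := hsec hRN hRmax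
  refine (s.quot (hRN.le.trans hNP.le)).false_layer hw1 (map_mono hNP.le) hwmin ?_
  refine Nat.eq_of_mul_eq_mul_left (Nat.card_pos (α := R)) ?_
  rw [← card_map_mk (hRN.le.trans hNP.le), mul_left_comm, ← card_map_mk hRN.le, hPN]

end Setting

omit [Finite Y] in
theorem sectional_subgroup {k : ℕ} (H : Subgroup Y) (h : Cfsg.SectionalPRankLE 2 k Y) :
    Cfsg.SectionalPRankLE 2 k H := by
  intro K N hN
  let e : K ≃* K.map H.subtype := K.equivMapOfInjective _ H.subtype_injective
  exact Invol.prankLE_of_mulEquiv (QuotientGroup.quotientKerEquivOfSurjective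
    ((QuotientGroup.mk' N).comp e.symm.toMonoidHom)
    ((QuotientGroup.mk'_surjective N).comp e.symm.surjective)) (h _ _)

/-- The subgroup generated by the squares. -/
def squares (Q : Subgroup Y) : Subgroup Y := Subgroup.closure ((fun q => q * q) '' (Q : Set Y))

omit [Finite Y] in
instance squares_normal (Q : Subgroup Y) [Q.Normal] : (squares Q).Normal := by
  refine ⟨fun n hn g => ?_⟩
  suffices h : squares Q ≤ (squares Q).comap (MulAut.conj g).toMonoidHom from h hn
  rw [squares, Subgroup.closure_le]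
  rintro _ ⟨q, hq, rfl⟩
  show g * (q * q) * g⁻¹ ∈ squares Q
  rw [show g * (q * q) * g⁻¹ = g * q * g⁻¹ * (g * q * g⁻¹) by group]
  exact Subgroup.subset_closure ⟨_, Normal.conj_mem inferInstance q hq g, rfl⟩

/-- Making a setting. -/
theorem mk_setting {Q : Subgroup Y} [Q.Normal] (hQ : IsPGroup 2 Q)
    (hself : ∀ y, (∀ q ∈ Q, y * q * y⁻¹ * q⁻¹ ∈ squares Q) → y ∈ Q)
    (hiso : Nonempty (Y ⧸ Q ≃* alternatingGroup (Fin 5))) (hrank : Cfsg.SectionalPRankLE 2 4 Y) :
    Setting Q (squares Q) := by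
  haveI : Fact (Nat.Prime 2) := ⟨Nat.prime_two⟩
  haveI : (Q.map (QuotientGroup.mk' (squares Q))).Normal :=
    Normal.map inferInstance _ (QuotientGroup.mk'_surjective _)
  set V := Q.map (QuotientGroup.mk' (squares Q)) with hV
  have hPQ : squares Q ≤ Q := by
    rw [squares, Subgroup.closure_le]
    rintro _ ⟨q, hq, rfl⟩
    exact mul_mem hq hq
  have hexp : Exp2 V := by
    rintro _ ⟨q, hq, rfl⟩
    rw [← map_mul]
    exact (QuotientGroup.eq_one_iff _).2 (Subgroup.subset_closure ⟨q, hq, rfl⟩)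
  refine ⟨rfl, hQ, ?_, hself, hiso, hrank⟩
  have hc : Nat.card Q = Nat.card (squares Q) * Nat.card V := card_map_mk hPQ
  have hle : Nat.card V ≤ 2 ^ 4 := Invol.prank_of_sectional (Invol.sectional_quotient _ hrank) V
    hexp.isMulCommutative (fun a ha => by rw [pow_two]; exact hexp a ha)
  obtain ⟨n, hn⟩ := (hQ.map (QuotientGroup.mk' (squares Q))).exists_card_eq
  have hn4 : n ≤ 4 := (Nat.pow_le_pow_iff_right (a := 2) (by norm_num)).1 (hn ▸ hle)
  suffices h16 : n = 4 by rw [hc, show Nat.card V = 2 ^ n from hn, h16, mul_comm]; rfl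
  by_contra hne
  obtain ⟨e⟩ := hiso
  obtain ⟨σ, hσ⟩ : ∃ σ : alternatingGroup (Fin 5), σ ^ 5 = 1 ∧ σ ≠ 1 := by
    refine ⟨⟨Equiv.swap 0 1 * Equiv.swap 1 2 * Equiv.swap 2 3 * Equiv.swap 3 4,
      Equiv.Perm.mem_alternatingGroup.2 (by decide)⟩, ?_⟩
    simp only [Subtype.ext_iff, ne_eq, SubgroupClass.coe_pow, OneMemClass.coe_one]
    decide
  obtain ⟨y, hy, hy5⟩ := exists_lift hQ (by norm_num : Nat.Prime 5) (by norm_num)
    (show (e.symm σ) ^ 5 = 1 by rw [← map_pow, hσ.1, map_one])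
  have h8 : Nat.card V ≤ 8 := by
    rw [show Nat.card V = 2 ^ n from hn]
    exact (Nat.pow_le_pow_right (by norm_num) (show n ≤ 3 by omega)).trans le_rfl
  have hc' := act_trivial_five hexp h8 (y := QuotientGroup.mk' (squares Q) y)
    (by rw [← map_pow, hy5, map_one]; exact one_mem _)
  have hyQ : y ∈ Q := hself y fun q hq => (QuotientGroup.eq_one_iff _).1 (by
    show QuotientGroup.mk' (squares Q) y * QuotientGroup.mk' (squares Q) q *
      (QuotientGroup.mk' (squares Q) y)⁻¹ * (QuotientGroup.mk' (squares Q) q)⁻¹ = 1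
    rw [← mem_centralizer_iff.1 hc' _ (mem_map_of_mem _ hq), mul_inv_cancel_right, mul_inv_cancel])
  exact hσ.2 (e.symm.injective (by rw [map_one, ← hy, (QuotientGroup.eq_one_iff y).2 hyQ]))

end CfsgLib.SRank.Five
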