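import Cfsg.Agent.Lib.SRank.Setting

/-!
MacWilliams' theorem: a `2`-group without normal elementary abelian subgroup of order `8` has all
subgroups four-generated.
-/

set_option autoImplicit false
set_option linter.style.haveILetI false

namespace CfsgLib.SRank

open Subgroup
open CfsgLib.TwoLinear (Gen)

namespace Plane

/-- Membership in the span of three vectors. -/
def InSpan3 (a b c X : M2) : Prop := ∃ i j k : ZMod 2, X = i • a + j • b + k • c

instance (a b c X : M2) : Decidable (InSpan3 a b c X) :=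
  inferInstanceAs (Decidable (∃ _ : ZMod 2, _))

set_option synthInstance.maxSize 4096 in
set_option maxRecDepth 20000 in
theorem hyperplane_three : ∀ m : M2, m ≠ 0 → ∃ a b c : M2, dot m a = 0 ∧ dot m b = 0 ∧
    dot m c = 0 ∧ ∀ X : M2, dot m X = 0 → InSpan3 a b c X := by decide

set_option synthInstance.maxSize 4096 in
set_option maxRecDepth 20000 in
theorem hyperplane_unique : ∀ m m' : M2, m ≠ 0 → m' ≠ 0 →
    (∀ X : M2, dot m X = 0 → dot m' X = 0) → m = m' := by decide

theorem span_four : ∀ u t : V2, u ≠ 0 → u ≠ (1, 0) → t = 0 ∨ t = (1, 0) ∨ t = u ∨ t = (1, 0) + u := by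
  decide

theorem inj_ne_zero {X : M2} (h : Inj X) : X ≠ 0 := fun e =>
  absurd (h (1, 0) (by rw [e, ap_zero_left])) (by decide)

theorem nil_ne_zero : nil ≠ 0 := by decide

end Plane

variable {P : Type*} [Group P] [Finite P] {W : Subgroup P} {s : Setting W}

namespace Setting

/-- The case of small `W`. -/
theorem gen_four_small (s : Setting W) (h8 : Nat.card W ≤ 8) (H : Subgroup P) : Gen H 4 := by
  classical
  haveI := s.cent_normal
  haveI : Fact (Nat.Prime 2) := ⟨Nat.prime_two⟩
  set C := centralizer (W : Set P) with hC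
  have hT : IsPGroup 2 (P ⧸ C) := s.hP.to_quotient C
  have hWn := s.normal
  -- generators of `W` with few possible images
  have hbound : Nat.card (P ⧸ C) ≤ 4 ∨ (Nat.card (P ⧸ C) = 8 ∧ ∃ q : P ⧸ C, q * q ≠ 1) ∧ True := by
    by_cases h4 : Nat.card W ≤ 4
    · left
      let X := {w : W // w ≠ 1}
      let φ : P →* Equiv.Perm X := MonoidHom.mk'
        (fun g => Equiv.ofBijective (fun w => (⟨⟨g * (w.1 : P) * g⁻¹, hWn.conj_mem _ w.1.2 g⟩,
          fun e => w.2 (Subtype.ext (conj_eq_one_iff.1 (congrArg Subtype.val e)))⟩ : X))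
          (Finite.injective_iff_bijective.1 fun a b e => Subtype.ext (Subtype.ext
            (mul_left_cancel (mul_right_cancel (congrArg (fun t : X => ((t.1 : W) : P)) e))))))
        (fun g h => Equiv.ext fun w => Subtype.ext (Subtype.ext (by
          show g * h * (w.1 : P) * (g * h)⁻¹ = g * (h * (w.1 : P) * h⁻¹) * g⁻¹
          group)))
      have hker : φ.ker = C := by
        ext g
        constructor
        · intro hg
          refine mem_centralizer_iff.2 fun w hw => ?_
          by_cases hw1 : w = 1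
          · subst hw1; group
          · have := congrArg (fun t : X => ((t.1 : W) : P))
              (congrArg (fun σ : Equiv.Perm X => σ ⟨⟨w, hw⟩, fun e => hw1 (congrArg Subtype.val e)⟩)
                (MonoidHom.mem_ker.1 hg))
            exact (mul_inv_eq_iff_eq_mul.1 this).symm
        · intro hg
          refine MonoidHom.mem_ker.2 (Equiv.ext fun w => Subtype.ext (Subtype.ext ?_))
          show g * (w.1 : P) * g⁻¹ = (w.1 : P)
          rw [← mem_centralizer_iff.1 hg _ w.1.2, mul_inv_cancel_right]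
      have hdvd : Nat.card (P ⧸ C) ∣ (Nat.card X).factorial := by
        rw [← Nat.card_perm, ← hker, ← index_eq_card, index_ker]
        exact card_subgroup_dvd_card _
      have hX : Nat.card X ≤ 3 := by
        haveI := Fintype.ofFinite W
        have : Nat.card X = Nat.card W - 1 := by
          rw [Nat.card_eq_fintype_card, Nat.card_eq_fintype_card, Fintype.card_subtype_compl,
            Fintype.card_subtype_eq]
        omega
      obtain ⟨k, hk⟩ := hT.exists_card_eq
      have h6 : Nat.card (P ⧸ C) ∣ 6 :=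
        hdvd.trans ((Nat.factorial_dvd_factorial hX).trans (by norm_num [Nat.factorial]))
      have := Nat.le_of_dvd (by norm_num) h6
      rw [hk] at this ⊢
      have hk3 : k < 3 := (Nat.pow_lt_pow_iff_right one_lt_two).1 (this.trans_lt (by norm_num))
      interval_cases k <;> norm_num
    · -- `W` has order `8`, and its squares form a subgroup of order `2`
      let f : W →* W := MonoidHom.mk' (fun w => w * w) (fun a b => by
        have : Commute b a := Subtype.ext (s.comm b b.2 a a.2)
        exact this.mul_mul_mul_comm a b)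
      have hker4 : Nat.card f.ker ≤ 4 := by
        refine le_trans ?_ s.card_V_le
        exact Nat.card_le_card_of_injective (fun x => (⟨((x : W) : P), (x : W).2,
          congrArg Subtype.val (MonoidHom.mem_ker.1 x.2)⟩ : s.V)) fun a b h =>
            Subtype.ext (Subtype.ext (congrArg (fun t : s.V => (t : P)) h))
      have hrk : Nat.card f.range * Nat.card f.ker = Nat.card W := by
        rw [← index_ker, mul_comm]; exact f.ker.card_mul_index
      have hrange2 : Nat.card f.range ≤ Nat.card f.ker := by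
        refine card_le_of_le ?_
        rintro _ ⟨w, rfl⟩
        refine MonoidHom.mem_ker.2 (Subtype.ext ?_)
        show (w : P) * w * (w * w) = 1
        rw [show (w : P) * w * (w * w) = (w : P) ^ 4 by rw [pow_succ, pow_succ, pow_two]; group]
        exact s.exp w w.2
      obtain ⟨w, hw⟩ : ∃ w : W, f w ≠ 1 := by
        by_contra! hall
        have : f.ker = ⊤ := eq_top_iff.2 fun x _ => hall x
        rw [this, card_top] at hker4
        omega
      have hv2 : f w * f w = 1 := Subtype.ext (by
        show (w : P) * w * (w * w) = 1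
        rw [show (w : P) * w * (w * w) = (w : P) ^ 4 by rw [pow_succ, pow_succ, pow_two]; group]
        exact s.exp w w.2)
      have hrange : Nat.card f.range = 2 := by
        have hd : Nat.card f.range ∣ Nat.card f.ker := by
          obtain ⟨a, ha⟩ := ((s.hP.to_subgroup W).to_subgroup f.range).exists_card_eq
          obtain ⟨b, hb⟩ := ((s.hP.to_subgroup W).to_subgroup f.ker).exists_card_eq
          rw [ha, hb] at hrange2 ⊢
          exact pow_dvd_pow 2 ((Nat.pow_le_pow_iff_right one_lt_two).1 hrange2)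
        have h1 : 1 < Nat.card f.range := Finite.one_lt_card_iff_nontrivial.2
          ⟨⟨⟨f w, w, rfl⟩, 1, fun e => hw (congrArg Subtype.val e)⟩⟩
        obtain ⟨a, ha⟩ := ((s.hP.to_subgroup W).to_subgroup f.range).exists_card_eq
        by_contra hne
        have h4' : 4 ≤ Nat.card f.range := by
          rcases a with _ | _ | a
          · omega
          · omega
          · rw [ha]; exact le_trans (by norm_num) (Nat.pow_le_pow_right two_pos (by omega : 2 ≤ a + 2))
        nlinarith
      have hk4 : Nat.card f.ker = 4 := by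
        rw [hrange] at hrk
        obtain ⟨b, hb⟩ := ((s.hP.to_subgroup W).to_subgroup f.ker).exists_card_eq
        have hW4 : 4 < Nat.card W := not_le.1 h4
        rw [hb] at hrk hker4 ⊢
        have hb2 : b ≤ 2 := (Nat.pow_le_pow_iff_right one_lt_two).1 (hker4.trans (by norm_num))
        interval_cases b <;> norm_num at hrk ⊢ <;> omega
      have hW8 : Nat.card W = 8 := by rw [← hrk, hrange, hk4]
      have hwk : w ∉ f.ker := hw
      have hsq : ∀ x : W, x ∉ f.ker → f x = f w := by
        intro x hx
        haveI := Fintype.ofFinite f.range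
        obtain ⟨a, b, hab, hall⟩ := Nat.card_eq_two_iff.1 hrange
        have h' : ∀ y : f.range, y = a ∨ y = b := fun y => by
          have : y ∈ ({a, b} : Set f.range) := hall ▸ Set.mem_univ y
          simpa using this
        by_contra hne
        rcases h' ⟨f x, x, rfl⟩ with e1 | e1 <;> rcases h' ⟨f w, w, rfl⟩ with e2 | e2 <;>
          rcases h' 1 with e3 | e3
        all_goals first
          | exact hne (congrArg Subtype.val (e1.trans e2.symm))
          | exact hx (congrArg Subtype.val (e1.trans e3.symm))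
          | exact hw (congrArg Subtype.val (e2.trans e3.symm))
      obtain ⟨u, hu, hu1⟩ : ∃ u : W, u ∈ f.ker ∧ u ∉ ({1, f w} : Finset W) := by
        by_contra! hall
        haveI := Fintype.ofFinite f.ker
        have : Nat.card f.ker ≤ 2 := by
          refine le_trans ?_ (Finset.card_le_two (a := (1 : W)) (b := f w))
          rw [Nat.card_eq_fintype_card, ← Finset.card_univ]
          exact Finset.card_le_card_of_injOn Subtype.val (fun x _ => hall x x.2)
            Subtype.val_injective.injOn
        omega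
      simp only [Finset.mem_insert, Finset.mem_singleton, not_or] at hu1
      have hfwk : f w ∈ f.ker := hv2
      -- the possible images
      have hKer : ∀ x : W, x ∈ f.ker → x = 1 ∨ x = f w ∨ x = u ∨ x = f w * u := by
        intro x hx
        by_contra! hne
        haveI := Fintype.ofFinite f.ker
        have h5 : ({1, f w, u, f w * u, x} : Finset W).card = 5 := by
          rw [Finset.card_insert_of_notMem, Finset.card_insert_of_notMem,
            Finset.card_insert_of_notMem, Finset.card_insert_of_notMem, Finset.card_singleton]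
          · simp [Ne.symm hne.2.2.2]
          · simp only [Finset.mem_insert, Finset.mem_singleton, not_or]
            exact ⟨fun e => hw (right_eq_mul.1 (e.trans (by rfl))), Ne.symm hne.2.2.1⟩
          · simp only [Finset.mem_insert, Finset.mem_singleton, not_or]
            exact ⟨Ne.symm hu1.2, fun e => hu1.1 (left_eq_mul.1 e), Ne.symm hne.2.1⟩
          · simp only [Finset.mem_insert, Finset.mem_singleton, not_or]
            exact ⟨Ne.symm hw, Ne.symm hu1.1, fun e => hu1.2 (by
              rw [eq_inv_of_mul_eq_one_right e.symm, inv_eq_of_mul_eq_one_right hv2]),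
              Ne.symm hne.1⟩
        have : ({1, f w, u, f w * u, x} : Finset W).card ≤ Nat.card f.ker := by
          rw [Nat.card_eq_fintype_card, ← Finset.card_univ,
            ← Finset.card_map (Function.Embedding.subtype (fun t => t ∈ f.ker))]
          refine Finset.card_le_card fun t ht => ?_
          simp only [Finset.mem_map, Finset.mem_univ, true_and]
          refine ⟨⟨t, ?_⟩, rfl⟩
          simp only [Finset.mem_insert, Finset.mem_singleton] at ht
          rcases ht with rfl | rfl | rfl | rfl | rfl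
          exacts [one_mem _, hfwk, hu, mul_mem hfwk hu, hx]
        omega
      let cj : P → W → W := fun g x => ⟨g * (x : P) * g⁻¹, hWn.conj_mem x x.2 g⟩
      have cj_mul : ∀ g a b, cj g (a * b) = cj g a * cj g b := fun g a b => Subtype.ext (by
        show g * ((a : P) * b) * g⁻¹ = g * (a : P) * g⁻¹ * (g * (b : P) * g⁻¹); group)
      have cj_cj : ∀ g h a, cj g (cj h a) = cj (g * h) a := fun g h a => Subtype.ext (by
        show g * (h * (a : P) * h⁻¹) * g⁻¹ = g * h * (a : P) * (g * h)⁻¹; group)
      have cj_f : ∀ g a, f (cj g a) = cj g (f a) := fun g a => (cj_mul g a a).symm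
      have cj_inj : ∀ g a b, cj g a = cj g b → a = b := fun g a b e =>
        Subtype.ext (mul_left_cancel (mul_right_cancel (congrArg Subtype.val e)))
      have cj_one : ∀ g, cj g 1 = 1 := fun g => Subtype.ext (by
        show g * 1 * g⁻¹ = 1; group)
      have hwim : ∀ g, cj g w ∉ f.ker := fun g hg => hw (cj_inj g _ _ (by
        rw [← cj_f, MonoidHom.mem_ker.1 hg, cj_one]))
      have hfix : ∀ g, cj g (f w) = f w := fun g => by rw [← cj_f]; exact hsq _ (hwim g)
      have huim : ∀ g, cj g u = u ∨ cj g u = f w * u := by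
        intro g
        have hk : cj g u ∈ f.ker := MonoidHom.mem_ker.2 (by
          rw [cj_f, MonoidHom.mem_ker.1 hu, cj_one])
        rcases hKer _ hk with e | e | e | e
        · exact absurd (cj_inj g _ _ (e.trans (cj_one g).symm)) hu1.1
        · exact absurd (cj_inj g _ _ (e.trans (hfix g).symm)) hu1.2
        · exact Or.inl e
        · exact Or.inr e
      have hwform : ∀ g, ∃ k ∈ f.ker, cj g w = w * k := fun g =>
        ⟨w⁻¹ * cj g w, MonoidHom.mem_ker.2 (by
          rw [map_mul, map_inv, hsq _ (hwim g), inv_mul_cancel]), (mul_inv_cancel_left _ _).symm⟩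
      choose kk hkk hkk' using hwform
      have hlift : ∀ q : P ⧸ C, ∃ g : P, (g : P ⧸ C) = q := QuotientGroup.mk_surjective
      choose rep hrep using hlift
      let φ : P ⧸ C → f.ker × Bool := fun q => (⟨kk (rep q), hkk _⟩, decide (cj (rep q) u = u))
      have hφ : Function.Injective φ := by
        intro p q hpq
        simp only [φ, Prod.mk.injEq, Subtype.mk.injEq, decide_eq_decide] at hpq
        rw [← hrep p, ← hrep q, QuotientGroup.eq]
        refine mem_centralizer_iff.2 fun x hx => ?_
        have hcl : (⊤ : Subgroup W) ≤ closure ({w, u} : Set W) := by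
          intro x _
          by_cases hxk : x ∈ f.ker
          · have hfw : f w ∈ closure ({w, u} : Set W) := mul_mem (subset_closure (Or.inl rfl))
              (subset_closure (Or.inl rfl))
            rcases hKer x hxk with rfl | rfl | rfl | rfl
            exacts [one_mem _, hfw, subset_closure (Or.inr rfl),
              mul_mem hfw (subset_closure (Or.inr rfl))]
          · have hk : w⁻¹ * x ∈ f.ker := MonoidHom.mem_ker.2 (by
              rw [map_mul, map_inv, hsq x hxk, inv_mul_cancel])
            rw [show x = w * (w⁻¹ * x) by group]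
            refine mul_mem (subset_closure (Or.inl rfl)) ?_
            have hfw : f w ∈ closure ({w, u} : Set W) := mul_mem (subset_closure (Or.inl rfl))
              (subset_closure (Or.inl rfl))
            rcases hKer _ hk with e | e | e | e <;> rw [e]
            exacts [one_mem _, hfw, subset_closure (Or.inr rfl),
              mul_mem hfw (subset_closure (Or.inr rfl))]
        have hEq : ∀ y : W, cj (rep p) y = cj (rep q) y := fun y => by
          refine closure_induction (p := fun y _ => cj (rep p) y = cj (rep q) y) ?_ ?_ ?_ ?_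
            (hcl (mem_top y))
          · rintro _ (rfl | rfl)
            · rw [hkk', hkk', hpq.1]
            · rcases huim (rep p) with e | e
              · rw [e, hpq.2.1 e]
              · rcases huim (rep q) with e' | e'
                · exact absurd (e.symm.trans (hpq.2.2 e')) fun h => hw (mul_eq_right.1 h)
                · rw [e, e']
          · rw [cj_one, cj_one]
          · intro a b _ _ ha hb; rw [cj_mul, cj_mul, ha, hb]
          · intro a _ ha
            have e : ∀ g, cj g a⁻¹ = (cj g a)⁻¹ := fun g =>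
              eq_inv_of_mul_eq_one_left (by rw [← cj_mul, inv_mul_cancel, cj_one])
            rw [e, e, ha]
        have e := congrArg Subtype.val (hEq ⟨x, hx⟩)
        change rep p * x * (rep p)⁻¹ = rep q * x * (rep q)⁻¹ at e
        calc x * ((rep p)⁻¹ * rep q) = (rep p)⁻¹ * (rep p * x * (rep p)⁻¹) * rep q := by group
          _ = (rep p)⁻¹ * (rep q * x * (rep q)⁻¹) * rep q := by rw [e]
          _ = _ := by group
      have h8T : Nat.card (P ⧸ C) ≤ 8 := by
        refine (Nat.card_le_card_of_injective φ hφ).trans ?_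
        rw [Nat.card_prod, hk4]; simp
      by_cases hle : Nat.card (P ⧸ C) ≤ 4
      · exact Or.inl hle
      have h8' : Nat.card (P ⧸ C) = 8 := by
        obtain ⟨k, hk⟩ := hT.exists_card_eq
        rw [hk] at hle h8T ⊢
        have hk4' : k < 4 := (Nat.pow_lt_pow_iff_right one_lt_two).1 (h8T.trans_lt (by norm_num))
        rcases k with _ | _ | _ | _ | k
        · simp at hle
        · simp at hle
        · simp at hle
        · norm_num
        · omega
      refine Or.inr ⟨⟨h8', ?_⟩, trivial⟩
      have hbij : Function.Bijective φ :=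
        (Nat.bijective_iff_injective_and_card φ).2 ⟨hφ, by rw [h8', Nat.card_prod, hk4]; simp⟩
      obtain ⟨q, hq⟩ := hbij.2 (⟨u, hu⟩, false)
      simp only [φ, Prod.mk.injEq, Subtype.mk.injEq, decide_eq_false_iff_not] at hq
      refine ⟨q, fun hqq => ?_⟩
      set g := rep q
      rw [← hrep q, ← QuotientGroup.mk_mul, QuotientGroup.eq_one_iff] at hqq
      have hgw : cj (g * g) w = w := Subtype.ext (by
        show g * g * (w : P) * (g * g)⁻¹ = w
        rw [← mem_centralizer_iff.1 hqq _ w.2, mul_inv_cancel_right])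
      rw [← cj_cj, hkk', hq.1, cj_mul, hkk', hq.1, (huim g).resolve_left hq.2,
        mul_assoc, show u * (f w * u) = f w * (u * u) by
          rw [← mul_assoc, (show Commute u (f w) from Subtype.ext
            (s.comm u u.2 _ (f w).2)).eq, mul_assoc],
        show u * u = 1 from MonoidHom.mem_ker.1 hu, mul_one] at hgw
      exact hw (mul_eq_left.1 hgw)
  let φ : H →* P ⧸ C := (QuotientGroup.mk' C).comp H.subtype
  have hr : Gen φ.range 2 := by
    refine gen_two_of_small ?_ (hT.to_subgroup _) ?_
    · rcases hbound with h | ⟨⟨h, -⟩, -⟩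
      · exact (card_le_card_group _).trans (h.trans (by norm_num))
      · exact (card_le_card_group _).trans h.le
    · rcases hbound with h | ⟨⟨h, q, hq⟩, -⟩
      · exact Or.inl ((card_le_card_group _).trans h)
      · by_cases hr4 : Nat.card φ.range ≤ 4
        · exact Or.inl hr4
        · refine Or.inr ?_
          have hd := card_subgroup_dvd_card φ.range
          rw [h] at hd
          have hle := Nat.le_of_dvd (by norm_num) hd
          have h8' : Nat.card φ.range = 8 := by
            interval_cases hh : Nat.card φ.range <;> first | rfl | omega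
          have htop : φ.range = ⊤ := eq_top_of_card_eq _ (h8'.trans h.symm)
          exact ⟨⟨q, htop ▸ mem_top q⟩, fun e => hq (congrArg Subtype.val e)⟩
  have hk : Gen φ.ker 2 := by
    have hkle : φ.ker.map H.subtype ≤ C := by
      rintro _ ⟨x, hx, rfl⟩
      exact (QuotientGroup.eq_one_iff _).1 (MonoidHom.mem_ker.1 hx)
    exact (s.gen_two _ hkle).of_surjective
      (φ.ker.equivMapOfInjective H.subtype H.subtype_injective).symm.toMonoidHom
      (MulEquiv.surjective _)
  exact Gen.of_ker_range φ hk hr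

theorem exists_frame (s : Setting W) (h8 : 8 < Nat.card W) : Nonempty (Frame s) := by
  classical
  haveI : Fact (Nat.Prime 2) := ⟨Nat.prime_two⟩
  let f : W →* W := MonoidHom.mk' (fun w => w * w) (fun a b => by
    have : Commute b a := Subtype.ext (s.comm b b.2 a a.2)
    exact this.mul_mul_mul_comm a b)
  have hrk : Nat.card f.range * Nat.card f.ker = Nat.card W := by
    rw [← index_ker, mul_comm]; exact f.ker.card_mul_index
  let ι : f.range → s.V := fun x => ⟨((x : W) : P), (x : W).2, by
    obtain ⟨w, hw⟩ := x.2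
    rw [← hw]
    show (w : P) * w * (w * w) = 1
    rw [show (w : P) * w * (w * w) = (w : P) ^ 4 by rw [pow_succ, pow_succ, pow_two]; group]
    exact s.exp w w.2⟩
  have hι : Function.Injective ι := fun a b h =>
    Subtype.ext (Subtype.ext (congrArg (fun t : s.V => (t : P)) h))
  have hker : Nat.card f.ker ≤ Nat.card s.V :=
    Nat.card_le_card_of_injective (fun x => (⟨((x : W) : P), (x : W).2,
      congrArg Subtype.val (MonoidHom.mem_ker.1 x.2)⟩ : s.V)) fun a b h =>
        Subtype.ext (Subtype.ext (congrArg (fun t : s.V => (t : P)) h))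
  have hV := s.card_V_le
  have hran : Nat.card f.range ≤ Nat.card s.V := Nat.card_le_card_of_injective ι hι
  have hV4 : Nat.card s.V = 4 ∧ Nat.card f.range = 4 := by
    have h1 : 2 < Nat.card f.range := by
      by_contra hle; push Not at hle
      nlinarith
    obtain ⟨a, ha⟩ := ((s.hP.to_subgroup W).to_subgroup f.range).exists_card_eq
    have h4 : 4 ≤ Nat.card f.range := by
      rcases a with _ | _ | a
      · omega
      · omega
      · rw [ha]; exact le_trans (by norm_num) (Nat.pow_le_pow_right two_pos (by omega : 2 ≤ a + 2))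
    omega
  have hsurj : ∀ x ∈ s.V, ∃ w ∈ W, w * w = x := by
    intro x hx
    obtain ⟨y, hy⟩ := ((Nat.bijective_iff_injective_and_card ι).2 ⟨hι, by omega⟩).2 ⟨x, hx⟩
    obtain ⟨w, hw⟩ := y.2
    refine ⟨w, w.2, ?_⟩
    have := congrArg (fun t : s.V => (t : P)) hy
    refine Eq.trans ?_ this
    show (w : P) * w = ((y : W) : P)
    rw [← hw]
    rfl
  haveI := s.V_normal
  obtain ⟨v1, hv1, hv11, hv1c⟩ := CfsgLib.OddLocal.exists_center_of_normal_ne_bot s.hP s.V
    (fun e => by rw [e, card_bot] at hV4; omega)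
  obtain ⟨v2, hv2, hv21, hv2v⟩ : ∃ v2 ∈ s.V, v2 ≠ 1 ∧ v2 ≠ v1 := by
    by_contra! hall
    haveI := Fintype.ofFinite s.V
    have : Nat.card s.V ≤ 2 := by
      refine le_trans ?_ (Finset.card_le_two (a := (1 : P)) (b := v1))
      rw [Nat.card_eq_fintype_card, ← Finset.card_univ]
      refine Finset.card_le_card_of_injOn Subtype.val (fun x _ => ?_) Subtype.val_injective.injOn
      by_cases h1 : (x : P) = 1
      · simp [h1]
      · simp [hall x x.2 h1]
    omega
  obtain ⟨w1, hw1, e1⟩ := hsurj v1 hv1
  obtain ⟨w2, hw2, e2⟩ := hsurj v2 hv2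
  have hinj : ∀ u : V2, v1 ^ u.1.val * v2 ^ u.2.val = 1 → u = 0 := by
    rintro ⟨a, b⟩ h
    rcases Plane.zsmul_cases a with rfl | rfl <;> rcases Plane.zsmul_cases b with rfl | rfl <;>
      simp [show (1 : ZMod 2).val = 1 from rfl] at h ⊢
    · exact hv21 h
    · exact hv11 h
    · exact hv2v (by rw [eq_inv_of_mul_eq_one_right h, inv_eq_of_mul_eq_one_right hv1.2])
  refine ⟨{ w1 := w1, w2 := w2, hw1 := hw1, hw2 := hw2, hcen := e1 ▸ hv1c,
            hinj := by rw [e1, e2]; exact hinj, hsurj := ?_ }⟩
  rw [e1, e2]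
  let κ : V2 → s.V := fun u => ⟨v1 ^ u.1.val * v2 ^ u.2.val,
    mul_mem (pow_mem hv1 _) (pow_mem hv2 _)⟩
  have hκ : Function.Injective κ := by
    intro a b h
    have h' : v1 ^ a.1.val * v2 ^ a.2.val = v1 ^ b.1.val * v2 ^ b.2.val := congrArg Subtype.val h
    obtain ⟨a1, a2⟩ := a
    obtain ⟨b1, b2⟩ := b
    rcases Plane.zsmul_cases a1 with rfl | rfl <;> rcases Plane.zsmul_cases a2 with rfl | rfl <;>
      rcases Plane.zsmul_cases b1 with rfl | rfl <;> rcases Plane.zsmul_cases b2 with rfl | rfl <;>
      simp [show (1 : ZMod 2).val = 1 from rfl] at h' ⊢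
    all_goals first
      | exact hv11 h'
      | exact hv11 h'.symm
      | exact hv21 h'
      | exact hv21 h'.symm
      | exact hv2v h'
      | exact hv2v h'.symm
      | exact hv2v (by rw [eq_inv_of_mul_eq_one_right h', inv_eq_of_mul_eq_one_right hv1.2])
      | exact hv2v (by rw [eq_inv_of_mul_eq_one_right h'.symm, inv_eq_of_mul_eq_one_right hv1.2])
      | exact hv21 (right_eq_mul.1 h'.symm)
      | exact hv21 (left_eq_mul.1 h'.symm)
      | exact hv11 (right_eq_mul.1 h'.symm)
      | exact hv11 (left_eq_mul.1 h'.symm)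
      | exact hv21 (mul_eq_left.1 h')
      | exact hv11 (mul_eq_right.1 h')
  intro x hx
  have hcard : Nat.card V2 = Nat.card s.V := by rw [hV4.1, Nat.card_prod]; simp
  obtain ⟨u, hu⟩ := ((Nat.bijective_iff_injective_and_card κ).2 ⟨hκ, hcard⟩).2 ⟨x, hx⟩
  exact ⟨u, congrArg Subtype.val hu⟩

end Setting

namespace Frame

variable (F : Frame s)

omit [Finite P] in
theorem jm_of_not {g : P} (hg : g ∉ F.R) : F.jm g = Plane.jay := by
  classical
  rw [jm, if_neg hg]

omit [Finite P] in
theorem mul_mem_R {g h : P} (hg : g ∉ F.R) (hh : h ∉ F.R) : g⁻¹ * h ∈ F.R := by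
  refine mem_centralizer_iff.2 fun x hx => ?_
  obtain ⟨u, hu⟩ := F.hsurj x hx
  change F.v u = x at hu
  have e : g * F.v u * g⁻¹ = h * F.v u * h⁻¹ := by
    rw [F.conj_v, F.conj_v, F.jm_of_not hg, F.jm_of_not hh]
  rw [← hu]
  calc F.v u * (g⁻¹ * h) = g⁻¹ * (g * F.v u * g⁻¹) * h := by group
    _ = g⁻¹ * (h * F.v u * h⁻¹) * h := by rw [e]
    _ = _ := by group

omit [Finite P] in
theorem psi_conj_not {g x : P} (hg : g ∉ F.R) (hx : x ∈ F.R) :
    F.psi (g * x * g⁻¹) = Plane.cj (F.psi x) := by
  rw [F.psi_conj g hx, F.jm_of_not hg]; rfl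

/-- The image of a subgroup. -/
noncomputable def im (K : Subgroup P) : AddSubgroup M2 where
  carrier := {X | ∃ x ∈ K, x ∈ F.R ∧ F.psi x = X}
  zero_mem' := ⟨1, one_mem _, one_mem _, F.psi_one⟩
  add_mem' := fun ⟨x, hx, hxR, hX⟩ ⟨y, hy, hyR, hY⟩ =>
    ⟨x * y, mul_mem hx hy, mul_mem hxR hyR, by rw [F.psi_mul hxR hyR, hX, hY]⟩
  neg_mem' := fun {X} ⟨x, hx, hxR, hX⟩ => ⟨x, hx, hxR, hX.trans (CharTwo.neg_eq X).symm⟩

omit [Finite P] in
theorem mem_im {K : Subgroup P} {X : M2} : X ∈ F.im K ↔ ∃ x ∈ K, x ∈ F.R ∧ F.psi x = X := Iff.rfl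

omit [Finite P] in
theorem im_mono {K L : Subgroup P} (h : K ≤ L) : F.im K ≤ F.im L :=
  fun _ ⟨x, hx, hxR, hX⟩ => ⟨x, h hx, hxR, hX⟩

omit [Finite P] in
theorem cj_mem {K : Subgroup P} {g : P} (hg : g ∈ K) (hgR : g ∉ F.R) {X : M2} (hX : X ∈ F.im K) :
    Plane.cj X ∈ F.im K := by
  haveI := F.R_normal
  obtain ⟨x, hx, hxR, rfl⟩ := hX
  exact ⟨g * x * g⁻¹, mul_mem (mul_mem hg hx) (inv_mem hg), Normal.conj_mem inferInstance x hxR g,
    F.psi_conj_not hgR hxR⟩

omit [Finite P] in
theorem smul_mem_im {K : Subgroup P} {X : M2} (hX : X ∈ F.im K) (a : ZMod 2) : a • X ∈ F.im K := by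
  rcases Plane.zsmul_cases a with rfl | rfl
  · rw [zero_smul]; exact zero_mem _
  · rwa [one_smul]

omit [Finite P] in
/-- The covering condition. -/
theorem cover {H : Subgroup P} {K : Subgroup P} (hK : K ≤ H)
    (hg : ∀ h ∈ H, h ∉ F.R → ∃ g ∈ K, g ∉ F.R) (hU : F.im H ≤ F.im K) :
    ∀ h ∈ H, ∃ t ∈ K, t⁻¹ * h ∈ H ⊓ centralizer (W : Set P) := by
  intro h hh
  have key : ∀ h ∈ H, h ∈ F.R → ∃ t ∈ K, t⁻¹ * h ∈ H ⊓ centralizer (W : Set P) := by
    intro h hh hhR
    obtain ⟨x, hx, hxR, hxh⟩ := hU ⟨h, hh, hhR, rfl⟩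
    refine ⟨x, hx, mem_inf.2 ⟨mul_mem (inv_mem (hK hx)) hh, ?_⟩⟩
    refine (F.psi_eq_zero_iff (mul_mem (inv_mem hxR) hhR)).1 ?_
    rw [F.psi_mul (inv_mem hxR) hhR, F.psi_inv hxR, hxh]
    exact CharTwo.add_self_eq_zero _
  by_cases hhR : h ∈ F.R
  · exact key h hh hhR
  obtain ⟨g, hgK, hgR⟩ := hg h hh hhR
  obtain ⟨t, ht, htd⟩ := key (g⁻¹ * h) (mul_mem (inv_mem (hK hgK)) hh) (F.mul_mem_R hgR hhR)
  exact ⟨g * t, mul_mem hgK ht, by rwa [mul_inv_rev, mul_assoc]⟩

/-- The generator bound with one saving. -/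
theorem gen_saving {H : Subgroup P} (S : Finset P) {k : ℕ} (hS : S.card ≤ k)
    (hSH : closure (S : Set P) ≤ H)
    (hg : ∀ h ∈ H, h ∉ F.R → ∃ g ∈ closure (S : Set P), g ∉ F.R)
    (hU : F.im H ≤ F.im (closure (S : Set P))) (hI : Plane.one ∈ F.im ⊤) {Y : M2}
    (hY : Y ∈ F.im H) (hY0 : Y ≠ 0) (hY1 : Plane.Inj (Plane.one + Y))
    (hinv : ∀ g : P, g ∉ F.R → Plane.cj Y = Y) : Gen H (k + 1) := by
  obtain ⟨y, hy, hyR, rfl⟩ := hU hY
  obtain ⟨x, -, hxR, hx⟩ := hI
  set D := H ⊓ centralizer (W : Set P)
  have hd : y * y ∈ D := ⟨mul_mem (hSH hy) (hSH hy), F.sq_mem_cent hyR⟩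
  refine gen_of_cover_saving s.hP H D S hS hSH inf_le_left (F.cover hSH hg hU)
    (s.gen_two D inf_le_right) ⟨y * y, hd⟩ (mul_mem hy hy) ?_
  refine F.sq_notMem_frattini hxR hx hyR hY0 hY1 (fun g => ?_) D inf_le_right _ rfl
  by_cases hgR : g ∈ F.R
  · exact F.psi_conj_R hgR hyR
  · rw [F.psi_conj_not hgR hyR, hinv g hgR]

theorem gen_plain {H : Subgroup P} (S : Finset P) {k : ℕ} (hS : S.card ≤ k)
    (hSH : closure (S : Set P) ≤ H)
    (hg : ∀ h ∈ H, h ∉ F.R → ∃ g ∈ closure (S : Set P), g ∉ F.R)
    (hU : F.im H ≤ F.im (closure (S : Set P))) : Gen H (k + 2) :=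
  gen_of_cover' H _ S hS hSH inf_le_left (F.cover hSH hg hU) (s.gen_two _ inf_le_right)

/-- `C(W) = W` in the presence of an element of order three type. -/
theorem cent_eq_of_omega {X : M2} (hX : X ∈ F.im ⊤) (hom : Plane.Omega X) :
    centralizer (W : Set P) ≤ W := by
  obtain ⟨x, -, hxR, rfl⟩ := hX
  intro c hc
  have hx2 := F.sq_mem_V_of_inj hxR hom.1
  have hxc : x * c * (x * c) ∈ s.V := by
    refine F.sq_mem_V_of_inj (mul_mem hxR (F.cent_le_R hc)) ?_
    rw [F.psi_mul hxR (F.cent_le_R hc), F.psi_cent hc, add_zero]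
    exact hom.1
  set t := x * c * (x * c) * (x * x)⁻¹
  have ht : t ∈ s.V := mul_mem hxc (inv_mem hx2)
  have hconj : x * c * x⁻¹ = t * c⁻¹ := by
    rw [eq_mul_inv_iff_mul_eq]
    simp only [t]
    rw [eq_mul_inv_iff_mul_eq, mul_assoc (x * c * x⁻¹), ← mem_centralizer_iff.1 hc _ hx2.1]
    group
  have hcc : c * c ∈ s.V := by
    refine F.mem_V_of_inverted hxR hom.2 _ (mul_mem hc hc) ?_
    have htc : c⁻¹ * t = t * c⁻¹ := (mem_centralizer_iff.1 (inv_mem hc) t ht.1).symm
    calc x * (c * c) * x⁻¹ = x * c * x⁻¹ * (x * c * x⁻¹) := by group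
      _ = t * (c⁻¹ * t) * c⁻¹ := by rw [hconj]; group
      _ = (c * c)⁻¹ := by rw [htc, ← mul_assoc, ht.2]; group
  refine s.alperin c hc ?_
  rw [show c ^ 4 = c * c * (c * c) by rw [pow_succ, pow_succ, pow_two]; group]
  exact hcc.2

omit [Finite P] in
/-- The commutator equation. -/
theorem sq_comm (hCW : centralizer (W : Set P) ≤ W) {x y : P} (hx : x ∈ F.R) (hy : y ∈ F.R) :
    x * y * x⁻¹ * y⁻¹ ∈ W ∧
    Plane.ap (F.psi x) (F.cl (y * y)) =
      Plane.ap (Plane.one + F.psi y) (F.cl (x * y * x⁻¹ * y⁻¹)) ∧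
    F.cl (y * x * (y * x)) = F.cl (x * y * x⁻¹ * y⁻¹) + F.cl (y * y) + F.cl (x * x) := by
  set c := x * y * x⁻¹ * y⁻¹ with hc
  have hcW : c ∈ W := by
    refine hCW ((F.psi_eq_zero_iff ?_).1 ?_)
    · exact mul_mem (mul_mem (mul_mem hx hy) (inv_mem hx)) (inv_mem hy)
    · rw [F.psi_mul (mul_mem (mul_mem hx hy) (inv_mem hx)) (inv_mem hy),
        F.psi_mul (mul_mem hx hy) (inv_mem hx), F.psi_mul hx hy, F.psi_inv hx, F.psi_inv hy,
        add_right_comm (F.psi x), CharTwo.add_self_eq_zero, zero_add]
      exact CharTwo.add_self_eq_zero _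
  have hyy : y * y ∈ W := hCW (F.sq_mem_cent hy)
  have hxx : x * x ∈ W := hCW (F.sq_mem_cent hx)
  refine ⟨hcW, F.v_inj (mul_right_cancel (b := y * y) ?_), ?_⟩
  · rw [← F.conj_eq hx hyy]
    calc x * (y * y) * x⁻¹ = c * (y * c * y⁻¹) * (y * y) := by rw [hc]; group
      _ = c * (F.v (Plane.ap (F.psi y) (F.cl c)) * c) * (y * y) := by rw [F.conj_eq hy hcW]
      _ = _ := by
        rw [Plane.ap_add_left, Plane.ap_one, F.v_add, show F.v (F.cl c) = c * c from
          F.v_vi (sq_mem_V hcW), s.comm _ F.mem_W _ hcW]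
        group
  · have e : y * x * (y * x) = y * c * y⁻¹ * (y * y) * (x * x) := by rw [hc]; group
    rw [e, F.cl_mul (mul_mem (s.normal.conj_mem c hcW y) hyy) hxx,
      F.cl_mul (s.normal.conj_mem c hcW y) hyy, F.cl_conj y hcW]
    classical
    rw [jm, if_pos hy, Plane.ap_one]

theorem cl_sq_nil {y : P} (hy : y ∈ F.R) (hY : F.psi y = Plane.nil)
    (hCW : centralizer (W : Set P) ≤ W) : F.cl (y * y) = (1, 0) := by
  have hyy : y * y ∈ W := hCW (F.sq_mem_cent hy)
  have h0 : F.cl (y * y) ≠ 0 := fun e =>
    F.sq_notMem_V hy (hY ▸ Plane.nil_ne_zero) (hY ▸ Plane.inj_one_add_nil) (fun g => by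
      by_cases hgR : g ∈ F.R
      · exact F.psi_conj_R hgR hy
      · rw [F.psi_conj_not hgR hy, hY, Plane.cj_nil]) ((F.cl_eq_zero_iff hyy).1 e)
  refine (Plane.ker_nil _ (F.v_inj (mul_right_cancel (b := y * y) ?_))).resolve_left h0
  rw [← hY, ← F.conj_eq hy hyy, F.v_zero]
  group

include F in
/-- The case `|W| = 16`. -/
theorem gen_four (H : Subgroup P) : Gen H 4 := by
  classical
  set U := F.im H with hUdef
  set U0 := F.im ⊤ with hU0def
  have hUU0 : U ≤ U0 := F.im_mono le_top
  have hlift : ∀ X ∈ U, ∃ x, x ∈ H ∧ x ∈ F.R ∧ F.psi x = X := fun X hX => hX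
  choose! lf hlfH hlfR hlfX using hlift
  have hmemS : ∀ (S : Finset P) (X : M2), X ∈ U → lf X ∈ S → X ∈ F.im (closure (S : Set P)) :=
    fun S X hX hS => ⟨lf X, subset_closure hS, hlfR X hX, hlfX X hX⟩
  have noOmega : (∀ g : P, g ∈ F.R) → ∀ X ∈ U0, ¬ Plane.Omega X := by
    intro hPR X hX hom
    obtain ⟨x, -, hxR, rfl⟩ := hX
    exact F.sq_notMem_V hxR (Plane.inj_ne_zero hom.1) hom.2 (fun g => F.psi_conj_R (hPR g) hxR)
      (F.sq_mem_V_of_inj hxR hom.1)
  have hI0 : ∀ g : P, g ∉ F.R → 4 < Nat.card U → Plane.one ∈ U0 := by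
    intro g hgR hU4
    rcases Plane.subgroup_cases U0 with h | ⟨m, hm, hmU⟩ | h
    · exact absurd ((AddSubgroup.card_le_of_le hUU0).trans h) (not_le.2 hU4)
    · exact (hmU _).2 (Plane.invariant_hyperplane m hm fun X hX =>
        (hmU _).1 (F.cj_mem (mem_top g) hgR ((hmU X).2 hX))).1
    · exact h ▸ AddSubgroup.mem_top _
  by_cases hHR : ∀ h ∈ H, h ∈ F.R
  · have hgv : ∀ (K : Subgroup P), ∀ h ∈ H, h ∉ F.R → ∃ g ∈ K, g ∉ F.R :=
      fun K h hh hn => absurd (hHR h hh) hn
    by_cases hU4 : Nat.card U ≤ 4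
    · -- two generators of the image
      obtain ⟨a, ha, b, hb, hab⟩ : ∃ a ∈ U, ∃ b ∈ U, ∀ X ∈ U, X = 0 ∨ X = a ∨ X = b ∨ X = a + b := by
        by_cases h1 : ∀ X ∈ U, X = 0
        · exact ⟨0, zero_mem _, 0, zero_mem _, fun X hX => Or.inl (h1 X hX)⟩
        push Not at h1
        obtain ⟨a, ha, ha0⟩ := h1
        by_cases h2 : ∀ X ∈ U, X = 0 ∨ X = a
        · exact ⟨a, ha, a, ha, fun X hX => (h2 X hX).imp_right Or.inl⟩
        push Not at h2
        obtain ⟨b, hb, hb0, hba⟩ := h2
        refine ⟨a, ha, b, hb, fun X hX => ?_⟩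
        by_contra! hne
        haveI := Fintype.ofFinite U
        have h5 : ({0, a, b, a + b, X} : Finset M2).card = 5 := by
          rw [Finset.card_insert_of_notMem, Finset.card_insert_of_notMem,
            Finset.card_insert_of_notMem, Finset.card_insert_of_notMem, Finset.card_singleton]
          · simp [Ne.symm hne.2.2.2]
          · simp only [Finset.mem_insert, Finset.mem_singleton, not_or]
            exact ⟨fun e => ha0 (left_eq_add.1 (e.trans (add_comm a b))), Ne.symm hne.2.2.1⟩
          · simp only [Finset.mem_insert, Finset.mem_singleton, not_or]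
            exact ⟨Ne.symm hba, fun e => hb0 (left_eq_add.1 e), Ne.symm hne.2.1⟩
          · simp only [Finset.mem_insert, Finset.mem_singleton, not_or]
            refine ⟨Ne.symm ha0, Ne.symm hb0, fun e => hba ?_, Ne.symm hne.1⟩
            rw [eq_neg_of_add_eq_zero_right e.symm, CharTwo.neg_eq]
        have : ({0, a, b, a + b, X} : Finset M2).card ≤ Nat.card U := by
          rw [Nat.card_eq_fintype_card, ← Finset.card_univ,
            ← Finset.card_map (Function.Embedding.subtype (fun t => t ∈ U))]
          refine Finset.card_le_card fun t ht => ?_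
          simp only [Finset.mem_map, Finset.mem_univ, true_and]
          refine ⟨⟨t, ?_⟩, rfl⟩
          simp only [Finset.mem_insert, Finset.mem_singleton] at ht
          rcases ht with rfl | rfl | rfl | rfl | rfl
          exacts [zero_mem _, ha, hb, add_mem ha hb, hX]
        omega
      refine F.gen_plain {lf a, lf b} (k := 2) Finset.card_le_two ((closure_le H).2 ?_) (hgv _) ?_
      · simp [Set.insert_subset_iff, hlfH a ha, hlfH b hb]
      · intro X hX
        have h1 := hmemS {lf a, lf b} a ha (by simp)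
        have h2 := hmemS {lf a, lf b} b hb (by simp)
        rcases hab X hX with rfl | rfl | rfl | rfl
        exacts [zero_mem _, h1, h2, add_mem h1 h2]
    push Not at hU4
    rcases Plane.subgroup_cases U with h | ⟨m, hm, hmU⟩ | htop
    · omega
    · obtain ⟨a, b, c, ha, hb, hc, habc⟩ := Plane.hyperplane_three m hm
      set S : Finset P := {lf a, lf b, lf c}
      have hSH : closure (S : Set P) ≤ H := (closure_le H).2 (by
        simp [S, Set.insert_subset_iff, hlfH a ((hmU a).2 ha), hlfH b ((hmU b).2 hb),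
          hlfH c ((hmU c).2 hc)])
      have hUS : F.im H ≤ F.im (closure (S : Set P)) := by
        intro X hX
        obtain ⟨i, j, k, rfl⟩ := habc X ((hmU X).1 hX)
        exact add_mem (add_mem
          (F.smul_mem_im (hmemS S a ((hmU a).2 ha) (by simp [S])) i)
          (F.smul_mem_im (hmemS S b ((hmU b).2 hb) (by simp [S])) j))
          (F.smul_mem_im (hmemS S c ((hmU c).2 hc) (by simp [S])) k)
      have hS3 : S.card ≤ 3 := Finset.card_le_three
      by_cases hPR : ∀ g : P, g ∈ F.R
      · obtain ⟨hI, n, hn0, hnn, hn⟩ := Plane.omega_free m hm fun X hom hX =>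
          noOmega hPR X (hUU0 ((hmU X).2 hX)) hom
        exact F.gen_saving S hS3 hSH (hgv _) hUS (hUU0 ((hmU _).2 hI)) ((hmU n).2 hn) hn0
          (Plane.inj_one_add_of_sq_zero n hnn) fun g hg => absurd (hPR g) hg
      push Not at hPR
      obtain ⟨g, hgR⟩ := hPR
      by_cases hN : Plane.dot m Plane.nil = 0
      · exact F.gen_saving S hS3 hSH (hgv _) hUS (hI0 g hgR hU4) ((hmU _).2 hN) Plane.nil_ne_zero
          Plane.inj_one_add_nil fun _ _ => Plane.cj_nil
      -- now the image of `P` is everything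
      have hU0 : U0 = ⊤ := by
        rcases Plane.subgroup_cases U0 with h | ⟨m', hm', hmU'⟩ | h
        · exact absurd ((AddSubgroup.card_le_of_le hUU0).trans h) (not_le.2 hU4)
        · refine absurd ?_ hN
          have hmm : m = m' := Plane.hyperplane_unique m m' hm hm' fun X hX =>
            (hmU' X).1 (hUU0 ((hmU X).2 hX))
          rw [hmm]
          exact (Plane.invariant_hyperplane m' hm' fun X hX =>
            (hmU' _).1 (F.cj_mem (mem_top g) hgR ((hmU' X).2 hX))).2.1
        · exact h
      obtain ⟨O, hO⟩ := Plane.omega_exists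
      have hCW := F.cent_eq_of_omega (hU0 ▸ AddSubgroup.mem_top O : O ∈ U0) hO
      obtain ⟨X, hX, hXne⟩ := Plane.square_obstruction m hN
      obtain ⟨x, hx, hxR, hxX⟩ := hUS ((hmU X).2 hX)
      obtain ⟨y, -, hyR, hyY⟩ := (hU0 ▸ AddSubgroup.mem_top Plane.nil : Plane.nil ∈ U0)
      have hxx : x * x ∈ W := hCW (F.sq_mem_cent hxR)
      have hxV : x * x ∉ s.V := by
        intro hV
        obtain ⟨hcW, heq, hsum⟩ := F.sq_comm hCW hxR hyR
        rw [hxX, hyY, F.cl_sq_nil hyR hyY hCW] at heq
        have hclc := Plane.nil_inv _ _ heq.symm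
        rw [F.cl_sq_nil hyR hyY hCW, F.cl_V hV, add_zero, hclc] at hsum
        have hyxR : y * x ∈ F.R := mul_mem hyR hxR
        have hyxW : y * x * (y * x) ∈ W := hCW (F.sq_mem_cent hyxR)
        have hfix := F.conj_eq hyxR hyxW
        rw [show y * x * (y * x * (y * x)) * (y * x)⁻¹ = y * x * (y * x) by group] at hfix
        have h0 : Plane.ap (F.psi (y * x)) (F.cl (y * x * (y * x))) = 0 :=
          F.v_inj (by rw [F.v_zero]; exact right_eq_mul.1 hfix)
        rw [F.psi_mul hyR hxR, hyY, hxX, hsum, add_comm (Plane.ap _ _) _] at h0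
        exact hXne h0
      have hd : x * x ∈ H ⊓ centralizer (W : Set P) := ⟨mul_mem (hSH hx) (hSH hx), s.le_cent hxx⟩
      refine gen_of_cover_saving s.hP H _ S hS3 hSH inf_le_left (F.cover hSH (hgv _) hUS)
        (s.gen_two _ inf_le_right) ⟨x * x, hd⟩ (mul_mem hx hx) fun hfr => hxV ?_
      haveI : Fact (Nat.Prime 2) := ⟨Nat.prime_two⟩
      haveI := s.V_normal
      exact CfsgLib.Transfer.frattini_le_of_elementary_quotient (p := 2)
        (s.V.subgroupOf (H ⊓ centralizer (W : Set P))) (fun a b => by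
          rw [mem_subgroupOf, commutatorElement_def]
          push_cast
          rw [s.comm _ (hCW a.2.2) _ (hCW b.2.2), mul_inv_cancel_right, mul_inv_cancel]
          exact one_mem _)
        (fun a => by
          rw [mem_subgroupOf, SubgroupClass.coe_pow, pow_two]
          exact sq_mem_V (hCW a.2.2)) hfr
    · -- the whole plane
      have hUtop : ∀ X, X ∈ U := fun X => htop ▸ AddSubgroup.mem_top X
      obtain ⟨O, hO⟩ := Plane.omega_exists
      by_cases hPR : ∀ g : P, g ∈ F.R
      · exact absurd hO (noOmega hPR O (hUU0 (hUtop O)))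
      have hCW := F.cent_eq_of_omega (hUU0 (hUtop O)) hO
      set S : Finset P := {lf ((1, 0), (0, 0)), lf ((0, 1), (0, 0)), lf ((0, 0), (1, 0)),
        lf ((0, 0), (0, 1))}
      have hS4 : S.card ≤ 4 := Finset.card_le_four
      have hSH : closure (S : Set P) ≤ H := (closure_le H).2 (by
        simp [S, Set.insert_subset_iff, hlfH _ (hUtop _)])
      have hUS : F.im H ≤ F.im (closure (S : Set P)) := by
        rintro ⟨⟨a, b⟩, ⟨c, d⟩⟩ -
        have e : (((a, b), (c, d)) : M2) = a • ((1, 0), (0, 0)) + b • ((0, 1), (0, 0)) +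
            c • ((0, 0), (1, 0)) + d • ((0, 0), (0, 1)) := by simp
        rw [e]
        exact add_mem (add_mem (add_mem (F.smul_mem_im (hmemS S _ (hUtop _) (by simp [S])) a)
          (F.smul_mem_im (hmemS S _ (hUtop _) (by simp [S])) b))
          (F.smul_mem_im (hmemS S _ (hUtop _) (by simp [S])) c))
          (F.smul_mem_im (hmemS S _ (hUtop _) (by simp [S])) d)
      obtain ⟨x, hx, hxR, hxX⟩ := hUS (hUtop O)
      obtain ⟨y, hy, hyR, hyY⟩ := hUS (hUtop Plane.nil)
      obtain ⟨hcW, heq, -⟩ := F.sq_comm hCW hxR hyR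
      have hyy : F.cl (y * y) = (1, 0) := F.cl_sq_nil hyR hyY hCW
      rw [hxX, hyY, hyy] at heq
      have hclc := Plane.nil_inv _ _ heq.symm
      obtain ⟨hu0, hu1⟩ := Plane.omega_moves O hO
      set c := x * y * x⁻¹ * y⁻¹
      have hcS : c ∈ closure (S : Set P) := mul_mem (mul_mem (mul_mem hx hy) (inv_mem hx)) (inv_mem hy)
      have hyyW : y * y ∈ W := hCW (F.sq_mem_cent hyR)
      have hWS : W ≤ closure (S : Set P) := by
        set K := closure (S : Set P) ⊓ W
        have hyK : y * y ∈ K := ⟨mul_mem hy hy, hyyW⟩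
        have hcK : c ∈ K := ⟨hcS, hcW⟩
        have hall : ∀ t : V2, ∃ k ∈ K, F.cl k = t := by
          intro t
          rcases Plane.span_four (F.cl c) t (by rw [hclc]; exact hu0) (by rw [hclc]; exact hu1) with
            rfl | rfl | rfl | rfl
          · exact ⟨1, one_mem _, F.cl_V (one_mem _)⟩
          · exact ⟨_, hyK, hyy⟩
          · exact ⟨_, hcK, rfl⟩
          · exact ⟨_, mul_mem hyK hcK, by rw [F.cl_mul hyK.2 hcK.2, hyy]⟩
        have hVK : s.V ≤ K := by
          intro t ht
          obtain ⟨k, hk, hkt⟩ := hall (F.vi t)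
          rw [← F.v_vi ht, ← hkt, show F.v (F.cl k) = k * k from F.v_vi (sq_mem_V hk.2)]
          exact mul_mem hk hk
        intro w hw
        obtain ⟨k, hk, hkt⟩ := hall (F.cl w)
        have hd : k⁻¹ * w ∈ s.V := by
          refine (F.cl_eq_zero_iff (mul_mem (inv_mem hk.2) hw)).1 ?_
          have h0 := F.cl_mul (inv_mem hk.2) hk.2
          rw [inv_mul_cancel, F.cl_V (one_mem _), hkt] at h0
          rw [F.cl_mul (inv_mem hk.2) hw]
          exact h0.symm
        rw [show w = k * (k⁻¹ * w) by group]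
        exact mul_mem hk.1 (hVK hd).1
      exact gen_of_cover (l := 0) H _ S hS4 hSH inf_le_left (F.cover hSH (hgv _) hUS) ∅ le_rfl
        (by simp) fun d hd => mem_sup_left (hWS (hCW hd.2))
  push Not at hHR
  obtain ⟨g, hgH, hgR⟩ := hHR
  have hgen : ∀ x ∈ U, ∀ z ∈ U, (∀ X ∈ U, Plane.InSpan x z X) → Plane.nil ∈ U →
      Plane.one ∈ U0 → Gen H 4 := by
    intro x hx z hz hspan hN hI
    set S : Finset P := {g, lf x, lf z}
    have hSH : closure (S : Set P) ≤ H := (closure_le H).2 (by
      simp [S, Set.insert_subset_iff, hgH, hlfH x hx, hlfH z hz])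
    have hgS : g ∈ closure (S : Set P) := subset_closure (by simp [S])
    refine F.gen_saving S Finset.card_le_three hSH (fun _ _ _ => ⟨g, hgS, hgR⟩) (fun X hX => ?_) hI
      hN Plane.nil_ne_zero Plane.inj_one_add_nil fun _ _ => Plane.cj_nil
    obtain ⟨a, b, c, d, rfl⟩ := hspan X hX
    have hx' := hmemS S x hx (by simp [S])
    have hz' := hmemS S z hz (by simp [S])
    exact add_mem (add_mem (add_mem (F.smul_mem_im hx' a)
      (F.smul_mem_im (F.cj_mem hgS hgR hx') b)) (F.smul_mem_im hz' c))
      (F.smul_mem_im (F.cj_mem hgS hgR hz') d)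
  by_cases hU4 : Nat.card U ≤ 4
  · by_cases hfix : ∀ X ∈ U, Plane.cj X = X
    · have hsmall : ∀ X ∈ U, X = 0 ∨ X = Plane.one ∨ X = Plane.nil ∨ X = Plane.one + Plane.nil :=
        fun X hX => Plane.fixed_cases X (hfix X hX)
      by_cases hIN : Plane.one ∈ U ∧ Plane.nil ∈ U
      · refine hgen _ hIN.1 _ hIN.2 (fun X hX => ?_) hIN.2 (hUU0 hIN.1)
        rcases hsmall X hX with rfl | rfl | rfl | rfl
        · exact ⟨0, 0, 0, 0, by simp⟩
        · exact ⟨1, 0, 0, 0, by simp⟩
        · exact ⟨0, 0, 1, 0, by simp⟩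
        · exact ⟨1, 0, 1, 0, by simp⟩
      -- at most one non-zero element
      obtain ⟨a, ha, hall⟩ : ∃ a ∈ U, ∀ X ∈ U, X = 0 ∨ X = a := by
        by_cases h1 : ∀ X ∈ U, X = 0
        · exact ⟨0, zero_mem _, fun X hX => Or.inl (h1 X hX)⟩
        push Not at h1
        obtain ⟨a, ha, ha0⟩ := h1
        refine ⟨a, ha, fun X hX => ?_⟩
        by_contra! hne
        refine hIN ?_
        have hab := add_mem ha hX
        rcases (hsmall a ha).resolve_left ha0 with rfl | rfl | rfl <;>
          rcases (hsmall X hX).resolve_left hne.1 with rfl | rfl | rfl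
        all_goals first
          | exact absurd rfl hne.2
          | exact ⟨ha, hX⟩
          | exact ⟨hX, ha⟩
          | exact ⟨by assumption, by
              rwa [← add_assoc, CharTwo.add_self_eq_zero, zero_add] at hab⟩
          | exact ⟨by
              rwa [add_comm Plane.one Plane.nil, ← add_assoc, CharTwo.add_self_eq_zero,
                zero_add] at hab, by assumption⟩
          | exact ⟨by assumption, by
              rwa [add_comm (Plane.one + Plane.nil), ← add_assoc, CharTwo.add_self_eq_zero,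
                zero_add] at hab⟩
          | exact ⟨by
              rwa [add_comm (Plane.one + Plane.nil), add_comm Plane.one Plane.nil, ← add_assoc,
                CharTwo.add_self_eq_zero, zero_add] at hab, by assumption⟩
      refine F.gen_plain {g, lf a} (k := 2) Finset.card_le_two ((closure_le H).2 ?_)
        (fun _ _ _ => ⟨g, subset_closure (by simp), hgR⟩) fun X hX => ?_
      · simp [Set.insert_subset_iff, hgH, hlfH a ha]
      · rcases hall X hX with rfl | rfl
        exacts [zero_mem _, hmemS _ _ hX (by simp)]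
    push Not at hfix
    obtain ⟨x, hx, hxne⟩ := hfix
    refine F.gen_plain {g, lf x} (k := 2) Finset.card_le_two ((closure_le H).2 ?_)
      (fun _ _ _ => ⟨g, subset_closure (by simp), hgR⟩) fun X hX => ?_
    · simp [Set.insert_subset_iff, hgH, hlfH x hx]
    · have hgS : g ∈ closure ((({g, lf x} : Finset P) : Set P)) := subset_closure (by simp)
      have hx' := hmemS {g, lf x} x hx (by simp)
      have hcx' := F.cj_mem hgS hgR hx'
      have hcxU : Plane.cj x ∈ U := F.cj_mem hgH hgR hx
      have hx0 : x ≠ 0 := fun e => hxne (e ▸ (by decide : Plane.cj 0 = 0))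
      have hcx0 : Plane.cj x ≠ 0 := fun e => hx0 (by
        have : ∀ x, Plane.cj x = 0 → x = 0 := by decide
        exact this x e)
      by_cases h1 : X = 0
      · exact h1 ▸ zero_mem _
      by_cases h2 : X = x
      · exact h2 ▸ hx'
      by_cases h3 : X = Plane.cj x
      · exact h3 ▸ hcx'
      by_cases h4 : X = x + Plane.cj x
      · exact h4 ▸ add_mem hx' hcx'
      exfalso
      haveI := Fintype.ofFinite U
      have h5 : ({0, x, Plane.cj x, x + Plane.cj x, X} : Finset M2).card = 5 := by
        rw [Finset.card_insert_of_notMem, Finset.card_insert_of_notMem,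
          Finset.card_insert_of_notMem, Finset.card_insert_of_notMem, Finset.card_singleton]
        · simp [Ne.symm h4]
        · simp only [Finset.mem_insert, Finset.mem_singleton, not_or]
          exact ⟨fun e => hx0 (left_eq_add.1 (e.trans (add_comm x _))), Ne.symm h3⟩
        · simp only [Finset.mem_insert, Finset.mem_singleton, not_or]
          exact ⟨Ne.symm hxne, fun e => hcx0 (left_eq_add.1 e), Ne.symm h2⟩
        · simp only [Finset.mem_insert, Finset.mem_singleton, not_or]
          refine ⟨Ne.symm hx0, Ne.symm hcx0, fun e => hxne ?_, Ne.symm h1⟩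
          rw [eq_neg_of_add_eq_zero_right e.symm, CharTwo.neg_eq]
      have : ({0, x, Plane.cj x, x + Plane.cj x, X} : Finset M2).card ≤ Nat.card U := by
        rw [Nat.card_eq_fintype_card, ← Finset.card_univ,
          ← Finset.card_map (Function.Embedding.subtype (fun t => t ∈ U))]
        refine Finset.card_le_card fun t ht => ?_
        simp only [Finset.mem_map, Finset.mem_univ, true_and]
        refine ⟨⟨t, ?_⟩, rfl⟩
        simp only [Finset.mem_insert, Finset.mem_singleton] at ht
        rcases ht with rfl | rfl | rfl | rfl | rfl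
        exacts [zero_mem _, hx, hcxU, add_mem hx hcxU, hX]
      omega
  push Not at hU4
  rcases Plane.subgroup_cases U with h | ⟨m, hm, hmU⟩ | htop
  · omega
  · obtain ⟨hI, hN, x, z, hx, hz, hspan⟩ := Plane.invariant_hyperplane m hm fun X hX =>
      (hmU _).1 (F.cj_mem hgH hgR ((hmU X).2 hX))
    exact hgen x ((hmU x).2 hx) z ((hmU z).2 hz) (fun X hX => hspan X ((hmU X).1 hX))
      ((hmU _).2 hN) (hUU0 ((hmU _).2 hI))
  · obtain ⟨x, z, hspan⟩ := Plane.invariant_top
    exact hgen x (htop ▸ AddSubgroup.mem_top x) z (htop ▸ AddSubgroup.mem_top z)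
      (fun X _ => hspan X) (htop ▸ AddSubgroup.mem_top _) (hUU0 (htop ▸ AddSubgroup.mem_top _))

end Frame

/-- MacWilliams' four generator theorem. -/
theorem gen_four_of_no_normal_eight (hP : IsPGroup 2 P)
    (h : ∀ A : Subgroup P, A.Normal → IsMulCommutative A → (∀ a ∈ A, a ^ 2 = 1) → Nat.card A ≤ 4)
    (H : Subgroup P) : Gen H 4 := by
  obtain ⟨W, s⟩ := exists_setting hP h
  by_cases h8 : Nat.card W ≤ 8
  · exact s.gen_four_small h8 H
  · obtain ⟨F⟩ := s.exists_frame (not_le.1 h8)
    exact F.gen_four H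

end CfsgLib.SRank
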