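import Mathlib

/-!
The `2 × 2` matrices over the field with two elements, as pairs of columns, and the finite facts
about their subgroups used for sectional rank bounds.
-/

set_option autoImplicit false
set_option maxRecDepth 20000

namespace CfsgLib.SRank

/-- Vectors of the plane over the field with two elements. -/
abbrev V2 : Type := ZMod 2 × ZMod 2

/-- Matrices, as pairs of columns. -/
abbrev M2 : Type := V2 × V2

namespace Plane

/-- Application. -/
def ap (X : M2) (u : V2) : V2 := (X.1.1 * u.1 + X.2.1 * u.2, X.1.2 * u.1 + X.2.2 * u.2)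

/-- Composition. -/
def comp (X Y : M2) : M2 := (ap X Y.1, ap X Y.2)

/-- The identity. -/
def one : M2 := ((1, 0), (0, 1))

/-- The standard nilpotent map. -/
def nil : M2 := ((0, 0), (1, 0))

/-- The standard transvection. -/
def jay : M2 := ((1, 0), (1, 1))

/-- Conjugation by the transvection. -/
def cj (X : M2) : M2 := comp jay (comp X jay)

/-- The pairing with a coefficient matrix. -/
def dot (m X : M2) : ZMod 2 := m.1.1 * X.1.1 + m.1.2 * X.1.2 + m.2.1 * X.2.1 + m.2.2 * X.2.2

/-- No fixed vector: injectivity. -/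
def Inj (X : M2) : Prop := ∀ u : V2, ap X u = 0 → u = 0

instance (X : M2) : Decidable (Inj X) := inferInstanceAs (Decidable (∀ u : V2, _))

/-- `X` and `1 + X` both injective. -/
def Omega (X : M2) : Prop := Inj X ∧ Inj (one + X)

instance (X : M2) : Decidable (Omega X) := inferInstanceAs (Decidable (_ ∧ _))

/-- Membership in the span of two vectors and their conjugates. -/
def InSpan (x z X : M2) : Prop :=
  ∃ a b c d : ZMod 2, X = a • x + b • cj x + c • z + d • cj z

instance (x z X : M2) : Decidable (InSpan x z X) :=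
  inferInstanceAs (Decidable (∃ _ : ZMod 2, _))

theorem ap_add_left : ∀ X Y : M2, ∀ u : V2, ap (X + Y) u = ap X u + ap Y u := by decide

theorem ap_add_right : ∀ X : M2, ∀ u v : V2, ap X (u + v) = ap X u + ap X v := by decide

theorem ap_one : ∀ u : V2, ap one u = u := by decide

theorem ap_comp : ∀ X Y : M2, ∀ u : V2, ap (comp X Y) u = ap X (ap Y u) := by decide

theorem ap_zero_left : ∀ u : V2, ap 0 u = 0 := by decide

theorem ap_zero_right : ∀ X : M2, ap X 0 = 0 := by decide

theorem ext_ap : ∀ X Y : M2, ap X (1, 0) = ap Y (1, 0) → ap X (0, 1) = ap Y (0, 1) → X = Y := by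
  decide

theorem jay_jay : ∀ u : V2, ap jay (ap jay u) = u := by decide

theorem one_ne_zero' : one ≠ 0 := by decide

theorem inj_one_add_nil : Inj (one + nil) := by decide

theorem inj_one : Inj one := by decide

theorem inj_one_add_of_sq_zero : ∀ X : M2, comp X X = 0 → Inj (one + X) := by decide

theorem cj_nil : cj nil = nil := by decide

theorem cj_one : cj one = one := by decide

theorem surj_of_inj : ∀ X : M2, Inj X → ∀ t : V2, ∃ u : V2, ap X u = t := by decide

theorem omega_exists : ∃ X : M2, Omega X := by decide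

/-- In an `Omega`-free hyperplane. -/
theorem omega_free : ∀ m : M2, m ≠ 0 → (∀ X : M2, Omega X → dot m X ≠ 0) →
    dot m one = 0 ∧ ∃ n : M2, n ≠ 0 ∧ comp n n = 0 ∧ dot m n = 0 := by decide

set_option synthInstance.maxSize 4096 in
/-- An invariant hyperplane. -/
theorem invariant_hyperplane : ∀ m : M2, m ≠ 0 → (∀ X : M2, dot m X = 0 → dot m (cj X) = 0) →
    dot m one = 0 ∧ dot m nil = 0 ∧ ∃ x z : M2, dot m x = 0 ∧ dot m z = 0 ∧
      ∀ X : M2, dot m X = 0 → InSpan x z X := by
  decide

/-- The whole plane as a module over the transvection. -/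
theorem invariant_top : ∃ x z : M2, ∀ X : M2, InSpan x z X := by decide

theorem fixed_cases : ∀ X : M2, cj X = X → X = 0 ∨ X = one ∨ X = nil ∨ X = one + nil := by decide

/-- The hyperplanes omitting the nilpotent map. -/
theorem square_obstruction : ∀ m : M2, dot m nil ≠ 0 → ∃ X : M2, dot m X = 0 ∧
    ap (nil + X) ((1, 0) + ap (one + nil) (ap X (1, 0))) ≠ 0 := by decide

theorem omega_moves : ∀ X : M2, Omega X →
    ap (one + nil) (ap X (1, 0)) ≠ 0 ∧ ap (one + nil) (ap X (1, 0)) ≠ (1, 0) := by decide

theorem ker_nil : ∀ u : V2, ap nil u = 0 → u = 0 ∨ u = (1, 0) := by decide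

theorem nil_inv : ∀ u t : V2, ap (one + nil) u = t → u = ap (one + nil) t := by decide

theorem zsmul_cases : ∀ a : ZMod 2, a = 0 ∨ a = 1 := by decide

/-- A subgroup of the plane is small, a hyperplane, or everything. -/
theorem subgroup_cases (U : AddSubgroup M2) :
    Nat.card U ≤ 4 ∨ (∃ m : M2, m ≠ 0 ∧ ∀ X, X ∈ U ↔ dot m X = 0) ∨ U = ⊤ := by
  classical
  have h16 : Nat.card M2 = 16 := by simp [Nat.card_prod]
  have hd : Nat.card U ∣ 16 := h16 ▸ U.card_addSubgroup_dvd_card
  by_cases hle : Nat.card U ≤ 4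
  · exact Or.inl hle
  by_cases htop : U = ⊤
  · exact Or.inr (Or.inr htop)
  have hne : Nat.card U ≠ 16 := fun e => htop (AddSubgroup.eq_top_of_card_eq U (e.trans h16.symm))
  have h8 : Nat.card U = 8 := by
    have hle16 := Nat.le_of_dvd (by norm_num) hd
    interval_cases h : Nat.card U <;> first | rfl | omega
  have hidx : U.index = 2 := by
    have := U.card_mul_index
    rw [h8, h16] at this
    omega
  let f : M2 → ZMod 2 := fun X => if X ∈ U then 0 else 1
  have hf : ∀ X Y, f (X + Y) = f X + f Y := by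
    intro X Y
    have h := AddSubgroup.add_mem_iff_of_index_two hidx (a := X) (b := Y)
    simp only [f]
    by_cases hX : X ∈ U <;> by_cases hY : Y ∈ U <;> simp [h, hX, hY] <;> decide
  have hf0 : f 0 = 0 := by simp [f, zero_mem]
  refine Or.inr (Or.inl ⟨((f ((1, 0), (0, 0)), f ((0, 1), (0, 0))),
    (f ((0, 0), (1, 0)), f ((0, 0), (0, 1)))), ?_⟩)
  have hdot : ∀ X : M2, f X = dot ((f ((1, 0), (0, 0)), f ((0, 1), (0, 0))),
      (f ((0, 0), (1, 0)), f ((0, 0), (0, 1)))) X := by
    rintro ⟨⟨a, b⟩, ⟨c, d⟩⟩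
    have e : (((a, b), (c, d)) : M2) = ((a, 0), (0, 0)) + ((0, b), (0, 0)) + ((0, 0), (c, 0)) +
        ((0, 0), (0, d)) := by simp
    rw [e, hf, hf, hf, ← e]
    have hz1 : (((0, 0), (0, 0)) : M2) = 0 := rfl
    rcases zsmul_cases a with rfl | rfl <;> rcases zsmul_cases b with rfl | rfl <;>
      rcases zsmul_cases c with rfl | rfl <;> rcases zsmul_cases d with rfl | rfl <;>
      simp [dot, hz1, hf0]
  refine ⟨fun h0 => htop ?_, fun X => ?_⟩
  · refine eq_top_iff.2 fun X _ => ?_
    have := hdot X
    rw [h0] at this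
    by_contra hX
    simp [f, hX, dot] at this
  · rw [← hdot X]
    simp [f]

end Plane

end CfsgLib.SRank
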