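import Cfsg.Agent.Lib.StructC.ExtraspecialCount
import Cfsg.Agent.Lib.Coprime.SymplecticType

/-!
An extraspecial group of order `32` with `12` square roots of one is a central product `Q₈ * D₈`.
-/

set_option autoImplicit false
set_option linter.style.haveILetI false

namespace CfsgLib.SRank.QuatDihedral

open Subgroup CfsgLib.Transfer CfsgLib.StructC.EsCount
open scoped commutatorElement

universe u

variable {E : Type u} [Group E] [Finite E]

theorem extraspecial_quaternion : Cfsg.IsExtraspecial 2 (QuaternionGroup 2) := by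
  haveI : Fact (Nat.Prime 2) := ⟨Nat.prime_two⟩
  refine Coprime.isExtraspecial_of_central ?_ (center (QuaternionGroup 2)) ?_ rfl ?_ ?_ ?_
  · exact IsPGroup.of_card (n := 3) (by rw [Nat.card_eq_fintype_card, QuaternionGroup.card]; rfl)
  · rw [Nat.card_eq_fintype_card]; decide
  · simp only [mem_center_iff, commutatorElement_def]; decide
  · simp only [mem_center_iff]; decide
  · intro h
    have := congrArg (fun H : Subgroup (QuaternionGroup 2) => QuaternionGroup.a (1 : ZMod (2 * 2)) ∈ H) h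
    simp only [mem_center_iff, mem_top, eq_iff_iff, iff_true] at this
    revert this
    decide

theorem extraspecial_dihedral : Cfsg.IsExtraspecial 2 (DihedralGroup 4) := by
  haveI : Fact (Nat.Prime 2) := ⟨Nat.prime_two⟩
  refine Coprime.isExtraspecial_of_central ?_ (center (DihedralGroup 4)) ?_ rfl ?_ ?_ ?_
  · exact IsPGroup.of_card (n := 3) (by rw [DihedralGroup.nat_card]; norm_num)
  · rw [Nat.card_eq_fintype_card]; decide
  · simp only [mem_center_iff, commutatorElement_def]; decide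
  · simp only [mem_center_iff]; decide
  · intro h
    have := congrArg (fun H : Subgroup (DihedralGroup 4) => DihedralGroup.r (1 : ZMod 4) ∈ H) h
    simp only [mem_center_iff, mem_top, eq_iff_iff, iff_true] at this
    revert this
    decide

theorem invCount_top {F : Type*} [Group F] [Finite F] :
    invCount (⊤ : Subgroup F) = Nat.card {x : F // x ^ 2 = 1} :=
  Nat.card_congr ((Equiv.Set.univ F).subtypeEquiv fun _ => Iff.rfl)

theorem iso_quaternion (h : Cfsg.IsExtraspecial 2 E) {H : Subgroup E} (hH : IsEsGood H)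
    (h8 : Nat.card H = 8) (hI : invCount H = 2) : Nonempty (H ≃* QuaternionGroup 2) := by
  have hK : invCount (⊤ : Subgroup (QuaternionGroup 2)) = 2 := by
    rw [invCount_top, Nat.card_eq_fintype_card]; decide
  obtain ⟨e⟩ := iso_of_invCount h extraspecial_quaternion 8 H ⊤ hH isEsGood_top h8
    (by rw [card_top, Nat.card_eq_fintype_card, QuaternionGroup.card]) (hI.trans hK.symm)
  exact ⟨e.trans topEquiv⟩

theorem iso_dihedral (h : Cfsg.IsExtraspecial 2 E) {H : Subgroup E} (hH : IsEsGood H)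
    (h8 : Nat.card H = 8) (hI : invCount H = 6) : Nonempty (H ≃* DihedralGroup 4) := by
  have hK : invCount (⊤ : Subgroup (DihedralGroup 4)) = 6 := by
    rw [invCount_top, Nat.card_eq_fintype_card]; decide
  obtain ⟨e⟩ := iso_of_invCount h extraspecial_dihedral 8 H ⊤ hH isEsGood_top h8
    (by rw [card_top, DihedralGroup.nat_card]) (hI.trans hK.symm)
  exact ⟨e.trans topEquiv⟩

/-- The decomposition. -/
theorem exists_factors (h : Cfsg.IsExtraspecial 2 E) (h32 : Nat.card E = 32)
    (hI : Nat.card {x : E // x ^ 2 = 1} = 12) :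
    ∃ A B : Subgroup E, Nonempty (A ≃* QuaternionGroup 2) ∧ Nonempty (B ≃* DihedralGroup 4) ∧
      (∀ a ∈ A, ∀ b ∈ B, a * b = b * a) ∧ A ⊔ B = ⊤ ∧ A ⊓ B = center E := by
  haveI : Fact (Nat.Prime 2) := ⟨Nat.prime_two⟩
  have hT : IsEsGood (⊤ : Subgroup E) := isEsGood_top
  have hT32 : Nat.card (⊤ : Subgroup E) = 32 := by rw [card_top, h32]
  have hIT : invCount (⊤ : Subgroup E) = 12 := by rw [invCount_top, hI]
  obtain ⟨b, x, y, P, -⟩ := es_two_exists_pair h hT (by omega)
  obtain ⟨g1, -, -⟩ := hT.split h P.1 P.2.1 P.2.2.1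
  obtain ⟨c1, -⟩ := esGood_card_lt h hT P.1 P.2.1 P.2.2.1
  set H1 := (⊤ : Subgroup E) ⊓ centralizer ({x, y} : Set E) with hH1
  have h18 : Nat.card H1 = 8 := by omega
  obtain ⟨b', x', y', P', -⟩ := es_two_exists_pair h g1 (by omega)
  obtain ⟨g0, hdec', -⟩ := g1.split h P'.1 P'.2.1 P'.2.2.1
  obtain ⟨c0, -⟩ := esGood_card_lt h g1 P'.1 P'.2.1 P'.2.2.1
  have PT : EsPair (⊤ : Subgroup E) b' x' y' := ⟨mem_top _, mem_top _, P'.2.2⟩
  obtain ⟨g2, hdec2, -⟩ := hT.split h PT.1 PT.2.1 PT.2.2.1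
  obtain ⟨c2, -⟩ := esGood_card_lt h hT PT.1 PT.2.1 PT.2.2.1
  set H2 := (⊤ : Subgroup E) ⊓ centralizer ({x', y'} : Set E) with hH2
  set H0 := H1 ⊓ centralizer ({x', y'} : Set E) with hH0
  have h28 : Nat.card H2 = 8 := by omega
  have h02 : Nat.card H0 = 2 := by omega
  have h0Z : H0 = center E := (eq_of_le_of_card_ge g0.1 (by rw [h02, h.2])).symm
  have hcomm : ∀ a ∈ H1, ∀ d ∈ H2, a * d = d * a := by
    intro a ha d hd
    obtain ⟨i, j, g', hg', rfl⟩ := hdec' a ha
    have hdx : Commute x' d := mem_centralizer_iff.1 hd.2 x' (Or.inl rfl)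
    have hdy : Commute y' d := mem_centralizer_iff.1 hd.2 y' (Or.inr rfl)
    have hdg : Commute g' d := (mem_center_iff.1 (h0Z.le hg') d).symm
    exact (((hdx.pow_left i).mul_left (hdy.pow_left j)).mul_left hdg).eq
  have hinf : H1 ⊓ H2 = center E := by
    rw [← h0Z, hH2, top_inf_eq]
  have hsup : H1 ⊔ H2 = ⊤ := by
    refine eq_top_iff.2 fun g _ => ?_
    obtain ⟨i, j, g', hg', rfl⟩ := hdec2 g (mem_top g)
    exact mul_mem_sup (mul_mem (pow_mem P'.1 i) (pow_mem P'.2.1 j)) hg'
  have s0 := invCount_step h g1 P'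
  have s2 := invCount_step h hT PT
  rw [invCount_two h g0 h02, h02] at s0
  rw [← hH2, hIT, h28] at s2
  cases b' <;> simp at s0 s2
  · obtain ⟨eQ⟩ := iso_quaternion h g1 h18 (by omega)
    obtain ⟨eD⟩ := iso_dihedral h g2 h28 (by omega)
    exact ⟨H1, H2, ⟨eQ⟩, ⟨eD⟩, hcomm, hsup, hinf⟩
  · obtain ⟨eD⟩ := iso_dihedral h g1 h18 (by omega)
    obtain ⟨eQ⟩ := iso_quaternion h g2 h28 (by omega)
    exact ⟨H2, H1, ⟨eQ⟩, ⟨eD⟩, fun a ha d hd => (hcomm d hd a ha).symm, by rw [sup_comm, hsup],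
      by rw [inf_comm, hinf]⟩

end CfsgLib.SRank.QuatDihedral
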