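import Cfsg.Agent.Lib.SRank.SelfCentral

/-!
A central product of two quaternion groups of order `8` containing its centralizer in a `2`-group
yields a self-centralizing elementary abelian subgroup of order `8`.
-/

set_option autoImplicit false
set_option linter.style.haveILetI false

namespace CfsgLib.SRank

namespace QuatPair

/-- The quaternion group of order `8`. -/
abbrev Q8 := QuaternionGroup 2

/-- The pairs. -/
abbrev M := Q8 × Q8

/-- The central involution. -/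
def zz : Q8 := QuaternionGroup.a 2

/-- First generator. -/
def gi : Q8 := QuaternionGroup.a 1

/-- Second generator. -/
def gj : Q8 := QuaternionGroup.xa 0

/-- The kernel of the map to the central product. -/
def K (u : M) : Prop := u = 1 ∨ u = (zz, zz)

/-- Pairs of central elements. -/
def Z (u : M) : Prop := (u.1 = 1 ∨ u.1 = zz) ∧ (u.2 = 1 ∨ u.2 = zz)

/-- The graph of `σ` up to sign. -/
def Diag (σ : Q8 → Q8) (u : M) : Prop := u.2 = σ u.1 ∨ u.2 = σ u.1 * zz

instance (u : M) : Decidable (K u) := by unfold K; infer_instance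
instance (u : M) : Decidable (Z u) := by unfold Z; infer_instance
instance (σ : Q8 → Q8) (u : M) : Decidable (Diag σ u) := by unfold Diag; infer_instance

/-- The commutator. -/
def cm (u v : M) : M := u * v * u⁻¹ * v⁻¹

/-- The cyclic automorphism `i ↦ j ↦ k`. -/
def tau : Q8 → Q8
  | QuaternionGroup.a e => if e = 0 then 1 else if e = 2 then zz else if e = 1 then gj else gj * zz
  | QuaternionGroup.xa e =>
      if e = 0 then gi * gj else if e = 2 then gi * gj * zz else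
        if QuaternionGroup.xa e = gi * gj then gi else gi * zz

theorem tau_mul : ∀ x y : Q8, tau (x * y) = tau x * tau y := by decide

theorem zz_comm : ∀ x : Q8, zz * x = x * zz := by decide

theorem zz_ne : zz ≠ 1 := by decide

theorem central_cases : ∀ x : Q8, (∀ y : Q8, x * y = y * x) → x = 1 ∨ x = zz := by decide

theorem gens : ∀ g : Q8, g = 1 ∨ g = gi ∨ g = gj ∨ g = gi * gj ∨ g = gi * gi ∨
    g = gi * gi * gi ∨ g = gi * gi * gj ∨ g = gi * gi * (gi * gj) := by decide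

theorem tau_moves_i : ∀ u : M, Z u → ¬ K ((gi, 1)⁻¹ * ((tau gi, 1) * u)) := by decide

theorem tau_moves_i' : ∀ u : M, Z u → ¬ K ((gi, 1)⁻¹ * ((tau (tau gi), 1) * u)) := by decide

theorem tau_cube : tau (tau (tau gi)) = gi := by decide

/-- What is used about `σ`. -/
structure Good (σ : Q8 → Q8) : Prop where
  mul : ∀ x y, σ (x * y) = σ x * σ y
  zz_map : σ zz = zz
  surj : ∀ y, ∃ x, σ x = y
  sq : ∀ x : M, Diag σ x → K (x * x)
  card : (Finset.univ.filter fun x => Diag σ x).card = 16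
  cent : ∀ x : M, K (cm x (gi, σ gi)) → K (cm x (gj, σ gj)) → Diag σ x
  img : ∀ g : Q8, (g = gi ∨ g = gj) → ∀ m : M, Diag σ ((g, 1)⁻¹ * m) →
    K ((m * m)⁻¹ * ((g, 1) * (g, 1))) → K ((cm m (gi, σ gi))⁻¹ * cm (g, 1) (gi, σ gi)) →
    K ((cm m (gj, σ gj))⁻¹ * cm (g, 1) (gj, σ gj)) →
      Z ((g, 1)⁻¹ * m) ∨ Z ((1, σ g)⁻¹ * m)
  signs : ∀ u v : M, Z u → Z v → ∃ x : M, Diag σ x ∧ K ((x * (gi, 1) * x⁻¹)⁻¹ * ((gi, 1) * u)) ∧
    K ((x * (gj, 1) * x⁻¹)⁻¹ * ((gj, 1) * v))

set_option maxRecDepth 20000 in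
theorem good_id : Good id where
  mul := fun _ _ => rfl
  zz_map := rfl
  surj := fun y => ⟨y, rfl⟩
  sq := by decide
  card := by decide
  cent := by decide
  img := by decide
  signs := by decide

set_option maxRecDepth 20000 in
theorem good_tau : Good tau where
  mul := tau_mul
  zz_map := by decide
  surj := by decide
  sq := by decide
  card := by decide
  cent := by decide
  img := by decide
  signs := by decide

set_option maxRecDepth 20000 in
theorem mixed : ∀ u v : M, Z u → Z v → ∀ σ : Q8,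
    ¬ K ((cm ((gi, 1) * u) ((1, σ) * v))⁻¹ * cm (gi, 1) (gj, 1)) ∧
    ¬ K ((cm ((1, σ) * u) ((gj, 1) * v))⁻¹ * cm (gi, 1) (gj, 1)) := by decide

set_option maxRecDepth 20000 in
theorem cm_Z : ∀ x y : Q8, x * y * x⁻¹ * y⁻¹ = 1 ∨ x * y * x⁻¹ * y⁻¹ = zz := by decide

theorem zz_sq : zz * zz = 1 := by decide

theorem Z_mul {u v : M} (hu : Z u) (hv : Z v) : Z (u * v) := by
  obtain ⟨a, b⟩ := u
  obtain ⟨c, d⟩ := v
  rcases hu with ⟨rfl | rfl, rfl | rfl⟩ <;> rcases hv with ⟨rfl | rfl, rfl | rfl⟩ <;>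
    simp [Z, Prod.mk_mul_mk, zz_sq]

theorem Z_inv {u : M} (hu : Z u) : Z u⁻¹ := by
  obtain ⟨a, b⟩ := u
  have h : zz⁻¹ = zz := inv_eq_of_mul_eq_one_right zz_sq
  rcases hu with ⟨rfl | rfl, rfl | rfl⟩ <;> simp [Z, h]

theorem Z_comm {u : M} (hu : Z u) (m : M) : u * m = m * u := by
  obtain ⟨a, b⟩ := u
  obtain ⟨x, y⟩ := m
  rcases hu with ⟨rfl | rfl, rfl | rfl⟩ <;> simp [Prod.mk_mul_mk, zz_comm]

theorem Z_cm (u v : M) : Z (cm u v) := ⟨cm_Z u.1 v.1, cm_Z u.2 v.2⟩

theorem Z_sq : ∀ g : Q8, (g = gi ∨ g = gj) → Z ((g, 1) * (g, 1)) := by decide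

namespace Good

variable {σ : Q8 → Q8} (h : Good σ)
include h

theorem map_one : σ 1 = 1 := by
  have := h.mul 1 1
  rw [mul_one] at this
  exact left_eq_mul.1 this

/-- The subgroup `Diag σ`. -/
def diag : Subgroup M where
  carrier := {u | Diag σ u}
  one_mem' := Or.inl h.map_one.symm
  mul_mem' := fun {u v} hu hv => by
    show Diag σ (u * v)
    rw [Diag, Prod.fst_mul, Prod.snd_mul, h.mul]
    rcases hu with hu | hu <;> rcases hv with hv | hv <;> rw [hu, hv]
    · exact Or.inl rfl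
    · exact Or.inr (mul_assoc _ _ _).symm
    · exact Or.inr (by rw [mul_assoc, zz_comm, mul_assoc])
    · refine Or.inl ?_
      rw [mul_assoc, ← mul_assoc zz, zz_comm, mul_assoc (σ v.1), zz_sq, mul_one]
  inv_mem' := fun {u} hu => by
    have hi : σ u.1⁻¹ = (σ u.1)⁻¹ := eq_inv_of_mul_eq_one_left (by
      rw [← h.mul, inv_mul_cancel, h.map_one])
    show Diag σ u⁻¹
    rw [Diag, Prod.fst_inv, Prod.snd_inv, hi]
    rcases hu with hu | hu <;> rw [hu]
    · exact Or.inl rfl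
    · refine Or.inr ?_
      rw [mul_inv_rev, inv_eq_of_mul_eq_one_right zz_sq, zz_comm]

theorem Z_le {u : M} (hu : Z u) : u ∈ h.diag := by
  obtain ⟨a, b⟩ := u
  show Diag σ (a, b)
  rcases hu with ⟨rfl | rfl, rfl | rfl⟩ <;> simp [Diag, h.map_one, h.zz_map, zz_sq]

theorem conj_mem {u : M} (hu : u ∈ h.diag) (m : M) : m * u * m⁻¹ ∈ h.diag := by
  rw [show m * u * m⁻¹ = cm m u * u by simp only [cm]; group]
  exact mul_mem (h.Z_le (Z_cm m u)) hu

theorem gen_mem (g : Q8) : ((g, σ g) : M) ∈ h.diag := Or.inl rfl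

end Good

open Subgroup

variable {S : Type*} [Group S] [Finite S]

/-- The setting: `f` has kernel `K` and its image contains its centralizer. -/
structure Emb (f : M →* S) : Prop where
  hS : IsPGroup 2 S
  ker : ∀ u, f u = 1 ↔ K u
  cent : centralizer (f.range : Set S) ≤ f.range

namespace Emb

variable {f : M →* S} (e : Emb f)
include e

theorem feq {u v : M} : f u = f v ↔ K (u⁻¹ * v) := by
  rw [← e.ker, map_mul, map_inv, inv_mul_eq_one]

theorem card_diag {σ : Q8 → Q8} (h : Good σ) : Nat.card (h.diag.map f) = 8 := by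
  have h1 := (f.comp h.diag.subtype).ker.card_mul_index
  rw [index_ker, MonoidHom.range_comp, range_subtype] at h1
  have h16 : Nat.card h.diag = 16 := by
    rw [← h.card, ← Fintype.card_subtype, ← Nat.card_eq_fintype_card]
    rfl
  have h2 : Nat.card (f.comp h.diag.subtype).ker = 2 := by
    have hK : Nat.card {u : M // K u} = 2 := by
      rw [Nat.card_eq_fintype_card, Fintype.card_subtype]
      decide
    refine (Nat.card_congr (⟨fun u => ⟨u.1.1, (e.ker _).1 (MonoidHom.mem_ker.1 u.2)⟩, fun u =>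
      ⟨⟨u.1, h.Z_le ?_⟩, MonoidHom.mem_ker.2 ((e.ker _).2 u.2)⟩, fun u => rfl, fun u => rfl⟩ :
        (f.comp h.diag.subtype).ker ≃ {u : M // K u})).trans hK
    rcases u.2 with h' | h' <;> rw [h'] <;> simp [Z]
  rw [h16, h2] at h1
  omega

theorem exp2_diag {σ : Q8 → Q8} (h : Good σ) : Exp2 (h.diag.map f) := by
  rintro _ ⟨u, hu, rfl⟩
  rw [← map_mul, e.ker]
  exact h.sq u hu

/-- Either the diagonal is self-centralizing or some element interchanges the factors. -/
theorem alternative {σ : Q8 → Q8} (h : Good σ) :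
    centralizer ((h.diag.map f : Subgroup S) : Set S) = h.diag.map f ∨
      ∃ c : S, (∀ u ∈ h.diag, c * f u * c⁻¹ = f u) ∧
        ∀ g : Q8, ∃ u, Z u ∧ c * f (g, 1) * c⁻¹ = f ((1, σ g) * u) := by
  classical
  haveI : Fact (Nat.Prime 2) := ⟨Nat.prime_two⟩
  set A := h.diag.map f with hA
  set C := centralizer (A : Set S) with hC
  have hAC : A ≤ C := (e.exp2_diag h).le_centralizer
  have hCQ : ∀ x ∈ C, x ∈ f.range → x ∈ A := by
    rintro _ hx ⟨u, rfl⟩
    have hk : ∀ g, K (cm u (g, σ g)) := fun g => by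
      have hc := mem_centralizer_iff.1 hx _ (mem_map_of_mem f (h.gen_mem g))
      rw [← e.ker, cm, map_mul, map_mul, map_mul, map_inv, map_inv, ← hc]
      group
    exact mem_map_of_mem f (h.cent u (hk gi) (hk gj))
  by_cases hle : C ≤ A
  · exact Or.inl (le_antisymm hle hAC)
  right
  -- an element of `C(A)` whose image is central in the normalizer
  set N := normalizer (A : Set S)
  have hfN : ∀ m, f m ∈ N := fun m => by
    refine mem_normalizer_iff.2 fun x => ⟨?_, fun hx => ?_⟩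
    · rintro ⟨u, hu, rfl⟩
      exact ⟨m * u * m⁻¹, h.conj_mem hu m, by simp⟩
    · obtain ⟨u, hu, hux⟩ := hx
      refine ⟨m⁻¹ * u * m, by simpa using h.conj_mem hu m⁻¹, ?_⟩
      rw [map_mul, map_mul, map_inv, hux]
      group
  have hCN : C ≤ N := centralizer_le_normalizer _
  haveI hA' : (A.subgroupOf N).Normal := normal_in_normalizer
  haveI hC' : (C.subgroupOf N).Normal := ⟨fun x hx n => by
    rw [mem_subgroupOf] at hx ⊢
    refine mem_centralizer_iff.2 fun y hy => ?_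
    have hy' : (n : S)⁻¹ * y * n ∈ A := by simpa using (mem_normalizer_iff.1 (inv_mem n.2) y).1 hy
    have hc := mem_centralizer_iff.1 hx _ hy'
    push_cast
    calc y * ((n : S) * x * (n : S)⁻¹) = n * ((n : S)⁻¹ * y * n * x) * (n : S)⁻¹ := by group
      _ = n * (x * ((n : S)⁻¹ * y * n)) * (n : S)⁻¹ := by rw [hc]
      _ = _ := by group⟩
  obtain ⟨x, hx, hxA⟩ := SetLike.not_le_iff_exists.1 hle
  have hlt : A.subgroupOf N < C.subgroupOf N :=
    lt_of_le_not_ge (fun y hy => hAC hy) fun h' => hxA (h' (x := ⟨x, hCN hx⟩) hx)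
  obtain ⟨⟨c, hcN⟩, hcC, hcA, hcg⟩ :=
    CfsgLib.OddLocal.exists_central_mod (e.hS.to_subgroup N) _ _ hlt
  rw [mem_subgroupOf] at hcC hcA
  have hfix : ∀ u ∈ h.diag, c * f u * c⁻¹ = f u := fun u hu =>
    conj_eq_iff.2 (mem_centralizer_iff.1 hcC _ (mem_map_of_mem f hu)).symm
  have hZfix : ∀ u, Z u → c * f u * c⁻¹ = f u := fun u hu => hfix u (h.Z_le hu)
  have himg : ∀ m, ∃ m', Diag σ (m⁻¹ * m') ∧ c * f m * c⁻¹ = f m' := by
    intro m
    obtain ⟨u, hu, hu'⟩ := (mem_subgroupOf.1 (hcg ⟨f m⁻¹, hfN m⁻¹⟩) :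
      f m⁻¹ * c * (f m⁻¹)⁻¹ * c⁻¹ ∈ A)
    refine ⟨m * u, by rw [inv_mul_cancel_left]; exact hu, ?_⟩
    have hu'' : f u = f m⁻¹ * c * (f m⁻¹)⁻¹ * c⁻¹ := hu'
    rw [map_mul, hu'', map_inv]
    group
  refine ⟨c, hfix, ?_⟩
  have hcase : ∀ g, (g = gi ∨ g = gj) → (∃ u, Z u ∧ c * f (g, 1) * c⁻¹ = f ((g, 1) * u)) ∨
      ∃ u, Z u ∧ c * f (g, 1) * c⁻¹ = f ((1, σ g) * u) := by
    intro g hg
    obtain ⟨m', hm', hcm⟩ := himg (g, 1)
    have hk2 : K ((m' * m')⁻¹ * ((g, 1) * (g, 1))) := by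
      rw [← e.feq, map_mul, ← hcm,
        show c * f (g, 1) * c⁻¹ * (c * f (g, 1) * c⁻¹) = c * (f (g, 1) * f (g, 1)) * c⁻¹ by group,
        ← map_mul, hZfix _ (Z_sq g hg)]
    have hk3 : ∀ t, K ((cm m' (t, σ t))⁻¹ * cm (g, 1) (t, σ t)) := fun t => by
      rw [← e.feq]
      have h2 := hfix _ (h.gen_mem t)
      calc f (cm m' (t, σ t))
          = c * f (g, 1) * c⁻¹ * (c * f (t, σ t) * c⁻¹) * (c * f (g, 1) * c⁻¹)⁻¹ *
              (c * f (t, σ t) * c⁻¹)⁻¹ := by rw [hcm, h2, cm]; simp only [map_mul, map_inv]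
        _ = c * f (cm (g, 1) (t, σ t)) * c⁻¹ := by
            simp only [cm, map_mul, map_inv]; group
        _ = f (cm (g, 1) (t, σ t)) := hZfix _ (Z_cm _ _)
    rcases h.img g hg m' hm' hk2 (hk3 gi) (hk3 gj) with hz | hz
    · exact Or.inl ⟨_, hz, by rw [hcm, mul_inv_cancel_left]⟩
    · exact Or.inr ⟨_, hz, by rw [hcm, mul_inv_cancel_left]⟩
  have hcomm : ∀ m n m' n' : M, c * f m * c⁻¹ = f m' → c * f n * c⁻¹ = f n' →
      K ((cm m' n')⁻¹ * cm m n) := fun m n m' n' hm hn => by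
    rw [← e.feq]
    calc f (cm m' n') = c * f (cm m n) * c⁻¹ := by
          simp only [cm, map_mul, map_inv]; rw [← hm, ← hn]; group
      _ = f (cm m n) := hZfix _ (Z_cm _ _)
  rcases hcase gi (Or.inl rfl) with ⟨u, hu, hcu⟩ | ⟨u, hu, hcu⟩ <;>
    rcases hcase gj (Or.inr rfl) with ⟨v, hv, hcv⟩ | ⟨v, hv, hcv⟩
  · exfalso
    obtain ⟨x, hx, hx1, hx2⟩ := h.signs u v hu hv
    have hxA : f x ∈ A := mem_map_of_mem f hx
    let T := (centralizer ({(f x)⁻¹ * c} : Set S)).comap f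
    have hT : ∀ m, c * f m * c⁻¹ = f x * f m * (f x)⁻¹ → m ∈ T := fun m hm => by
      refine mem_comap.2 (mem_centralizer_singleton_iff.2 ?_)
      calc f m * ((f x)⁻¹ * c) = (f x)⁻¹ * (f x * f m * (f x)⁻¹) * c := by group
        _ = (f x)⁻¹ * (c * f m * c⁻¹) * c := by rw [hm]
        _ = _ := by group
    have hTi : ((gi, 1) : M) ∈ T := hT _ (by
      rw [hcu, ← map_inv, ← map_mul, ← map_mul, e.feq.2 hx1])
    have hTj : ((gj, 1) : M) ∈ T := hT _ (by
      rw [hcv, ← map_inv, ← map_mul, ← map_mul, e.feq.2 hx2])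
    have hTD : h.diag ≤ T := fun m hm => hT m (by
      rw [hfix m hm, (e.exp2_diag h).comm hxA (mem_map_of_mem f hm), mul_inv_cancel_right])
    have hTL : ∀ g : Q8, ((g, 1) : M) ∈ T := by
      let φ : Q8 →* M := MonoidHom.inl Q8 Q8
      have hi : gi ∈ T.comap φ := hTi
      have hj : gj ∈ T.comap φ := hTj
      intro g
      show g ∈ T.comap φ
      rcases gens g with rfl | rfl | rfl | rfl | rfl | rfl | rfl | rfl
      exacts [one_mem _, hi, hj, mul_mem hi hj, mul_mem hi hi, mul_mem (mul_mem hi hi) hi,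
        mul_mem (mul_mem hi hi) hj, mul_mem (mul_mem hi hi) (mul_mem hi hj)]
    have hall : ∀ m : M, m ∈ T := by
      rintro ⟨p, q⟩
      obtain ⟨p', rfl⟩ := h.surj q
      have := mul_mem (hTL (p * p'⁻¹)) (hTD (h.gen_mem p'))
      simpa using this
    have hin : (f x)⁻¹ * c ∈ f.range := e.cent (mem_centralizer_iff.2 (by
      rintro _ ⟨m, rfl⟩
      exact mem_centralizer_singleton_iff.1 (mem_comap.1 (hall m))))
    exact hcA (hCQ c hcC (by simpa using mul_mem (⟨x, rfl⟩ : f x ∈ f.range) hin))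
  · exact absurd (hcomm _ _ _ _ hcu hcv) (mixed u v hu hv (σ gj)).1
  · exact absurd (hcomm _ _ _ _ hcu hcv) (mixed u v hu hv (σ gi)).2
  have hstep : ∀ a b : Q8, (∃ u, Z u ∧ c * f (a, 1) * c⁻¹ = f ((1, σ a) * u)) →
      (∃ u, Z u ∧ c * f (b, 1) * c⁻¹ = f ((1, σ b) * u)) →
      ∃ u, Z u ∧ c * f (a * b, 1) * c⁻¹ = f ((1, σ (a * b)) * u) := by
    rintro a b ⟨u, hu, hcu⟩ ⟨v, hv, hcv⟩
    refine ⟨u * v, Z_mul hu hv, ?_⟩
    rw [show ((a * b, 1) : M) = (a, 1) * (b, 1) by simp, map_mul,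
      show c * (f (a, 1) * f (b, 1)) * c⁻¹ = c * f (a, 1) * c⁻¹ * (c * f (b, 1) * c⁻¹) by group,
      hcu, hcv, ← map_mul, mul_assoc (1, σ a), ← mul_assoc u, Z_comm hu, mul_assoc,
      ← mul_assoc (1, σ a), show ((1, σ a) : M) * (1, σ b) = (1, σ a * σ b) by simp, h.mul]
  intro g
  rcases gens g with rfl | rfl | rfl | rfl | rfl | rfl | rfl | rfl
  · exact ⟨1, by simp [Z], by simp [h.map_one, show ((1, 1) : M) = 1 from rfl]⟩
  · exact ⟨u, hu, hcu⟩
  · exact ⟨v, hv, hcv⟩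
  all_goals
    have hi := (⟨u, hu, hcu⟩ : ∃ u, Z u ∧ c * f (gi, 1) * c⁻¹ = f ((1, σ gi) * u))
    have hj := (⟨v, hv, hcv⟩ : ∃ u, Z u ∧ c * f (gj, 1) * c⁻¹ = f ((1, σ gj) * u))
    first
      | exact hstep _ _ hi hj
      | exact hstep _ _ hi hi
      | exact hstep _ _ (hstep _ _ hi hi) hi
      | exact hstep _ _ (hstep _ _ hi hi) hj
      | exact hstep _ _ (hstep _ _ hi hi) (hstep _ _ hi hj)

/-- Some diagonal is self-centralizing. -/
theorem exists_selfCentral :
    ∃ A : Subgroup S, Exp2 A ∧ Nat.card A = 8 ∧ centralizer (A : Set S) = A := by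
  rcases e.alternative good_id with h1 | ⟨c', hfix', hsw'⟩
  · exact ⟨_, e.exp2_diag good_id, e.card_diag good_id, h1⟩
  rcases e.alternative good_tau with h1 | ⟨c, hfix, hsw⟩
  · exact ⟨_, e.exp2_diag good_tau, e.card_diag good_tau, h1⟩
  exfalso
  set d := c' * c
  have hstep : ∀ g : Q8, ∀ u, Z u → ∃ v, Z v ∧ d * f ((g, 1) * u) * d⁻¹ = f ((tau g, 1) * v) := by
    intro g u hu
    obtain ⟨v, hv, hcv⟩ := hsw g
    obtain ⟨w, hw, hcw⟩ := hsw' (tau g)
    refine ⟨w⁻¹ * (v * u), Z_mul (Z_inv hw) (Z_mul hv hu), ?_⟩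
    have h1 : c' * f (1, tau g) * c'⁻¹ = f ((tau g, 1) * w⁻¹) := by
      calc c' * f (1, tau g) * c'⁻¹
          = c' * f ((tau g, 1)⁻¹ * (tau g, id (tau g))) * c'⁻¹ := by
            rw [show ((1, tau g) : M) = (tau g, 1)⁻¹ * (tau g, id (tau g)) by simp]
        _ = (c' * f (tau g, 1) * c'⁻¹)⁻¹ * (c' * f (tau g, id (tau g)) * c'⁻¹) := by
            rw [map_mul, map_inv]; group
        _ = f (((1, id (tau g)) * w)⁻¹ * (tau g, id (tau g))) := by
            rw [hcw, hfix' _ (good_id.gen_mem _), ← map_inv, ← map_mul]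
        _ = _ := by
            rw [mul_inv_rev, mul_assoc, show ((1, id (tau g)) : M)⁻¹ * (tau g, id (tau g)) =
              (tau g, 1) by simp, Z_comm (Z_inv hw)]
    calc d * f ((g, 1) * u) * d⁻¹
        = c' * (c * f (g, 1) * c⁻¹ * (c * f u * c⁻¹)) * c'⁻¹ := by
          simp only [d, map_mul]; group
      _ = c' * (f ((1, tau g) * v) * f u) * c'⁻¹ := by rw [hcv, hfix _ (good_tau.Z_le hu)]
      _ = c' * f (1, tau g) * c'⁻¹ * (c' * f (v * u) * c'⁻¹) := by
          simp only [map_mul]; group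
      _ = _ := by
          rw [h1, hfix' _ (good_id.Z_le (Z_mul hv hu)), ← map_mul, mul_assoc]
  have hiter : ∀ n : ℕ, ∃ v, Z v ∧ d ^ n * f (gi, 1) * (d ^ n)⁻¹ = f ((tau^[n] gi, 1) * v) := by
    intro n
    induction n with
    | zero => exact ⟨1, by simp [Z], by simp⟩
    | succ n ih =>
      obtain ⟨v, hv, hv'⟩ := ih
      obtain ⟨w, hw, hw'⟩ := hstep (tau^[n] gi) v hv
      refine ⟨w, hw, ?_⟩
      rw [Function.iterate_succ_apply', ← hw', ← hv', pow_succ']
      group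
  obtain ⟨m, hm⟩ := IsPGroup.iff_orderOf.1 e.hS d
  obtain ⟨v, hv, hv'⟩ := hiter (2 ^ m)
  rw [← hm, pow_orderOf_eq_one, one_mul, inv_one, mul_one, hm, e.feq] at hv'
  have hper : Function.IsPeriodicPt tau 3 gi := tau_cube
  rw [← hper.iterate_mod_apply] at hv'
  have h3 : 2 ^ m % 3 = 1 ∨ 2 ^ m % 3 = 2 := by
    have h0 : ¬ 3 ∣ 2 ^ m := fun h => by
      have := (Nat.Prime.dvd_of_dvd_pow (by norm_num) h)
      omega
    omega
  rcases h3 with h3 | h3 <;> rw [h3] at hv'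
  · exact tau_moves_i v hv hv'
  · exact tau_moves_i' v hv hv'

end Emb

/-- Two commuting quaternion groups generating a subgroup of order `32` which contains its
centralizer. -/
theorem exists_emb (hS : IsPGroup 2 S) (Q Q₁ Q₂ : Subgroup S) (e₁ : Q₁ ≃* QuaternionGroup 2)
    (e₂ : Q₂ ≃* QuaternionGroup 2) (hcomm : ∀ a ∈ Q₁, ∀ b ∈ Q₂, a * b = b * a) (hQ : Q₁ ⊔ Q₂ = Q)
    (hQ32 : Nat.card Q = 32) (hC : centralizer (Q : Set S) ≤ Q) : ∃ f : M →* S, Emb f := by
  classical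
  haveI : Fact (Nat.Prime 2) := ⟨Nat.prime_two⟩
  let g₁ : Q8 →* S := Q₁.subtype.comp e₁.symm.toMonoidHom
  let g₂ : Q8 →* S := Q₂.subtype.comp e₂.symm.toMonoidHom
  have hg : ∀ x y, Commute (g₁ x) (g₂ y) := fun x y => hcomm _ (e₁.symm x).2 _ (e₂.symm y).2
  let f : M →* S := MonoidHom.noncommCoprod g₁ g₂ hg
  have h1 : g₁.range = Q₁ := by
    rw [MonoidHom.range_comp, MonoidHom.range_eq_top.2 e₁.symm.surjective,
      ← MonoidHom.range_eq_map, range_subtype]
  have h2 : g₂.range = Q₂ := by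
    rw [MonoidHom.range_comp, MonoidHom.range_eq_top.2 e₂.symm.surjective,
      ← MonoidHom.range_eq_map, range_subtype]
  have hr : f.range = Q := by
    rw [MonoidHom.noncommCoprod_range, h1, h2, hQ]
  refine ⟨f, hS, ?_, by rw [hr]; exact hC⟩
  have hinj₁ : Function.Injective g₁ := Q₁.subtype_injective.comp e₁.symm.injective
  have hinj₂ : Function.Injective g₂ := Q₂.subtype_injective.comp e₂.symm.injective
  have hsub : ∀ u : M, f u = 1 → K u := by
    rintro ⟨x, y⟩ hu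
    have hu' : g₁ x * g₂ y = 1 := hu
    have hx : x = 1 ∨ x = zz := central_cases x fun w => hinj₁ (by
      rw [map_mul, map_mul, eq_inv_of_mul_eq_one_left hu']
      exact (hg w y).symm.inv_left.eq)
    have hy : y = 1 ∨ y = zz := central_cases y fun w => hinj₂ (by
      rw [map_mul, map_mul, eq_inv_of_mul_eq_one_right hu']
      exact (hg x w).inv_left.eq)
    rcases hx with rfl | rfl <;> rcases hy with rfl | rfl
    · exact Or.inl rfl
    · rw [map_one, one_mul] at hu'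
      exact absurd (hinj₂ (hu'.trans (map_one g₂).symm)) zz_ne
    · rw [map_one g₂, mul_one] at hu'
      exact absurd (hinj₁ (hu'.trans (map_one g₁).symm)) zz_ne
    · exact Or.inr rfl
  refine fun u => ⟨hsub u, fun hu => ?_⟩
  rcases hu with rfl | rfl
  · exact map_one f
  by_contra hne
  have hinj : Function.Injective f := by
    refine (injective_iff_map_eq_one f).2 fun u hu => ?_
    rcases hsub u hu with h | h
    · exact h
    · exact absurd (h ▸ hu) hne
  have h := Nat.card_congr (MonoidHom.ofInjective hinj).toEquiv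
  rw [hr, hQ32, Nat.card_prod, Nat.card_eq_fintype_card, QuaternionGroup.card] at h
  omega

end QuatPair

end CfsgLib.SRank
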