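import Cfsg.Agent.Lib.SRank.Criteria
import Cfsg.Agent.Lib.SRank.MacWilliams

/-!
`2`-groups with a self-centralizing elementary abelian subgroup of order `8`.
-/

set_option autoImplicit false
set_option linter.style.haveILetI false

namespace CfsgLib.SRank

open Subgroup
open CfsgLib.TwoLinear (Gen)

universe u

variable {P : Type u} [Group P] [Finite P]

omit [Finite P] in
theorem conj_eq_iff {g x : P} : g * x * g⁻¹ = x ↔ g * x = x * g := mul_inv_eq_iff_eq_mul

theorem two_mul_card_le {H K : Subgroup P} (h : H < K) : 2 * Nat.card H ≤ Nat.card K := by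
  obtain ⟨c, hc⟩ := card_dvd_of_le h.le
  have h0 : 0 < Nat.card K := Nat.card_pos
  rcases c with _ | _ | c
  · simp only [mul_zero] at hc; omega
  · exact absurd (eq_of_le_of_card_ge h.le (by rw [hc]; simp)) h.ne
  · rw [hc, mul_comm 2]
    exact Nat.mul_le_mul_left _ (by omega)

/-- `x ↦ x · x ^ a` on an elementary abelian subgroup normalized by `a`. -/
def dlt (a x : P) : P := x * (a * x * a⁻¹)

omit [Finite P] in
theorem dlt_mem {B : Subgroup P} [hBn : B.Normal] (a : P) {x : P} (hx : x ∈ B) : dlt a x ∈ B :=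
  mul_mem hx (hBn.conj_mem x hx a)

omit [Finite P] in
theorem dlt_mul {B : Subgroup P} [hBn : B.Normal] (hB : Exp2 B) (a : P) {x y : P} (hx : x ∈ B)
    (hy : y ∈ B) : dlt a (x * y) = dlt a x * dlt a y := by
  simp only [dlt]
  calc x * y * (a * (x * y) * a⁻¹) = x * (y * (a * x * a⁻¹)) * (a * y * a⁻¹) := by group
    _ = x * ((a * x * a⁻¹) * y) * (a * y * a⁻¹) := by rw [hB.comm hy (hBn.conj_mem x hx a)]
    _ = _ := by group

omit [Finite P] in
theorem dlt_eq_one {B : Subgroup P} (hB : Exp2 B) (a : P) {x : P} (hx : x ∈ B) :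
    dlt a x = 1 ↔ a * x = x * a := by
  rw [dlt, mul_eq_one_iff_inv_eq, hB.inv_eq hx, eq_comm, conj_eq_iff]

omit [Finite P] in
theorem dlt_fixed {B : Subgroup P} [hBn : B.Normal] (hB : Exp2 B) {a : P} (ha : a * a = 1) {x : P}
    (hx : x ∈ B) : a * dlt a x = dlt a x * a := by
  rw [← conj_eq_iff]
  calc a * (x * (a * x * a⁻¹)) * a⁻¹ = a * x * a⁻¹ * (a * a * x * (a * a)⁻¹) := by group
    _ = a * x * a⁻¹ * x := by rw [ha, inv_one, one_mul, mul_one]
    _ = dlt a x := hB.comm (hBn.conj_mem x hx a) hx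

omit [Finite P] in
/-- A commutator with an involution lying in an elementary abelian subgroup is fixed by it. -/
theorem comm_fixed {B : Subgroup P} (hB : Exp2 B) {a c : P} (ha : a * a = 1)
    (he : c⁻¹ * (a * c * a⁻¹) ∈ B) : a * (c⁻¹ * (a * c * a⁻¹)) = c⁻¹ * (a * c * a⁻¹) * a := by
  rw [← conj_eq_iff]
  calc a * (c⁻¹ * (a * c * a⁻¹)) * a⁻¹ = (a * c * a⁻¹)⁻¹ * (a * a * c * (a * a)⁻¹) := by group
    _ = (a * c * a⁻¹)⁻¹ * c := by rw [ha, inv_one, one_mul, mul_one]
    _ = (c⁻¹ * (a * c * a⁻¹))⁻¹ := by group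
    _ = _ := hB.inv_eq he

omit [Finite P] in
/-- Adjusting an element to commute with `a`. -/
theorem adjust {B : Subgroup P} [hBn : B.Normal] (hB : Exp2 B) {a c y : P} (hy : y ∈ B)
    (h : c⁻¹ * (a * c * a⁻¹) = dlt a y) : a * (c * y) = c * y * a := by
  rw [← conj_eq_iff]
  calc a * (c * y) * a⁻¹ = c * (c⁻¹ * (a * c * a⁻¹)) * (a * y * a⁻¹) := by group
    _ = c * (y * (a * y * a⁻¹)) * (a * y * a⁻¹) := by rw [h, dlt]
    _ = c * y * ((a * y * a⁻¹) * (a * y * a⁻¹)) := by group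
    _ = c * y := by rw [hB _ (hBn.conj_mem y hy a), mul_one]

/-- The map `dlt a` as a homomorphism. -/
def dltHom {B : Subgroup P} [B.Normal] (hB : Exp2 B) (a : P) : B →* B :=
  MonoidHom.mk' (fun x => ⟨dlt a x, dlt_mem a x.2⟩) fun x y => Subtype.ext (dlt_mul hB a x.2 y.2)

theorem card_range_dlt {B : Subgroup P} [B.Normal] (hB : Exp2 B) (a : P) :
    Nat.card (dltHom hB a).range * Nat.card (B ⊓ centralizer ({a} : Set P) : Subgroup P) =
      Nat.card B := by
  have h : (dltHom hB a).ker = (B ⊓ centralizer ({a} : Set P)).subgroupOf B := by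
    ext x
    rw [MonoidHom.mem_ker, mem_subgroupOf, mem_inf, mem_centralizer_singleton_iff]
    refine ⟨fun h => ⟨x.2, ((dlt_eq_one hB a x.2).1 (congrArg Subtype.val h)).symm⟩,
      fun h => Subtype.ext ((dlt_eq_one hB a x.2).2 h.2.symm)⟩
  rw [← index_ker, mul_comm, ← Nat.card_congr (subgroupOfEquivOfLe (inf_le_left :
    B ⊓ centralizer ({a} : Set P) ≤ B)).toEquiv, ← h]
  exact card_mul_index _

/-- A third generator of a maximal elementary abelian subgroup of order `8`. -/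
theorem exists_third {A B : Subgroup P} (hA : Exp2 A) (hA8 : Nat.card A = 8)
    (hF : 2 ≤ Nat.card (A ⊓ B : Subgroup P)) {α : P} (hα : α ∈ A) (hαB : α ∉ B) :
    ∃ a2 ∈ A, A ≤ (A ⊓ B) ⊔ zpowers α ⊔ zpowers a2 := by
  set K := (A ⊓ B) ⊔ zpowers α
  have hlt : A ⊓ B < K := lt_of_le_of_ne le_sup_left fun e =>
    hαB (mem_inf.1 (e ▸ mem_sup_right (mem_zpowers α) : α ∈ A ⊓ B)).2
  have := two_mul_card_le hlt
  obtain ⟨T, hT, hTA, hle⟩ := extend hA (n := 3) hA8.le 1 2 K
    (sup_le inf_le_left (zpowers_le.2 hα)) (by omega) rfl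
  rcases T.eq_empty_or_nonempty with rfl | ⟨t, ht⟩
  · exact ⟨1, one_mem _, hle.trans (by simp)⟩
  · refine ⟨t, hTA ht, hle.trans (sup_le_sup_left ((closure_le _).2 fun x hx => ?_) _)⟩
    rw [Finset.card_le_one.1 hT x hx t ht]
    exact mem_zpowers t

/-- Hypotheses: `B` is a normal elementary abelian subgroup of maximal order, `A` a
self-centralizing one of order `8`. -/
structure EightData (A B : Subgroup P) : Prop where
  hP : IsPGroup 2 P
  normal : B.Normal
  hB : Exp2 B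
  hA : Exp2 A
  hA8 : Nat.card A = 8
  hC : centralizer (A : Set P) = A
  hB8 : 8 ≤ Nat.card B
  hmax : ∀ B' : Subgroup P, B'.Normal → Exp2 B' → Nat.card B' ≤ Nat.card B

namespace EightData

variable {A B : Subgroup P} (s : EightData A B)
include s

theorem mem_A {x a a2 : P} (hgen : A ≤ (A ⊓ B) ⊔ zpowers a ⊔ zpowers a2)
    (hF : ∀ f ∈ A ⊓ B, f * x = x * f) (ha : a * x = x * a) (ha2 : a2 * x = x * a2) : x ∈ A := by
  rw [← s.hC]
  refine mem_centralizer_iff.2 fun y hy => ?_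
  have hle : (A ⊓ B) ⊔ zpowers a ⊔ zpowers a2 ≤ centralizer ({x} : Set P) :=
    sup_le (sup_le (fun f hf => mem_centralizer_singleton_iff.2 (hF f hf))
      (zpowers_le.2 (mem_centralizer_singleton_iff.2 ha)))
      (zpowers_le.2 (mem_centralizer_singleton_iff.2 ha2))
  exact mem_centralizer_singleton_iff.1 (hle (hgen hy))

theorem exists_central : ∃ z ∈ A ⊓ B, z ≠ 1 ∧ z ∈ center P := by
  haveI : Fact (Nat.Prime 2) := ⟨Nat.prime_two⟩
  haveI := s.normal
  obtain ⟨z, hz, hz1, hzc⟩ := CfsgLib.OddLocal.exists_center_of_normal_ne_bot s.hP B fun e => by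
    have := s.hB8
    rw [e, card_bot] at this
    omega
  refine ⟨z, mem_inf.2 ⟨?_, hz⟩, hz1, hzc⟩
  rw [← s.hC]
  exact mem_centralizer_iff.2 fun y _ => mem_center_iff.1 hzc y

theorem two_le : 2 ≤ Nat.card (A ⊓ B : Subgroup P) := by
  obtain ⟨z, hz, hz1, -⟩ := s.exists_central
  haveI : Nontrivial (A ⊓ B : Subgroup P) := ⟨⟨⟨z, hz⟩, 1, fun e => hz1 (congrArg Subtype.val e)⟩⟩
  exact Finite.one_lt_card

theorem fixed_le_four {α : P} (hα : α ∈ A) (hαB : α ∉ B) :
    Nat.card (B ⊓ centralizer ({α} : Set P) : Subgroup P) ≤ 4 := by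
  haveI := s.normal
  have hFB : ∀ x ∈ B, ∀ f ∈ A ⊓ B, f * x = x * f := fun x hx f hf => s.hB.comm hf.2 hx
  set K := (A ⊓ B) ⊔ zpowers α
  have hlt : A ⊓ B < K := lt_of_le_of_ne le_sup_left fun e =>
    hαB (mem_inf.1 (e ▸ mem_sup_right (mem_zpowers α) : α ∈ A ⊓ B)).2
  have h2 := two_mul_card_le hlt
  have hKA : K ≤ A := sup_le inf_le_left (zpowers_le.2 hα)
  have hK8 := (card_le_of_le hKA).trans s.hA8.le
  set E := B ⊓ centralizer ({α} : Set P)
  by_cases hAK : A ≤ K
  · refine (card_le_of_le (K := A ⊓ B) fun x hx => ?_).trans (by omega)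
    have hxα : α * x = x * α := (mem_centralizer_singleton_iff.1 hx.2).symm
    exact mem_inf.2 ⟨s.mem_A (a := α) (a2 := α) (le_sup_of_le_left hAK) (hFB x hx.1) hxα hxα, hx.1⟩
  have h4 := two_mul_card_le (lt_of_le_not_ge hKA hAK)
  have hA8 := s.hA8
  obtain ⟨a2, ha2, hgen⟩ := exists_third s.hA s.hA8 s.two_le hα hαB
  have hEB : Exp2 E := s.hB.mono inf_le_left
  have hinv : ∀ x ∈ E, a2 * x * a2⁻¹ ∈ E := fun x hx => mem_inf.2 ⟨s.normal.conj_mem x hx.1 a2, by
    refine mem_centralizer_singleton_iff.2 ?_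
    have h1 := mem_centralizer_singleton_iff.1 hx.2
    have h3 := s.hA.comm ha2 hα
    have h3' : a2⁻¹ * α = α * a2⁻¹ := s.hA.comm (inv_mem ha2) hα
    calc a2 * x * a2⁻¹ * α = a2 * x * (a2⁻¹ * α) := by group
      _ = a2 * (x * α) * a2⁻¹ := by rw [h3']; group
      _ = a2 * (α * x) * a2⁻¹ := by rw [h1]
      _ = a2 * α * x * a2⁻¹ := by group
      _ = α * (a2 * x * a2⁻¹) := by rw [h3]; group⟩
  refine (card_le_fixed_sq hEB hinv fun x _ => by rw [s.hA a2 ha2, one_mul, mul_one]).trans ?_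
  have hle : E ⊓ centralizer ({a2} : Set P) ≤ A ⊓ B := fun x hx =>
    mem_inf.2 ⟨s.mem_A hgen (hFB x hx.1.1) (mem_centralizer_singleton_iff.1 hx.1.2).symm
      (mem_centralizer_singleton_iff.1 hx.2).symm, hx.1.1⟩
  have := card_le_of_le hle
  nlinarith

theorem inter_cent : ∀ x ∈ A, x ∈ centralizer (B : Set P) → x ∈ B := by
  intro x hx hxC
  by_contra hxB
  have h := s.fixed_le_four hx hxB
  rw [inf_eq_left.2 fun b hb => mem_centralizer_singleton_iff.2
    (mem_centralizer_iff.1 hxC b hb)] at h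
  have := s.hB8
  omega

theorem card_fixed {a : P} (ha : a ∈ A) (haB : a ∉ B) :
    Nat.card (B ⊓ centralizer ({a} : Set P) : Subgroup P) = 4 ∧
      (Nat.card B = 8 ∨ Nat.card B = 16) := by
  haveI := s.normal
  haveI : Fact (Nat.Prime 2) := ⟨Nat.prime_two⟩
  have h4 := s.fixed_le_four ha haB
  have hsq := card_le_fixed_sq (a := a) s.hB (fun x hx => s.normal.conj_mem x hx a)
    fun x _ => by rw [s.hA a ha, one_mul, mul_one]
  have h8 := s.hB8
  obtain ⟨k, hk⟩ := (s.hP.to_subgroup (B ⊓ centralizer ({a} : Set P) : Subgroup P)).exists_card_eq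
  obtain ⟨m, hm⟩ := (s.hP.to_subgroup B).exists_card_eq
  rw [hk] at h4 hsq
  rw [hm] at hsq h8
  rw [hk, hm]
  have hk2 : k = 2 := by
    rcases k with _ | _ | _ | k
    · simp at hsq; omega
    · simp at hsq; omega
    · rfl
    · have := Nat.pow_le_pow_right two_pos (show 3 ≤ k + 1 + 1 + 1 by omega)
      omega
  subst hk2
  norm_num at hsq ⊢
  have hm4 : m ≤ 4 := (Nat.pow_le_pow_iff_right one_lt_two).1 (hsq.trans (by norm_num))
  have hm3 : 3 ≤ m := by
    by_contra hlt
    have := Nat.pow_le_pow_right two_pos (by omega : m ≤ 2)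
    omega
  interval_cases m <;> norm_num

/-- Only elements of `B` in `C(B)` commute with `a`. -/
theorem cent_fixed {a : P} (ha : a ∈ A) (haB : a ∉ B) {c : P}
    (hc : c ∈ centralizer (B : Set P)) (hca : a * c = c * a) : c ∈ B := by
  classical
  haveI := s.normal
  have haa : a * a = 1 := s.hA a ha
  obtain ⟨a2, ha2, hgen⟩ := exists_third s.hA s.hA8 s.two_le ha haB
  set E := B ⊓ centralizer ({a} : Set P)
  have hFc : ∀ x ∈ centralizer (B : Set P), ∀ f ∈ A ⊓ B, f * x = x * f := fun x hx f hf =>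
    mem_centralizer_iff.1 hx f hf.2
  suffices h : centralizer (B : Set P) ⊓ centralizer ({a} : Set P) ≤ E from
    (h (mem_inf.2 ⟨hc, mem_centralizer_singleton_iff.2 hca.symm⟩)).1
  by_contra hne
  have ha2a : a2 * a2 = 1 := s.hA a2 ha2
  have haa2 : a * a2 = a2 * a := s.hA.comm ha ha2
  obtain ⟨c, hcK, hcE, he⟩ := exists_comm_mem s.hP (a := a2) ha2a (fun x hx => by
    refine mem_inf.2 ⟨Normal.conj_mem inferInstance x hx.1 a2,
      mem_centralizer_singleton_iff.2 ?_⟩
    have h1 := mem_centralizer_singleton_iff.1 hx.2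
    have h2 : a2⁻¹ * a = a * a2⁻¹ := s.hA.comm (inv_mem ha2) ha
    calc a2 * x * a2⁻¹ * a = a2 * x * (a2⁻¹ * a) := by group
      _ = a2 * (x * a) * a2⁻¹ := by rw [h2]; group
      _ = a2 * (a * x) * a2⁻¹ := by rw [h1]
      _ = a2 * a * x * a2⁻¹ := by group
      _ = a * (a2 * x * a2⁻¹) := by rw [← haa2]; group) hne
  have hcE' : ∀ y ∈ E, c * y ∉ A := fun y hy hA' => hcE (by
    have hmem : c * y ∈ centralizer (B : Set P) := mul_mem hcK.1 (s.hB.le_centralizer hy.1)
    have hyB := s.inter_cent _ hA' hmem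
    have hcB : c ∈ B := by simpa using mul_mem hyB (inv_mem hy.1)
    exact mem_inf.2 ⟨hcB, hcK.2⟩)
  have hF2 : Nat.card (A ⊓ B : Subgroup P) ≤ 4 := by
    refine (card_le_of_le ?_).trans (s.fixed_le_four ha haB)
    exact fun f hf => mem_inf.2 ⟨hf.2, mem_centralizer_singleton_iff.2 (s.hA.comm hf.1 ha)⟩
  set e := c⁻¹ * (a2 * c * a2⁻¹)
  have hefix : a2 * e = e * a2 := comm_fixed s.hB ha2a he.1
  -- it suffices to find `y ∈ E` with `dlt a2 y = e`
  suffices ∃ y ∈ E, e = dlt a2 y by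
    obtain ⟨y, hy, hey⟩ := this
    refine hcE' y hy (s.mem_A hgen (hFc _ (mul_mem hcK.1 (s.hB.le_centralizer hy.1))) ?_
      (adjust s.hB hy.1 hey))
    calc a * (c * y) = (a * c) * y := by group
      _ = c * (a * y) := by rw [← mem_centralizer_singleton_iff.1 hcK.2]; group
      _ = c * (y * a) := by rw [← mem_centralizer_singleton_iff.1 hy.2]
      _ = _ := by group
  have heF : e ∈ A ⊓ B := mem_inf.2 ⟨s.mem_A hgen (fun f hf => s.hB.comm hf.2 he.1)
    (mem_centralizer_singleton_iff.1 he.2).symm hefix, he.1⟩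
  by_cases he1 : e = 1
  · exact ⟨1, one_mem _, by rw [he1]; simp [dlt]⟩
  obtain ⟨hE4, -⟩ := s.card_fixed ha haB
  have hdE : ∀ y ∈ E, dlt a2 y ∈ A ⊓ B := fun y hy => by
    have hyc : a2 * y * a2⁻¹ ∈ E := mem_inf.2 ⟨s.normal.conj_mem y hy.1 a2,
      mem_centralizer_singleton_iff.2 (by
        have h1 := mem_centralizer_singleton_iff.1 hy.2
        have h2 : a2⁻¹ * a = a * a2⁻¹ := s.hA.comm (inv_mem ha2) ha
        calc a2 * y * a2⁻¹ * a = a2 * (y * a) * a2⁻¹ := by rw [mul_assoc, h2]; group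
          _ = a2 * a * y * a2⁻¹ := by rw [h1]; group
          _ = a * (a2 * y * a2⁻¹) := by rw [← haa2]; group)⟩
    exact mem_inf.2 ⟨s.mem_A hgen (fun f hf => s.hB.comm hf.2 (dlt_mem a2 hy.1))
      (mem_centralizer_singleton_iff.1 (mul_mem hy hyc : dlt a2 y ∈ E).2).symm
      (dlt_fixed s.hB ha2a hy.1), dlt_mem a2 hy.1⟩
  by_cases hmove : ∃ y ∈ E, dlt a2 y ≠ 1
  · obtain ⟨y, hy, hy1⟩ := hmove
    refine ⟨y, hy, ?_⟩
    by_contra hne'
    have h3 : ({1, e, dlt a2 y} : Finset P).card = 3 := Finset.card_eq_three.2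
      ⟨1, e, dlt a2 y, Ne.symm he1, Ne.symm hy1, hne', rfl⟩
    have h3' : 3 ≤ Nat.card (A ⊓ B : Subgroup P) := by
      rw [← h3]
      haveI := Fintype.ofFinite (A ⊓ B : Subgroup P)
      rw [Nat.card_eq_fintype_card, ← Finset.card_univ,
        ← Finset.card_map (Function.Embedding.subtype (fun x => x ∈ (A ⊓ B : Subgroup P)))]
      refine Finset.card_le_card fun x hx => ?_
      simp only [Finset.mem_map, Finset.mem_univ, true_and]
      refine ⟨⟨x, ?_⟩, rfl⟩
      simp only [Finset.mem_insert, Finset.mem_singleton] at hx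
      rcases hx with rfl | rfl | rfl
      exacts [one_mem _, heF, hdE y hy]
    -- so `A ≤ (A ⊓ B)⟨a⟩`, and `a2` adds nothing
    set K := (A ⊓ B) ⊔ zpowers a
    have hlt : A ⊓ B < K := lt_of_le_of_ne le_sup_left fun e' =>
      haB (mem_inf.1 (e' ▸ mem_sup_right (mem_zpowers a) : a ∈ A ⊓ B)).2
    have h2K := two_mul_card_le hlt
    have hKA : K ≤ A := sup_le inf_le_left (zpowers_le.2 ha)
    have h4 : Nat.card (A ⊓ B : Subgroup P) = 4 := by
      obtain ⟨k, hk⟩ := (s.hP.to_subgroup (A ⊓ B : Subgroup P)).exists_card_eq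
      rw [hk] at h3' hF2 ⊢
      rcases k with _ | _ | _ | k
      · omega
      · omega
      · norm_num
      · have := Nat.pow_le_pow_right two_pos (show 3 ≤ k + 1 + 1 + 1 by omega)
        omega
    have hKA' : K = A := eq_of_le_of_card_ge hKA (by rw [s.hA8]; omega)
    have hya : a2 * y = y * a2 := by
      have hle : K ≤ centralizer ({y} : Set P) := sup_le (fun f hf =>
        mem_centralizer_singleton_iff.2 (s.hB.comm hf.2 hy.1))
        (zpowers_le.2 (mem_centralizer_singleton_iff.2 (mem_centralizer_singleton_iff.1 hy.2).symm))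
      exact mem_centralizer_singleton_iff.1 (hle (hKA' ▸ ha2))
    exact hy1 ((dlt_eq_one s.hB a2 hy.1).2 hya)
  push Not at hmove
  have hEA : E ≤ A ⊓ B := fun y hy => mem_inf.2 ⟨s.mem_A hgen (fun f hf => s.hB.comm hf.2 hy.1)
    (mem_centralizer_singleton_iff.1 hy.2).symm ((dlt_eq_one s.hB a2 hy.1).1 (hmove y hy)), hy.1⟩
  have hFE : A ⊓ B ≤ E := fun f hf =>
    mem_inf.2 ⟨hf.2, mem_centralizer_singleton_iff.2 (s.hA.comm hf.1 ha)⟩
  have hlt : A ⊓ B < (A ⊓ B) ⊔ zpowers a := lt_of_le_of_ne le_sup_left fun e' =>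
    haB (mem_inf.1 (e' ▸ mem_sup_right (mem_zpowers a) : a ∈ A ⊓ B)).2
  have h2K := two_mul_card_le hlt
  have hEF : E = A ⊓ B := le_antisymm hEA hFE
  rw [← hEF] at h2K
  have hE4' : Nat.card E = 4 := hE4
  have hKA' : (A ⊓ B) ⊔ zpowers a = A :=
    eq_of_le_of_card_ge (sup_le inf_le_left (zpowers_le.2 ha)) (by rw [s.hA8, ← hEF]; omega)
  have hca2 : a2 * c = c * a2 := by
    have hle : (A ⊓ B) ⊔ zpowers a ≤ centralizer ({c} : Set P) := sup_le (fun f hf =>
      mem_centralizer_singleton_iff.2 (hFc c hcK.1 f hf))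
      (zpowers_le.2 (mem_centralizer_singleton_iff.2 (mem_centralizer_singleton_iff.1 hcK.2).symm))
    exact mem_centralizer_singleton_iff.1 (hle (hKA'.symm ▸ ha2))
  refine absurd ?_ he1
  rw [inv_mul_eq_one, eq_comm, conj_eq_iff]
  exact hca2

end EightData

omit [Finite P] in
theorem isCyclic_map_of_le {B : Subgroup P} [B.Normal] {H : Subgroup P} (h : H ≤ B) :
    IsCyclic (H.map (QuotientGroup.mk' B)) := by
  rw [(map_eq_bot_iff H).2 (h.trans (QuotientGroup.ker_mk' B).ge)]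
  infer_instance

/-- The case `C(B) = B` with `B` of order `8`. -/
theorem gen_four_of_cent_eq (hP : IsPGroup 2 P) (B : Subgroup P) [B.Normal] (hB : Exp2 B)
    (h8 : Nat.card B = 8) (hBC : centralizer (B : Set P) = B) (H : Subgroup P) : Gen H 4 := by
  let e : P ⧸ B ≃* P ⧸ centralizer (B : Set P) := QuotientGroup.quotientMulEquivOfEq hBC.symm
  refine gen_four_eight B hB h8.le (fun K => ?_) (fun H hH _ hcy => ?_) H
  · exact (gen_two_action hP B hB h8 (K.map e.toMonoidHom)).of_surjective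
      (K.equivMapOfInjective e.toMonoidHom e.injective).symm.toMonoidHom (MulEquiv.surjective _)
  · exact absurd (isCyclic_map_of_le (hH.trans hBC.le)) hcy

theorem two_cases {F : Subgroup P} (hF : Nat.card F ≤ 2) {d : P} (hd : d ∈ F) (hd1 : d ≠ 1)
    {x : P} (hx : x ∈ F) : x = 1 ∨ x = d := by
  classical
  by_contra! h
  have h3 : ({1, d, x} : Finset P).card = 3 := Finset.card_eq_three.2
    ⟨1, d, x, Ne.symm hd1, Ne.symm h.1, Ne.symm h.2, rfl⟩
  have : ({1, d, x} : Finset P).card ≤ Nat.card F := by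
    haveI := Fintype.ofFinite F
    rw [Nat.card_eq_fintype_card, ← Finset.card_univ,
      ← Finset.card_map (Function.Embedding.subtype (fun x => x ∈ F))]
    refine Finset.card_le_card fun t ht => ?_
    simp only [Finset.mem_map, Finset.mem_univ, true_and]
    refine ⟨⟨t, ?_⟩, rfl⟩
    simp only [Finset.mem_insert, Finset.mem_singleton] at ht
    rcases ht with rfl | rfl | rfl
    exacts [one_mem _, hd, hx]
  omega

theorem four_cases {E : Subgroup P} (hE : Exp2 E) (h4 : Nat.card E ≤ 4) {z e : P} (hz : z ∈ E)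
    (he : e ∈ E) (hz1 : z ≠ 1) (he1 : e ≠ 1) (hez : e ≠ z) {x : P} (hx : x ∈ E) :
    x = 1 ∨ x = z ∨ x = e ∨ x = z * e := by
  classical
  by_contra! h
  have hze : z * e ≠ 1 := fun h' => hez (by rw [eq_inv_of_mul_eq_one_right h', hE.inv_eq hz])
  have h5 : ({1, z, e, z * e, x} : Finset P).card = 5 := by
    rw [Finset.card_insert_of_notMem, Finset.card_insert_of_notMem, Finset.card_insert_of_notMem,
      Finset.card_insert_of_notMem, Finset.card_singleton]
    · simp [Ne.symm h.2.2.2]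
    · simp only [Finset.mem_insert, Finset.mem_singleton, not_or]
      exact ⟨fun h' => hz1 (right_eq_mul.1 h'), Ne.symm h.2.2.1⟩
    · simp only [Finset.mem_insert, Finset.mem_singleton, not_or]
      exact ⟨Ne.symm hez, fun h' => he1 (left_eq_mul.1 h'), Ne.symm h.2.1⟩
    · simp only [Finset.mem_insert, Finset.mem_singleton, not_or]
      exact ⟨Ne.symm hz1, Ne.symm he1, Ne.symm hze, Ne.symm h.1⟩
  have : ({1, z, e, z * e, x} : Finset P).card ≤ Nat.card E := by
    haveI := Fintype.ofFinite E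
    rw [Nat.card_eq_fintype_card, ← Finset.card_univ,
      ← Finset.card_map (Function.Embedding.subtype (fun x => x ∈ E))]
    refine Finset.card_le_card fun t ht => ?_
    simp only [Finset.mem_map, Finset.mem_univ, true_and]
    refine ⟨⟨t, ?_⟩, rfl⟩
    simp only [Finset.mem_insert, Finset.mem_singleton] at ht
    rcases ht with rfl | rfl | rfl | rfl | rfl
    exacts [one_mem _, hz, he, mul_mem hz he, hx]
  omega

theorem card_le_four {X : Type u} [Group X] (Q : Subgroup X) (p q r : X)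
    (h : ∀ x ∈ Q, x = 1 ∨ x = p ∨ x = q ∨ x = r) : Nat.card Q ≤ 4 := by
  classical
  refine (Nat.card_le_card_of_injective
    (fun x : Q => (⟨x, by simpa using h x x.2⟩ : ({1, p, q, r} : Finset X)))
    fun x y e => Subtype.ext (congrArg (fun t : ({1, p, q, r} : Finset X) => (t : X)) e)).trans ?_
  simp only [Nat.card_eq_fintype_card, Fintype.card_coe]
  exact Finset.card_le_four

omit [Finite P] in
theorem comm_mem_of_commute {B : Subgroup P} [hBn : B.Normal] {a x : P}
    (h : (a : P ⧸ B) * x = x * a) : x⁻¹ * (a * x * a⁻¹) ∈ B := by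
  rw [← QuotientGroup.mk_mul, ← QuotientGroup.mk_mul] at h
  have h' := hBn.conj_mem _ (QuotientGroup.eq.1 h.symm) a
  rwa [show a * ((x * a)⁻¹ * (a * x)) * a⁻¹ = x⁻¹ * (a * x * a⁻¹) by group] at h'

omit [Finite P] in
theorem inf_cent_congr {B : Subgroup P} (hB : Exp2 B) {g z : P} (h : g⁻¹ * z ∈ B) :
    B ⊓ centralizer ({z} : Set P) = B ⊓ centralizer ({g} : Set P) := by
  ext x
  simp only [mem_inf, mem_centralizer_singleton_iff]
  refine and_congr_right fun hx => ?_
  have h1 := hB.comm hx h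
  constructor <;> intro h2
  · calc x * g = x * z * (g⁻¹ * z)⁻¹ := by group
      _ = z * x * (g⁻¹ * z)⁻¹ := by rw [h2]
      _ = g * (g⁻¹ * z * x) * (g⁻¹ * z)⁻¹ := by group
      _ = g * (x * (g⁻¹ * z)) * (g⁻¹ * z)⁻¹ := by rw [h1]
      _ = g * x := by group
  · calc x * z = x * g * (g⁻¹ * z) := by group
      _ = g * x * (g⁻¹ * z) := by rw [h2]
      _ = g * (g⁻¹ * z * x) := by rw [← h1]; group
      _ = z * x := by group

namespace EightData

variable {A B : Subgroup P} (s : EightData A B)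
include s

theorem gen_sixteen {a : P} (ha : a ∈ A) (haB : a ∉ B) (h16 : Nat.card B = 16) (H : Subgroup P) :
    Gen H 4 := by
  classical
  haveI := s.normal
  haveI : Fact (Nat.Prime 2) := ⟨Nat.prime_two⟩
  have haa : a * a = 1 := s.hA a ha
  obtain ⟨hE4, -⟩ := s.card_fixed ha haB
  set E := B ⊓ centralizer ({a} : Set P)
  have hEa : ∀ x ∈ E, a * x = x * a := fun x hx => (mem_centralizer_singleton_iff.1 hx.2).symm
  have hFE : A ⊓ B ≤ E := fun f hf =>
    mem_inf.2 ⟨hf.2, mem_centralizer_singleton_iff.2 (s.hA.comm hf.1 ha)⟩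
  have hsurj : ∀ x ∈ E, ∃ y ∈ B, dlt a y = x := by
    have hr := card_range_dlt s.hB a
    rw [hE4, h16] at hr
    have hle : (dltHom s.hB a).range.map B.subtype ≤ E := by
      rintro _ ⟨_, ⟨y, rfl⟩, rfl⟩
      exact mem_inf.2 ⟨dlt_mem a y.2, mem_centralizer_singleton_iff.2 (dlt_fixed s.hB haa y.2).symm⟩
    have heq := eq_of_le_of_card_ge hle (by
      rw [hE4, card_map_of_injective B.subtype_injective]; omega)
    intro x hx
    obtain ⟨_, ⟨y, rfl⟩, hy⟩ := heq.ge hx
    exact ⟨y, y.2, hy⟩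
  have hlift : ∀ x : P, x⁻¹ * (a * x * a⁻¹) ∈ B → ∃ y ∈ B, a * (x * y) = x * y * a := by
    intro x hx
    obtain ⟨y, hy, hye⟩ := hsurj _ (mem_inf.2 ⟨hx,
      mem_centralizer_singleton_iff.2 (comm_fixed s.hB haa hx).symm⟩)
    exact ⟨y, hy, adjust s.hB hy hye.symm⟩
  have hBC : centralizer (B : Set P) ≤ B := by
    by_contra hne
    obtain ⟨c, hc, hcB, hce⟩ := exists_comm_mem s.hP (a := a) haa
      (fun x hx => Normal.conj_mem inferInstance x hx a) hne
    obtain ⟨y, hy, hyc⟩ := hlift c hce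
    refine hcB ?_
    simpa using
      mul_mem (s.cent_fixed ha haB (mul_mem hc (s.hB.le_centralizer hy)) hyc) (inv_mem hy)
  obtain ⟨a2, ha2, hgen⟩ := exists_third s.hA s.hA8 s.two_le ha haB
  by_cases hmove : ∀ x ∈ E, a2 * x = x * a2
  · have hEA : E ≤ A ⊓ B := fun x hx => mem_inf.2
      ⟨s.mem_A hgen (fun f hf => s.hB.comm hf.2 hx.1) (hEa x hx) (hmove x hx), hx.1⟩
    have hEF : A ⊓ B = E := le_antisymm hFE hEA
    have hlt : A ⊓ B < (A ⊓ B) ⊔ zpowers a := lt_of_le_of_ne le_sup_left fun e' =>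
      haB (mem_inf.1 (e' ▸ mem_sup_right (mem_zpowers a) : a ∈ A ⊓ B)).2
    have hAgen : A ≤ (A ⊓ B) ⊔ zpowers a := by
      refine (eq_of_le_of_card_ge (sup_le inf_le_left (zpowers_le.2 ha)) ?_).ge
      have := two_mul_card_le hlt
      have h4 : Nat.card (A ⊓ B : Subgroup P) = 4 := by rw [hEF]; exact hE4
      rw [s.hA8]
      omega
    have hmem : ∀ g : P, a * g = g * a → (∀ x ∈ E, x * g = g * x) → g ∈ A := fun g hg hgE =>
      s.mem_A (le_sup_of_le_left hAgen : A ≤ (A ⊓ B) ⊔ zpowers a ⊔ zpowers a)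
        (fun f hf => hgE f (hFE hf)) hg hg
    obtain ⟨z, hzF, hz1, hzc⟩ := s.exists_central
    obtain ⟨e, heE, hez⟩ : ∃ e ∈ E, e ≠ 1 ∧ e ≠ z := by
      by_contra! hall
      have := card_le_four E z z z (fun x hx => by
        by_cases hx1 : x = 1
        · exact Or.inl hx1
        · exact Or.inr (Or.inl (hall x hx hx1)))
      have h2 : Nat.card E ≤ Nat.card (zpowers z) := card_le_of_le fun x hx => by
        by_cases hx1 : x = 1
        · rw [hx1]; exact one_mem _
        · rw [hall x hx hx1]; exact mem_zpowers z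
      rw [Nat.card_zpowers, orderOf_eq_prime (by rw [pow_two]; exact s.hB z hzF.2) hz1, hE4] at h2
      omega
    set M := centralizer ({a} : Set P)
    have hMa : ∀ g ∈ M, a * g = g * a := fun g hg => (mem_centralizer_singleton_iff.1 hg).symm
    have hEcases : ∀ {x}, x ∈ E → x = 1 ∨ x = z ∨ x = e ∨ x = z * e := fun hx =>
      four_cases (s.hB.mono inf_le_left) hE4.le (hFE hzF) heE hz1 hez.1 hez.2 hx
    have hfixe : ∀ g ∈ M, g * e = e * g → g ∈ A := fun g hg hge => hmem g (hMa g hg) fun x hx => by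
      have hgz : z * g = g * z := (mem_center_iff.1 hzc g).symm
      rcases hEcases hx with rfl | rfl | rfl | rfl
      · rw [one_mul, mul_one]
      · exact hgz
      · exact hge.symm
      · rw [mul_assoc, ← hge, ← mul_assoc, hgz, mul_assoc]
    have himg : ∀ g ∈ M, g * e * g⁻¹ = e ∨ g * e * g⁻¹ = z * e := by
      intro g hg
      have h1 : g * e * g⁻¹ ∈ E := mem_inf.2 ⟨s.normal.conj_mem e heE.1 g,
        mem_centralizer_singleton_iff.2 (Commute.mul_left (Commute.mul_left (hMa g hg).symm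
          (hEa e heE).symm) (Commute.inv_left (hMa g hg).symm))⟩
      rcases hEcases h1 with h | h | h | h
      · exact absurd (conj_eq_one_iff.1 h) hez.1
      · refine absurd ?_ hez.2
        rw [← mul_inv_cancel_right z g, ← mem_center_iff.1 hzc g] at h
        exact mul_left_cancel (mul_right_cancel h)
      · exact Or.inl h
      · exact Or.inr h
    obtain ⟨g0, hg0, hg0M⟩ : ∃ g0 ∈ M, ∀ g ∈ M, g ∈ A ∨ g0⁻¹ * g ∈ A := by
      by_cases hex : ∃ g0 ∈ M, g0 * e * g0⁻¹ = z * e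
      · obtain ⟨g0, hg0, hg0e⟩ := hex
        refine ⟨g0, hg0, fun g hg => ?_⟩
        rcases himg g hg with h | h
        · exact Or.inl (hfixe g hg (conj_eq_iff.1 h))
        · refine Or.inr (hfixe _ (mul_mem (inv_mem hg0) hg) (conj_eq_iff.1 ?_))
          calc g0⁻¹ * g * e * (g0⁻¹ * g)⁻¹ = g0⁻¹ * (g * e * g⁻¹) * g0 := by group
            _ = g0⁻¹ * (g0 * e * g0⁻¹) * g0 := by rw [h, hg0e]
            _ = e := by group
      · push Not at hex
        exact ⟨1, one_mem _, fun g hg =>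
          Or.inl (hfixe g hg (conj_eq_iff.1 ((himg g hg).resolve_right (hex g hg))))⟩
    have haimg : ∀ x ∈ A, (x : P ⧸ B) = 1 ∨ (x : P ⧸ B) = a := by
      intro x hx
      have hle : (A ⊓ B) ⊔ zpowers a ≤ (zpowers (a : P ⧸ B)).comap (QuotientGroup.mk' B) :=
        sup_le (fun f hf => by
          rw [mem_comap, QuotientGroup.mk'_apply, (QuotientGroup.eq_one_iff f).2 hf.2]
          exact one_mem _) (zpowers_le.2 (mem_zpowers _))
      obtain ⟨i, hi⟩ := mem_zpowers_iff.1 (hle (hAgen hx))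
      rw [QuotientGroup.mk'_apply] at hi
      have h2 : (a : P ⧸ B) * a = 1 := by rw [← QuotientGroup.mk_mul, haa, QuotientGroup.mk_one]
      rcases Int.even_or_odd' i with ⟨l, rfl | rfl⟩
      · rw [zpow_mul, zpow_two, h2, one_zpow] at hi
        exact Or.inl hi.symm
      · rw [zpow_add, zpow_mul, zpow_two, h2, one_zpow, one_mul, zpow_one] at hi
        exact Or.inr hi.symm
    set Q := M.map (QuotientGroup.mk' B)
    have hQc : ∀ q ∈ Q, q = 1 ∨ q = (a : P ⧸ B) ∨ q = (g0 : P ⧸ B) ∨ q = (g0 : P ⧸ B) * a := by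
      rintro _ ⟨g, hg, rfl⟩
      rw [QuotientGroup.mk'_apply]
      rcases hg0M g hg with h | h <;> rcases haimg _ h with h' | h'
      · exact Or.inl h'
      · exact Or.inr (Or.inl h')
      · refine Or.inr (Or.inr (Or.inl ?_))
        rw [show g = g0 * (g0⁻¹ * g) by group, QuotientGroup.mk_mul, h', mul_one]
      · refine Or.inr (Or.inr (Or.inr ?_))
        rw [show g = g0 * (g0⁻¹ * g) by group, QuotientGroup.mk_mul, h']
    refine gen_four_sixteen s.hP B s.hB h16.le hBC Q (card_le_four Q _ _ _ hQc)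
      (le_antisymm ?_ ?_) ?_ H
    · intro q hq
      obtain ⟨x, rfl⟩ := QuotientGroup.mk_surjective q
      have hxa : (a : P ⧸ B) * x = x * a :=
        mem_centralizer_iff.1 hq _ ⟨a, mem_centralizer_singleton_iff.2 rfl, rfl⟩
      obtain ⟨y, hy, hyc⟩ := hlift x (comm_mem_of_commute hxa)
      refine ⟨x * y, mem_centralizer_singleton_iff.2 hyc.symm, ?_⟩
      rw [QuotientGroup.mk'_apply, QuotientGroup.mk_mul, (QuotientGroup.eq_one_iff y).2 hy, mul_one]
    · intro p hp
      refine mem_centralizer_iff.2 fun q hq => ?_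
      have hga : Commute (g0 : P ⧸ B) a := by
        show (g0 : P ⧸ B) * a = a * g0
        rw [← QuotientGroup.mk_mul, ← QuotientGroup.mk_mul, hMa g0 hg0]
      rcases hQc p hp with rfl | rfl | rfl | rfl <;> rcases hQc q hq with rfl | rfl | rfl | rfl
      all_goals first
        | rfl
        | exact (Commute.one_left _).eq
        | exact (Commute.one_right _).eq
        | exact hga.eq
        | exact hga.symm.eq
        | exact (hga.mul_right (Commute.refl _) |>.symm).eq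
        | exact (hga.mul_right (Commute.refl _)).eq
        | exact ((Commute.refl _).mul_right hga).eq
        | exact ((Commute.refl _).mul_right hga).symm.eq
        | exact ((Commute.refl _).mul_right hga.symm).eq
        | exact (hga.symm.mul_right (Commute.refl _)).eq
        | exact (hga.symm.mul_right (Commute.refl _)).symm.eq
        | exact ((Commute.refl _).mul_left hga).eq
    · intro w hwQ hw1
      obtain ⟨g, hg, hgw⟩ := hwQ
      rw [QuotientGroup.mk'_apply] at hgw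
      rw [inf_cent_congr s.hB (QuotientGroup.eq.1 hgw)]
      by_contra hbig
      set R := B ⊓ centralizer ({g} : Set P)
      have hgA : g ∈ A := hmem g (hMa g hg) fun x hx => by
        by_cases hxR : x ∈ R
        · exact mem_centralizer_singleton_iff.1 hxR.2
        have hlt' : R < R ⊔ zpowers x :=
          lt_of_le_of_ne le_sup_left fun e' => hxR (e' ▸ mem_sup_right (mem_zpowers x))
        have h2 := two_mul_card_le hlt'
        have hle : R ⊔ zpowers x ≤ B := sup_le inf_le_left (zpowers_le.2 hx.1)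
        have hR8 : 8 ≤ Nat.card R := by
          obtain ⟨k, hk⟩ := (s.hP.to_subgroup R).exists_card_eq
          rw [hk] at hbig ⊢
          rcases k with _ | _ | _ | k
          · simp at hbig
          · simp at hbig
          · simp at hbig
          · exact le_trans (by norm_num) (Nat.pow_le_pow_right two_pos (show 3 ≤ k + 1 + 1 + 1 by omega))
        have heq := eq_of_le_of_card_ge hle (by omega)
        have hgc : ∀ t : P, dlt a (g * t * g⁻¹) = g * dlt a t * g⁻¹ := fun t => by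
          have h1 : a * g = g * a := hMa g hg
          have h2 : g⁻¹ * a⁻¹ = a⁻¹ * g⁻¹ := by rw [← mul_inv_rev, ← mul_inv_rev, h1]
          calc g * t * g⁻¹ * (a * (g * t * g⁻¹) * a⁻¹)
              = g * t * g⁻¹ * ((a * g) * t * (g⁻¹ * a⁻¹)) := by group
            _ = g * t * g⁻¹ * ((g * a) * t * (a⁻¹ * g⁻¹)) := by rw [h1, h2]
            _ = _ := by simp only [dlt]; group
        let K : Subgroup P :=
          { carrier := {t | t ∈ B ∧ dlt a (g * t * g⁻¹) = dlt a t}
            one_mem' := ⟨one_mem _, by simp⟩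
            mul_mem' := fun {t u} ht hu => ⟨mul_mem ht.1 hu.1, by
              rw [show g * (t * u) * g⁻¹ = g * t * g⁻¹ * (g * u * g⁻¹) by group,
                dlt_mul s.hB a (s.normal.conj_mem t ht.1 g) (s.normal.conj_mem u hu.1 g),
                dlt_mul s.hB a ht.1 hu.1, ht.2, hu.2]⟩
            inv_mem' := fun {t} ht => by
              show t⁻¹ ∈ B ∧ _
              rw [s.hB.inv_eq ht.1]
              exact ⟨ht.1, ht.2⟩ }
        have hK : R ⊔ zpowers x ≤ K := sup_le (fun t ht => ⟨ht.1, by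
            rw [← mem_centralizer_singleton_iff.1 ht.2, mul_inv_cancel_right]⟩)
          (zpowers_le.2 ⟨hx.1, by
            rw [hgc, (dlt_eq_one s.hB a hx.1).2 (hEa x hx)]; group⟩)
        obtain ⟨y, hy, hyx⟩ := hsurj x hx
        have h3 := (hK (heq.ge hy)).2
        rw [hgc, hyx, conj_eq_iff] at h3
        exact h3.symm
      exact hbig (s.fixed_le_four hgA fun hgB => hw1 (by
        rw [← hgw, (QuotientGroup.eq_one_iff g).2 hgB]))
  push Not at hmove
  obtain ⟨e0, he0, he0m⟩ := hmove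
  have ha2a : a2 * a2 = 1 := s.hA a2 ha2
  have haa2 : Commute a a2 := s.hA.comm ha ha2
  set d := dlt a2 e0
  have hd1 : d ≠ 1 := fun h => he0m ((dlt_eq_one s.hB a2 he0.1).1 h)
  have hdF : d ∈ A ⊓ B := by
    have he0' : Commute a e0 := hEa e0 he0
    refine mem_inf.2 ⟨s.mem_A hgen (fun f hf => s.hB.comm hf.2 (dlt_mem a2 he0.1)) ?_
      (dlt_fixed s.hB ha2a he0.1), dlt_mem a2 he0.1⟩
    exact (he0'.mul_right ((haa2.mul_right he0').mul_right haa2.inv_right)).eq
  have hF2 : Nat.card (A ⊓ B : Subgroup P) ≤ 2 := by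
    have hlt : A ⊓ B < E := lt_of_le_of_ne hFE fun e' =>
      he0m (s.hA.comm ha2 (mem_inf.1 (e'.ge he0)).1)
    have := two_mul_card_le hlt
    omega
  obtain ⟨z, hzF, hz1, hzc⟩ := s.exists_central
  have hFc : ∀ f ∈ A ⊓ B, ∀ x : P, f * x = x * f := by
    intro f hf x
    rcases two_cases hF2 hzF hz1 hf with rfl | rfl
    · rw [one_mul, mul_one]
    · exact (mem_center_iff.1 hzc x).symm
  set Q := A.map (QuotientGroup.mk' B)
  refine gen_four_sixteen s.hP B s.hB h16.le hBC Q ?_ (le_antisymm ?_ ?_) ?_ H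
  · have h1 := ((QuotientGroup.mk' B).comp A.subtype).ker.card_mul_index
    rw [index_ker, s.hA8] at h1
    have h2 : Nat.card ((QuotientGroup.mk' B).comp A.subtype).ker =
        Nat.card (A ⊓ B : Subgroup P) := by
      refine Nat.card_congr ⟨fun x => ⟨x.1, mem_inf.2 ⟨x.1.2, (QuotientGroup.eq_one_iff _).1
        (MonoidHom.mem_ker.1 x.2)⟩⟩, fun x => ⟨⟨x.1, x.2.1⟩, MonoidHom.mem_ker.2
        ((QuotientGroup.eq_one_iff _).2 x.2.2)⟩, fun x => rfl, fun x => rfl⟩
    rw [MonoidHom.range_comp, range_subtype, h2] at h1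
    have := s.two_le
    nlinarith
  · intro q hq
    obtain ⟨x, rfl⟩ := QuotientGroup.mk_surjective q
    obtain ⟨y, hy, hyc⟩ := hlift x (comm_mem_of_commute (mem_centralizer_iff.1 hq _ ⟨a, ha, rfl⟩))
    set x1 := x * y
    have hx1 : (x1 : P ⧸ B) = x := by
      rw [QuotientGroup.mk_mul, (QuotientGroup.eq_one_iff y).2 hy, mul_one]
    have he' : x1⁻¹ * (a2 * x1 * a2⁻¹) ∈ B := comm_mem_of_commute (by
      rw [hx1]; exact mem_centralizer_iff.1 hq _ ⟨a2, ha2, rfl⟩)
    have hyc' : Commute a x1 := hyc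
    have hef : x1⁻¹ * (a2 * x1 * a2⁻¹) ∈ A ⊓ B := mem_inf.2
      ⟨s.mem_A hgen (fun f hf => hFc f hf _)
        (hyc'.inv_right.mul_right ((haa2.mul_right hyc').mul_right haa2.inv_right)).eq
        (comm_fixed s.hB ha2a he'), he'⟩
    obtain ⟨y2, hy2, hy2e⟩ : ∃ y2 ∈ E, x1⁻¹ * (a2 * x1 * a2⁻¹) = dlt a2 y2 := by
      rcases two_cases hF2 hdF hd1 hef with h | h
      · exact ⟨1, one_mem _, by rw [h]; simp [dlt]⟩
      · exact ⟨e0, he0, h⟩
    refine ⟨x1 * y2, s.mem_A hgen (fun f hf => hFc f hf _)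
      (hyc'.mul_right (hEa y2 hy2)).eq (adjust s.hB hy2.1 hy2e), ?_⟩
    rw [QuotientGroup.mk'_apply, QuotientGroup.mk_mul, hx1, (QuotientGroup.eq_one_iff y2).2 hy2.1,
      mul_one]
  · rintro _ ⟨x, hx, rfl⟩
    refine mem_centralizer_iff.2 ?_
    rintro _ ⟨y, hy, rfl⟩
    rw [← map_mul, ← map_mul, s.hA.comm hy hx]
  · intro w hwQ hw1
    obtain ⟨g, hg, hgw⟩ := hwQ
    rw [QuotientGroup.mk'_apply] at hgw
    rw [inf_cent_congr s.hB (QuotientGroup.eq.1 hgw)]
    exact s.fixed_le_four hg fun hgB => hw1 (by rw [← hgw, (QuotientGroup.eq_one_iff g).2 hgB])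

theorem gen_eight {a : P} (ha : a ∈ A) (haB : a ∉ B) (h8 : Nat.card B = 8) (H : Subgroup P) :
    Gen H 4 := by
  classical
  haveI := s.normal
  haveI : Fact (Nat.Prime 2) := ⟨Nat.prime_two⟩
  set C := centralizer (B : Set P) with hCdef
  by_cases hCB : C ≤ B
  · exact gen_four_of_cent_eq s.hP B s.hB h8 (le_antisymm hCB s.hB.le_centralizer) H
  have haa : a * a = 1 := s.hA a ha
  obtain ⟨hE4, -⟩ := s.card_fixed ha haB
  set E := B ⊓ centralizer ({a} : Set P)
  have hEa : ∀ x ∈ E, a * x = x * a := fun x hx => (mem_centralizer_singleton_iff.1 hx.2).symm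
  have hFE : A ⊓ B ≤ E := fun f hf =>
    mem_inf.2 ⟨hf.2, mem_centralizer_singleton_iff.2 (s.hA.comm hf.1 ha)⟩
  have hdE : ∀ y ∈ B, dlt a y ∈ E := fun y hy =>
    mem_inf.2 ⟨dlt_mem a hy, mem_centralizer_singleton_iff.2 (dlt_fixed s.hB haa hy).symm⟩
  set R := (dltHom s.hB a).range.map B.subtype
  have hR2 : Nat.card R = 2 := by
    have hr := card_range_dlt s.hB a
    rw [hE4, h8] at hr
    rw [card_map_of_injective B.subtype_injective]
    omega
  have hRmem : ∀ y ∈ B, dlt a y ∈ R := fun y hy =>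
    ⟨dltHom s.hB a ⟨y, hy⟩, ⟨_, rfl⟩, rfl⟩
  obtain ⟨v, hvR, hv1⟩ : ∃ v ∈ R, v ≠ 1 := by
    by_contra! hall
    haveI : Subsingleton R := ⟨fun x y => Subtype.ext (by rw [hall x x.2, hall y y.2])⟩
    rw [Nat.card_unique] at hR2
    omega
  have hd : ∀ y ∈ B, dlt a y = 1 ∨ dlt a y = v := fun y hy =>
    two_cases hR2.le hvR hv1 (hRmem y hy)
  obtain ⟨yv, hyv, hyvv⟩ : ∃ y ∈ B, dlt a y = v := by
    obtain ⟨_, ⟨y, rfl⟩, hy⟩ := hvR
    exact ⟨y, y.2, hy⟩
  have hvE : v ∈ E := hyvv ▸ hdE yv hyv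
  have hlift : ∀ x : P, x⁻¹ * (a * x * a⁻¹) = 1 ∨ x⁻¹ * (a * x * a⁻¹) = v →
      ∃ y ∈ B, a * (x * y) = x * y * a := by
    rintro x (h | h)
    · exact ⟨1, one_mem _, adjust s.hB (one_mem _) (by rw [h]; simp [dlt])⟩
    · exact ⟨yv, hyv, adjust s.hB hyv (by rw [h, hyvv])⟩
  have hsmall : ∀ x ∈ C, (x⁻¹ * (a * x * a⁻¹) = 1 ∨ x⁻¹ * (a * x * a⁻¹) = v) → x ∈ B := by
    intro x hx h
    obtain ⟨y, hy, hyc⟩ := hlift x h
    simpa using
      mul_mem (s.cent_fixed ha haB (mul_mem hx (s.hB.le_centralizer hy)) hyc) (inv_mem hy)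
  obtain ⟨c, hcC, hcB, hcg⟩ := CfsgLib.OddLocal.exists_central_mod s.hP B C
    (lt_of_le_not_ge s.hB.le_centralizer hCB)
  have hcB' : ∀ g : P, c⁻¹ * (g * c * g⁻¹) ∈ B := fun g => by
    have h := s.normal.conj_mem _ (hcg g) c⁻¹
    rwa [inv_inv, show c⁻¹ * (g * c * g⁻¹ * c⁻¹) * c = c⁻¹ * (g * c * g⁻¹) by group] at h
  set e := c⁻¹ * (a * c * a⁻¹) with hedef
  have heE : e ∈ E :=
    mem_inf.2 ⟨hcB' a, mem_centralizer_singleton_iff.2 (comm_fixed s.hB haa (hcB' a)).symm⟩
  have he1 : e ≠ 1 := fun h => hcB (hsmall c hcC (Or.inl h))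
  have hev : e ≠ v := fun h => hcB (hsmall c hcC (Or.inr h))
  have hEcases : ∀ {x}, x ∈ E → x = 1 ∨ x = v ∨ x = e ∨ x = v * e := fun hx =>
    four_cases (s.hB.mono inf_le_left) hE4.le hvE heE hv1 he1 hev hx
  have hBc : ∀ {y}, y ∈ B → y * c = c * y := fun hy => mem_centralizer_iff.1 hcC _ hy
  have hce : a * c * a⁻¹ = c * e := by rw [hedef]; group
  -- `C(B)` has only two cosets fixed by `a`
  have hcoset : ∀ x ∈ C, x⁻¹ * (a * x * a⁻¹) ∈ B → x ∈ B ∨ c⁻¹ * x ∈ B := by
    intro x hx hxB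
    have hf : x⁻¹ * (a * x * a⁻¹) ∈ E :=
      mem_inf.2 ⟨hxB, mem_centralizer_singleton_iff.2 (comm_fixed s.hB haa hxB).symm⟩
    have key : (c⁻¹ * x)⁻¹ * (a * (c⁻¹ * x) * a⁻¹) = e * (x⁻¹ * (a * x * a⁻¹)) := by
      have h1 : e * c⁻¹ = c⁻¹ * e := mem_centralizer_iff.1 (inv_mem hcC) e heE.1
      calc (c⁻¹ * x)⁻¹ * (a * (c⁻¹ * x) * a⁻¹)
          = x⁻¹ * (c * (a * c * a⁻¹)⁻¹) * x * (x⁻¹ * (a * x * a⁻¹)) := by group
        _ = x⁻¹ * (c * (e⁻¹ * c⁻¹)) * x * (x⁻¹ * (a * x * a⁻¹)) := by rw [hce, mul_inv_rev]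
        _ = x⁻¹ * (c * (c⁻¹ * e)) * x * (x⁻¹ * (a * x * a⁻¹)) := by
          rw [s.hB.inv_eq heE.1, h1]
        _ = x⁻¹ * (e * x) * (x⁻¹ * (a * x * a⁻¹)) := by group
        _ = _ := by rw [mem_centralizer_iff.1 hx e heE.1]; group
    have hcx : c⁻¹ * x ∈ C := mul_mem (inv_mem hcC) hx
    rcases hEcases hf with h | h | h | h
    · exact Or.inl (hsmall x hx (Or.inl h))
    · exact Or.inl (hsmall x hx (Or.inr h))
    · exact Or.inr (hsmall _ hcx (Or.inl (by rw [key, h, s.hB e heE.1])))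
    · refine Or.inr (hsmall _ hcx (Or.inr ?_))
      rw [key, h, ← mul_assoc, s.hB.comm heE.1 hvE.1, mul_assoc, s.hB e heE.1, mul_one]
  set t := c * c with htdef
  have hts : ∀ {y}, y ∈ B → c * y * (c * y) = t := fun {y} hy => by
    calc c * y * (c * y) = c * (y * c) * y := by group
      _ = c * (c * y) * y := by rw [hBc hy]
      _ = t * (y * y) := by rw [htdef]; group
      _ = t := by rw [s.hB y hy, mul_one]
  have htc : ∀ g : P, g * t * g⁻¹ = t := fun g => by
    rw [show g * t * g⁻¹ = g * c * g⁻¹ * (g * c * g⁻¹) by rw [htdef]; group,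
      show g * c * g⁻¹ = c * (c⁻¹ * (g * c * g⁻¹)) by group]
    exact hts (hcB' g)
  have htB : t ∈ B := by
    refine (hcoset t (mul_mem hcC hcC) ?_).resolve_right fun h => hcB ?_
    · rw [htc, inv_mul_cancel]; exact one_mem _
    · rwa [htdef, inv_mul_cancel_left] at h
  have htE : t ∈ E :=
    mem_inf.2 ⟨htB, mem_centralizer_singleton_iff.2 (conj_eq_iff.1 (htc a)).symm⟩
  -- the preimage of `⟨c⟩`
  let B1 : Subgroup P :=
    { carrier := {x | x ∈ B ∨ c⁻¹ * x ∈ B}
      one_mem' := Or.inl (one_mem B)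
      mul_mem' := fun {x y} hx hy => by
        rcases hx with hx | hx <;> rcases hy with hy | hy
        · exact Or.inl (mul_mem hx hy)
        · refine Or.inr ?_
          rw [show c⁻¹ * (x * y) = c⁻¹ * (x * c) * (c⁻¹ * y) by group, hBc hx, inv_mul_cancel_left]
          exact mul_mem hx hy
        · refine Or.inr ?_
          rw [← mul_assoc]
          exact mul_mem hx hy
        · refine Or.inl ?_
          rw [show x * y = c * ((c⁻¹ * x) * c) * (c⁻¹ * y) by group, hBc hx,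
            show c * (c * (c⁻¹ * x)) = t * (c⁻¹ * x) by rw [htdef]; group]
          exact mul_mem (mul_mem htB hx) hy
      inv_mem' := fun {x} hx => by
        rcases hx with hx | hx
        · exact Or.inl (inv_mem hx)
        · refine Or.inr ?_
          rw [show c⁻¹ * x⁻¹ = c⁻¹ * (c⁻¹ * x)⁻¹ * c⁻¹ by group, s.hB.inv_eq hx,
            mul_assoc, mem_centralizer_iff.1 (inv_mem hcC) _ hx,
            show c⁻¹ * (c⁻¹ * (c⁻¹ * x)) = t⁻¹ * (c⁻¹ * x) by rw [htdef]; group]
          exact mul_mem (inv_mem htB) hx }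
  have ht1 : t ≠ 1 := by
    intro ht
    have hlt : B < B1 := lt_of_le_not_ge (fun x hx => Or.inl hx) fun hle =>
      hcB (hle (Or.inr (by rw [inv_mul_cancel]; exact one_mem _)))
    have h2 := two_mul_card_le hlt
    have := s.hmax B1 ⟨fun x hx g => by
      rcases hx with hx | hx
      · exact Or.inl (s.normal.conj_mem x hx g)
      · refine Or.inr ?_
        rw [show c⁻¹ * (g * x * g⁻¹) = c⁻¹ * (g * c * g⁻¹) * (g * (c⁻¹ * x) * g⁻¹) by group]
        exact mul_mem (hcB' g) (s.normal.conj_mem _ hx g)⟩ fun x hx => by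
      rcases hx with hx | hx
      · exact s.hB x hx
      · rw [show x = c * (c⁻¹ * x) by group, hts hx, ht]
    omega
  by_cases htv : t = v
  · have hCB1 : C ≤ B1 := by
      by_contra hne
      obtain ⟨x, hx, hxB1, hxf⟩ := exists_comm_mem s.hP (a := a) haa
        (fun x hx => Normal.conj_mem inferInstance x hx a) hne
      rcases hxf with hfB | hfB
      · exact hxB1 (hcoset x hx hfB)
      · set f := x⁻¹ * (a * x * a⁻¹)
        set b := c⁻¹ * f
        have hinv : a * f * a⁻¹ = f⁻¹ := by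
          calc a * f * a⁻¹ = (a * x * a⁻¹)⁻¹ * (a * a * x * (a * a)⁻¹) := by simp only [f]; group
            _ = (a * x * a⁻¹)⁻¹ * x := by rw [haa, inv_one, one_mul, mul_one]
            _ = f⁻¹ := by simp only [f]; group
        have hl : a * f * a⁻¹ = c * (e * (a * b * a⁻¹)) := by
          rw [show f = c * b from (mul_inv_cancel_left c f).symm,
            show a * (c * b) * a⁻¹ = a * c * a⁻¹ * (a * b * a⁻¹) by group, hce, mul_assoc]
        have hr : f⁻¹ = c * (b * t) := by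
          calc f⁻¹ = (c * b)⁻¹ := by rw [show c * b = f from mul_inv_cancel_left c f]
            _ = b⁻¹ * c⁻¹ := mul_inv_rev c b
            _ = b * c⁻¹ := by rw [s.hB.inv_eq hfB]
            _ = c⁻¹ * b := mem_centralizer_iff.1 (inv_mem hcC) b hfB
            _ = c * (t⁻¹ * b) := by rw [htdef]; group
            _ = c * (b * t) := by rw [s.hB.inv_eq htB, s.hB.comm htB hfB]
        have h2 := mul_left_cancel (hl.symm.trans (hinv.trans hr))
        have h3 : e = dlt a b * t := by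
          calc e = e * (a * b * a⁻¹) * (a * b * a⁻¹) := by
                rw [mul_assoc, s.hB _ (s.normal.conj_mem b hfB a), mul_one]
            _ = b * t * (a * b * a⁻¹) := by rw [h2]
            _ = b * (a * b * a⁻¹) * t := by
                rw [mul_assoc, s.hB.comm htB (s.normal.conj_mem b hfB a), ← mul_assoc]
            _ = _ := rfl
        rcases hd b hfB with h4 | h4 <;> rw [h4, htv] at h3
        · exact hev (by rw [h3, one_mul])
        · exact he1 (by rw [h3, s.hB v hvE.1])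
    have hcomm : ∀ b ∈ B, a * b * a⁻¹ * b⁻¹ = dlt a b := fun b hb => by
      rw [s.hB.inv_eq hb, s.hB.comm (s.normal.conj_mem b hb a) hb]; rfl
    have hae : a * c * a⁻¹ * c⁻¹ = e := by rw [hce, ← hBc heE.1, mul_inv_cancel_right]
    exact gen_four_line s.hP B s.hB h8 a c v hcC hvE.1 hv1
      (mem_center_iff.2 fun g => conj_eq_iff.1 (htv ▸ htc g)) htv
      (fun x hx => hCB1 hx) (fun b hb => by rw [hcomm b hb]; exact hd b hb)
      (hae ▸ heE.1) (hae ▸ he1) (hae ▸ hev) H
  -- `t` and `v` generate `E`, and `C(a) = A`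
  have hgv : ∀ g : P, a * g = g * a → g * v = v * g := by
    intro g hg
    have h1 : dlt a (g * yv * g⁻¹) = g * v * g⁻¹ := by
      rw [← hyvv]
      have h2 : g⁻¹ * a⁻¹ = a⁻¹ * g⁻¹ := by rw [← mul_inv_rev, ← mul_inv_rev, hg]
      calc g * yv * g⁻¹ * (a * (g * yv * g⁻¹) * a⁻¹)
          = g * yv * g⁻¹ * ((a * g) * yv * (g⁻¹ * a⁻¹)) := by group
        _ = g * yv * g⁻¹ * ((g * a) * yv * (a⁻¹ * g⁻¹)) := by rw [hg, h2]
        _ = _ := by simp only [dlt]; group
    rcases hd _ (s.normal.conj_mem yv hyv g) with h | h <;> rw [h1] at h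
    · exact absurd (conj_eq_one_iff.1 h) hv1
    · exact conj_eq_iff.1 h
  have hgE : ∀ g : P, a * g = g * a → ∀ x ∈ E, x * g = g * x := by
    intro g hg x hx
    have h1 : v * g = g * v := (hgv g hg).symm
    have h2 : t * g = g * t := (conj_eq_iff.1 (htc g)).symm
    rcases four_cases (s.hB.mono inf_le_left) hE4.le hvE htE hv1 ht1 htv hx with
      rfl | rfl | rfl | rfl
    · rw [one_mul, mul_one]
    · exact h1
    · exact h2
    · rw [mul_assoc, h2, ← mul_assoc, h1, mul_assoc]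
  obtain ⟨a2, ha2, hgen⟩ := exists_third s.hA s.hA8 s.two_le ha haB
  have hEA : E ≤ A ⊓ B := fun x hx => mem_inf.2
    ⟨s.mem_A hgen (fun f hf => s.hB.comm hf.2 hx.1) (hEa x hx)
      (hgE a2 (s.hA.comm ha ha2) x hx).symm, hx.1⟩
  have hlt : A ⊓ B < (A ⊓ B) ⊔ zpowers a := lt_of_le_of_ne le_sup_left fun e' =>
    haB (mem_inf.1 (e' ▸ mem_sup_right (mem_zpowers a) : a ∈ A ⊓ B)).2
  have hAgen : A ≤ (A ⊓ B) ⊔ zpowers a := by
    refine (eq_of_le_of_card_ge (sup_le inf_le_left (zpowers_le.2 ha)) ?_).ge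
    have := two_mul_card_le hlt
    have h4 : Nat.card (A ⊓ B : Subgroup P) = 4 := by rw [le_antisymm hFE hEA]; exact hE4
    rw [s.hA8]
    omega
  have hMA : ∀ g : P, a * g = g * a → g ∈ A := fun g hg =>
    s.mem_A (le_sup_of_le_left hAgen : A ≤ (A ⊓ B) ⊔ zpowers a ⊔ zpowers a)
      (fun f hf => hgE g hg f (hFE hf)) hg hg
  have haimg : ∀ x ∈ A, (x : P ⧸ B) = 1 ∨ (x : P ⧸ B) = a := by
    intro x hx
    have hle : (A ⊓ B) ⊔ zpowers a ≤ (zpowers (a : P ⧸ B)).comap (QuotientGroup.mk' B) :=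
      sup_le (fun f hf => by
        rw [mem_comap, QuotientGroup.mk'_apply, (QuotientGroup.eq_one_iff f).2 hf.2]
        exact one_mem _) (zpowers_le.2 (mem_zpowers _))
    obtain ⟨i, hi⟩ := mem_zpowers_iff.1 (hle (hAgen hx))
    rw [QuotientGroup.mk'_apply] at hi
    have h2 : (a : P ⧸ B) * a = 1 := by rw [← QuotientGroup.mk_mul, haa, QuotientGroup.mk_one]
    rcases Int.even_or_odd' i with ⟨l, rfl | rfl⟩
    · rw [zpow_mul, zpow_two, h2, one_zpow] at hi
      exact Or.inl hi.symm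
    · rw [zpow_add, zpow_mul, zpow_two, h2, one_zpow, one_mul, zpow_one] at hi
      exact Or.inr hi.symm
  set aq : P ⧸ B := (a : P ⧸ B)
  set cq : P ⧸ B := (c : P ⧸ B)
  have hcz : ∀ q : P ⧸ B, Commute cq q := by
    intro q
    obtain ⟨g, rfl⟩ := QuotientGroup.mk_surjective q
    show (c : P ⧸ B) * g = g * c
    rw [← QuotientGroup.mk_mul, ← QuotientGroup.mk_mul]
    refine QuotientGroup.eq.2 ?_
    have h := s.normal.conj_mem _ (hcB' g) g⁻¹
    rwa [inv_inv, show g⁻¹ * (c⁻¹ * (g * c * g⁻¹)) * g = (c * g)⁻¹ * (g * c) by group] at h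
  have hcc2 : cq * cq = 1 := by
    show (c : P ⧸ B) * c = 1
    rw [← QuotientGroup.mk_mul, QuotientGroup.eq_one_iff]
    exact htB
  set Q := centralizer ({aq} : Set (P ⧸ B))
  have hone : ∀ x : P, (x⁻¹ * (a * x * a⁻¹) = 1 ∨ x⁻¹ * (a * x * a⁻¹) = v) →
      (x : P ⧸ B) = 1 ∨ (x : P ⧸ B) = aq := by
    intro x hx
    obtain ⟨y, hy, hyc⟩ := hlift x hx
    have h := haimg _ (hMA _ hyc)
    rwa [QuotientGroup.mk_mul, (QuotientGroup.eq_one_iff y).2 hy, mul_one] at h
  have hQc : ∀ q ∈ Q, q = 1 ∨ q = aq ∨ q = cq ∨ q = aq * cq := by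
    intro q hq
    obtain ⟨x, rfl⟩ := QuotientGroup.mk_surjective q
    have hxa : (a : P ⧸ B) * x = x * a := (mem_centralizer_singleton_iff.1 hq).symm
    have hf := comm_mem_of_commute hxa
    have hfE : x⁻¹ * (a * x * a⁻¹) ∈ E :=
      mem_inf.2 ⟨hf, mem_centralizer_singleton_iff.2 (comm_fixed s.hB haa hf).symm⟩
    have key : (x * c)⁻¹ * (a * (x * c) * a⁻¹) = x⁻¹ * (a * x * a⁻¹) * e := by
      calc (x * c)⁻¹ * (a * (x * c) * a⁻¹)
          = c⁻¹ * ((x⁻¹ * (a * x * a⁻¹)) * c) * (c⁻¹ * (a * c * a⁻¹)) := by group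
        _ = c⁻¹ * (c * (x⁻¹ * (a * x * a⁻¹))) * e := by rw [hBc hf, ← hedef]
        _ = _ := by group
    have hback : (↑(x * c) : P ⧸ B) = 1 ∨ (↑(x * c) : P ⧸ B) = aq →
        (x : P ⧸ B) = cq ∨ (x : P ⧸ B) = aq * cq := by
      rw [QuotientGroup.mk_mul]
      rintro (h | h)
      · exact Or.inl (mul_right_cancel (h.trans hcc2.symm))
      · exact Or.inr (mul_right_cancel (h.trans (by rw [mul_assoc, hcc2, mul_one])))
    rcases hEcases hfE with h | h | h | h
    · exact (hone x (Or.inl h)).imp id Or.inl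
    · exact (hone x (Or.inr h)).imp id Or.inl
    · exact Or.inr (Or.inr (hback (hone _ (Or.inl (by rw [key, h, s.hB e heE.1])))))
    · exact Or.inr (Or.inr (hback (hone _ (Or.inr (by
        rw [key, h, mul_assoc, s.hB e heE.1, mul_one])))))
  have hQQ : centralizer (Q : Set (P ⧸ B)) = Q := by
    refine le_antisymm (fun q hq => ?_) (fun p hp => mem_centralizer_iff.2 fun q hq => ?_)
    · exact mem_centralizer_singleton_iff.2
        (mem_centralizer_iff.1 hq aq (mem_centralizer_singleton_iff.2 rfl)).symm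
    · have hpa : Commute p aq := mem_centralizer_singleton_iff.1 hp
      rcases hQc q hq with rfl | rfl | rfl | rfl
      · rw [one_mul, mul_one]
      · exact hpa.symm.eq
      · exact (hcz p).eq
      · exact (hpa.symm.mul_left (hcz p)).eq
  have hX := fun K : Subgroup (P ⧸ B) =>
    selfCentral_small (s.hP.to_quotient B) Q (card_le_four Q _ _ _ hQc) hQQ K
  refine gen_four_eight B s.hB h8.le (fun K => (hX K).1) (fun H hHC _ hcy => ?_) H
  obtain ⟨q, hqH, hqQ, hq1, -⟩ := (hX (H.map (QuotientGroup.mk' B))).2.resolve_left hcy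
  obtain ⟨h, hh, rfl⟩ := hqH
  refine ⟨h, hh, ?_⟩
  rcases hcoset h (hHC hh) (comm_mem_of_commute (mem_centralizer_singleton_iff.1 hqQ).symm) with
    h1 | h1
  · exact absurd ((QuotientGroup.eq_one_iff h).2 h1) hq1
  · rw [show h = c * (c⁻¹ * h) by group, hts h1]
    exact ⟨htB, ht1⟩

end EightData

/-- A `2`-group with a self-centralizing elementary abelian subgroup of order `8` is
four-generated in every subgroup. -/
theorem gen_four_of_self_central_eight (hP : IsPGroup 2 P) (A : Subgroup P) (hA : Exp2 A)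
    (hA8 : Nat.card A = 8) (hC : centralizer (A : Set P) = A) (H : Subgroup P) : Gen H 4 := by
  classical
  by_cases hno : ∀ B : Subgroup P, B.Normal → IsMulCommutative B → (∀ b ∈ B, b ^ 2 = 1) →
      Nat.card B ≤ 4
  · exact gen_four_of_no_normal_eight hP hno H
  push Not at hno
  obtain ⟨B₀, hB₀n, -, hB₀2, hB₀4⟩ := hno
  let S := {B : Subgroup P // B.Normal ∧ Exp2 B}
  haveI : Nonempty S := ⟨⟨B₀, hB₀n, fun x hx => by rw [← pow_two]; exact hB₀2 x hx⟩⟩
  obtain ⟨⟨B, hBn, hB⟩, hmax⟩ := Finite.exists_max (fun B : S => Nat.card B.1)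
  have hB8 : 8 ≤ Nat.card B := by
    have h0 : Nat.card B₀ ≤ Nat.card B :=
      hmax ⟨B₀, hB₀n, fun x hx => by rw [← pow_two]; exact hB₀2 x hx⟩
    haveI : Fact (Nat.Prime 2) := ⟨Nat.prime_two⟩
    obtain ⟨k, hk⟩ := (hP.to_subgroup B).exists_card_eq
    have hk3 : 3 ≤ k := by
      by_contra hlt
      have := Nat.pow_le_pow_right two_pos (by omega : k ≤ 2)
      omega
    rw [hk]
    exact le_trans (by norm_num) (Nat.pow_le_pow_right two_pos hk3)
  have s : EightData A B :=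
    ⟨hP, hBn, hB, hA, hA8, hC, hB8, fun B' hn h2 => hmax ⟨B', hn, h2⟩⟩
  haveI := hBn
  by_cases hAB : A ≤ B
  · have hBA : B ≤ A := by
      rw [← hC]
      exact fun b hb => mem_centralizer_iff.2 fun x hx => hB.comm (hAB hx) hb
    obtain rfl := le_antisymm hAB hBA
    exact gen_four_of_cent_eq hP A hA hA8 hC H
  obtain ⟨a, ha, haB⟩ := SetLike.not_le_iff_exists.1 hAB
  rcases (s.card_fixed ha haB).2 with h | h
  · exact s.gen_eight ha haB h H
  · exact s.gen_sixteen ha haB h H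

end CfsgLib.SRank
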