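import Cfsg.Agent.Lib.SRank.Basic
import Cfsg.Agent.Lib.SRank.Plane
import Cfsg.Agent.Lib.Transfer.PPrimeAut

/-!
The setting of a maximal normal abelian subgroup `W` of exponent `4` in a `2`-group without normal
elementary abelian subgroup of order `8`.
-/

set_option autoImplicit false
set_option linter.style.haveILetI false

namespace CfsgLib.SRank

open Subgroup
open CfsgLib.TwoLinear (Gen)

variable {P : Type*} [Group P]

/-- The hypotheses on `W`. -/
structure Setting (W : Subgroup P) : Prop where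
  hP : IsPGroup 2 P
  normal : W.Normal
  comm : ∀ a ∈ W, ∀ b ∈ W, a * b = b * a
  exp : ∀ w ∈ W, w ^ 4 = 1
  alperin : ∀ x ∈ centralizer (W : Set P), x ^ 4 = 1 → x ∈ W
  small : ∀ A : Subgroup P, A.Normal → IsMulCommutative A → (∀ a ∈ A, a ^ 2 = 1) → Nat.card A ≤ 4

theorem exists_setting [Finite P] (hP : IsPGroup 2 P)
    (h : ∀ A : Subgroup P, A.Normal → IsMulCommutative A → (∀ a ∈ A, a ^ 2 = 1) → Nat.card A ≤ 4) :
    ∃ W : Subgroup P, Setting W := by
  classical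
  haveI : Fact (Nat.Prime 2) := ⟨Nat.prime_two⟩
  let S := {B : Subgroup P // B.Normal ∧ IsMulCommutative B ∧ ∀ b ∈ B, b ^ 4 = 1}
  haveI : Nonempty S := ⟨⟨⊥, inferInstance, inferInstance, fun b hb => by
    rw [mem_bot.1 hb, one_pow]⟩⟩
  obtain ⟨⟨W, hWn, hWc, hWe⟩, hmax⟩ := Finite.exists_max (fun B : S => Nat.card B.1)
  haveI := hWn
  haveI := hWc
  refine ⟨W, hP, hWn, fun a ha b hb => congrArg Subtype.val (hWc.is_comm.comm ⟨a, ha⟩ ⟨b, hb⟩), hWe,
    fun x hx hx4 => ?_, h⟩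
  exact CfsgLib.Transfer.mem_of_maximal_normal_abelian_exponent hP 2 (by norm_num) W
    (fun a ha => by simpa using hWe a ha)
    (fun B hBn hBc hBe hle => (eq_of_le_of_card_ge hle (hmax ⟨B, hBn, hBc, fun b hb => by
      simpa using hBe b hb⟩)).symm) hx (by simpa using hx4)

namespace Setting

variable {W : Subgroup P} (s : Setting W)
include s

theorem le_cent : W ≤ centralizer (W : Set P) :=
  fun a ha => mem_centralizer_iff.2 fun b hb => s.comm b hb a ha

theorem cent_normal : (centralizer (W : Set P)).Normal := by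
  haveI := s.normal
  infer_instance

/-- The elements of order at most `4` of `C(W)` are central in it. -/
theorem central {c x : P} (hc : c ∈ centralizer (W : Set P)) (hx : x ∈ centralizer (W : Set P))
    (hx4 : x ^ 4 = 1) : c * x = x * c :=
  (mem_centralizer_iff.1 hc x (s.alperin x hx hx4)).symm

omit s in
/-- The involutions of `W` with `1`. -/
def omega (W : Subgroup P) (h : ∀ a ∈ W, ∀ b ∈ W, a * b = b * a) : Subgroup P where
  carrier := {x | x ∈ W ∧ x * x = 1}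
  one_mem' := ⟨one_mem W, one_mul 1⟩
  mul_mem' := fun {a b} ha hb => ⟨mul_mem ha.1 hb.1, by
    rw [mul_assoc, ← mul_assoc b a b, h b hb.1 a ha.1, mul_assoc a b b, hb.2, mul_one, ha.2]⟩
  inv_mem' := fun {a} ha => ⟨inv_mem ha.1, by rw [← mul_inv_rev, ha.2, inv_one]⟩

/-- `Ω₁(W)`. -/
abbrev V : Subgroup P := omega W s.comm

theorem mem_V {x : P} : x ∈ s.V ↔ x ∈ W ∧ x * x = 1 := Iff.rfl

theorem V_le : s.V ≤ W := fun _ hx => hx.1

theorem sq_one_of_mem_V {x : P} (hx : x ∈ s.V) : x * x = 1 := hx.2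

theorem mem_V_of_cent {x : P} (hx : x ∈ centralizer (W : Set P)) (h2 : x * x = 1) : x ∈ s.V :=
  ⟨s.alperin x hx (by rw [show x ^ 4 = x * x * (x * x) by rw [pow_succ, pow_succ, pow_two]; group,
    h2, one_mul]), h2⟩

theorem V_normal : s.V.Normal := ⟨fun x hx g => ⟨s.normal.conj_mem x hx.1 g, by
  rw [show g * x * g⁻¹ * (g * x * g⁻¹) = g * (x * x) * g⁻¹ by group, hx.2, mul_one,
    mul_inv_cancel]⟩⟩

theorem card_V_le : Nat.card s.V ≤ 4 :=
  s.small s.V s.V_normal ⟨⟨fun a b => Subtype.ext (s.comm a a.2.1 b b.2.1)⟩⟩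
    fun a ha => by rw [pow_two]; exact ha.2

/-- An element of `C(W)` inverted by another one squares to `1`. -/
theorem mem_V_of_inverted {c x : P} (hc : c ∈ centralizer (W : Set P))
    (hx : x ∈ centralizer (W : Set P)) (h : c * x * c⁻¹ = x⁻¹) : x ∈ s.V :=
  s.mem_V_of_cent hx
    (sq_eq_one_of_inverted s.hP (S := centralizer (W : Set P))
      (fun y hy hy4 => s.central hc hy hy4) x hx h)

/-- Subgroups of `C(W)` are two-generated. -/
theorem gen_two [Finite P] (D : Subgroup P) (hD : D ≤ centralizer (W : Set P)) : Gen D 2 := by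
  refine gen_of_central_omega _ rfl (s.hP.to_subgroup D) (fun x hx => mem_center_iff.2 fun g =>
    Subtype.ext (s.central (hD g.2) (hD x.2) (by rw [← SubgroupClass.coe_pow, hx,
      OneMemClass.coe_one]))) 2 ?_
  refine le_trans ?_ s.card_V_le
  exact Nat.card_le_card_of_injective (fun x => (⟨(x.1 : P), s.mem_V_of_cent (hD x.1.2)
    (congrArg Subtype.val x.2)⟩ : s.V)) fun a b h =>
      Subtype.ext (Subtype.ext (congrArg (fun t : s.V => (t : P)) h))

end Setting

/-- A basis of `W ≅ C₄ × C₄`, with the square of the first vector central. -/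
structure Frame {W : Subgroup P} (s : Setting W) where
  w1 : P
  w2 : P
  hw1 : w1 ∈ W
  hw2 : w2 ∈ W
  hcen : w1 * w1 ∈ center P
  hinj : ∀ u : V2, (w1 * w1) ^ u.1.val * (w2 * w2) ^ u.2.val = 1 → u = 0
  hsurj : ∀ x ∈ s.V, ∃ u : V2, (w1 * w1) ^ u.1.val * (w2 * w2) ^ u.2.val = x

namespace Frame

variable {W : Subgroup P} {s : Setting W} (F : Frame s)

/-- The element of `V` with given coordinates. -/
def v (u : V2) : P := (F.w1 * F.w1) ^ u.1.val * (F.w2 * F.w2) ^ u.2.val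

/-- A square root in `W`. -/
def lift (u : V2) : P := F.w1 ^ u.1.val * F.w2 ^ u.2.val

theorem lift_mem (u : V2) : F.lift u ∈ W := mul_mem (pow_mem F.hw1 _) (pow_mem F.hw2 _)

theorem sq_mem_V {w : P} (hw : w ∈ W) : w * w ∈ s.V :=
  ⟨mul_mem hw hw, by
    rw [show w * w * (w * w) = w ^ 4 by rw [pow_succ, pow_succ, pow_two]; group]
    exact s.exp w hw⟩

theorem v_mem (u : V2) : F.v u ∈ s.V :=
  mul_mem (pow_mem (sq_mem_V F.hw1) _) (pow_mem (sq_mem_V F.hw2) _)

theorem mem_W {u : V2} : F.v u ∈ W := (F.v_mem u).1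

theorem sq_lift (u : V2) : F.lift u * F.lift u = F.v u := by
  have hc : Commute F.w1 F.w2 := s.comm _ F.hw1 _ F.hw2
  rw [lift, v, ((hc.pow_pow u.1.val u.2.val).symm).mul_mul_mul_comm, ← pow_two, ← pow_two,
    ← pow_two, ← pow_two, pow_right_comm, pow_right_comm F.w2]

theorem v_add (a b : V2) : F.v (a + b) = F.v a * F.v b := by
  have key : ∀ t : P, t * t = 1 → ∀ i j : ZMod 2, t ^ (i + j).val = t ^ i.val * t ^ j.val := by
    intro t ht i j
    rcases Plane.zsmul_cases i with rfl | rfl <;> rcases Plane.zsmul_cases j with rfl | rfl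
    · simp
    · simp
    · simp
    · rw [show ((1 : ZMod 2) + 1) = 0 by decide, show (1 : ZMod 2).val = 1 from rfl]
      simp [ht]
  have h1 : F.w1 * F.w1 ∈ s.V := sq_mem_V F.hw1
  have h2 : F.w2 * F.w2 ∈ s.V := sq_mem_V F.hw2
  have hc : Commute ((F.w1 * F.w1) ^ b.1.val) ((F.w2 * F.w2) ^ a.2.val) :=
    Commute.pow_pow (s.comm _ h1.1 _ h2.1) _ _
  rw [v, v, v, Prod.fst_add, Prod.snd_add, key _ h1.2, key _ h2.2, hc.mul_mul_mul_comm]

theorem v_zero : F.v 0 = 1 := by simp [v]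

theorem v_inj {a b : V2} (h : F.v a = F.v b) : a = b := by
  have h1 : F.v (a + b) = 1 := by rw [F.v_add, h, s.sq_one_of_mem_V (F.v_mem b)]
  have h2 : a + b = 0 := F.hinj _ h1
  calc a = a + b + b := by
        rw [add_assoc, show b + b = 0 from CharTwo.add_self_eq_zero b, add_zero]
    _ = b := by rw [h2, zero_add]

/-- Coordinates in `V`. -/
noncomputable def vi (x : P) : V2 :=
  open Classical in if h : x ∈ s.V then (F.hsurj x h).choose else 0

theorem v_vi {x : P} (hx : x ∈ s.V) : F.v (F.vi x) = x := by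
  rw [vi, dif_pos hx]
  exact (F.hsurj x hx).choose_spec

theorem vi_v (u : V2) : F.vi (F.v u) = u := F.v_inj (F.v_vi (F.v_mem u))

theorem vi_mul {x y : P} (hx : x ∈ s.V) (hy : y ∈ s.V) : F.vi (x * y) = F.vi x + F.vi y := by
  refine F.v_inj ?_
  rw [F.v_add, F.v_vi hx, F.v_vi hy, F.v_vi (mul_mem hx hy)]

/-- The class of an element of `W` modulo `V`. -/
noncomputable def cl (w : P) : V2 := F.vi (w * w)

theorem cl_lift (u : V2) : F.cl (F.lift u) = u := by rw [cl, F.sq_lift, F.vi_v]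

theorem cl_mul {a b : P} (ha : a ∈ W) (hb : b ∈ W) : F.cl (a * b) = F.cl a + F.cl b := by
  rw [cl, cl, cl, ← F.vi_mul (sq_mem_V ha) (sq_mem_V hb),
    (show Commute b a from s.comm b hb a ha).mul_mul_mul_comm]

theorem cl_eq_zero_iff {w : P} (hw : w ∈ W) : F.cl w = 0 ↔ w ∈ s.V := by
  constructor
  · intro h
    refine ⟨hw, ?_⟩
    have := F.v_vi (sq_mem_V (s := s) hw)
    rw [← cl, h, F.v_zero] at this
    exact this.symm
  · intro h
    rw [cl, h.2, ← F.v_zero, F.vi_v]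

theorem cl_V {x : P} (hx : x ∈ s.V) : F.cl x = 0 := (F.cl_eq_zero_iff hx.1).2 hx

theorem exists_split {w : P} (hw : w ∈ W) : ∃ t ∈ s.V, w = F.lift (F.cl w) * t := by
  refine ⟨(F.lift (F.cl w))⁻¹ * w, (F.cl_eq_zero_iff (mul_mem (inv_mem (F.lift_mem _)) hw)).1 ?_,
    by rw [mul_inv_cancel_left]⟩
  have h0 := F.cl_mul (inv_mem (F.lift_mem (F.cl w))) (F.lift_mem (F.cl w))
  rw [inv_mul_cancel, F.cl_V (one_mem _), F.cl_lift] at h0
  rw [F.cl_mul (inv_mem (F.lift_mem _)) hw]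
  exact h0.symm

/-- `C(V)`. -/
abbrev R (_F : Frame s) : Subgroup P := centralizer (s.V : Set P)

theorem R_normal : F.R.Normal := by
  haveI := s.V_normal
  infer_instance

theorem cent_le_R : centralizer (W : Set P) ≤ F.R := centralizer_le fun _ hx => hx.1

theorem comm_R {x t : P} (hx : x ∈ F.R) (ht : t ∈ s.V) : x * t = t * x :=
  (mem_centralizer_iff.1 hx t ht).symm

theorem tau_mem {x : P} (hx : x ∈ F.R) {w : P} (hw : w ∈ W) : x * w * x⁻¹ * w⁻¹ ∈ s.V := by
  have hxw : x * w * x⁻¹ ∈ W := s.normal.conj_mem w hw x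
  refine ⟨mul_mem hxw (inv_mem hw), ?_⟩
  rw [(show Commute w⁻¹ (x * w * x⁻¹) from s.comm _ (inv_mem hw) _ hxw).mul_mul_mul_comm,
    show x * w * x⁻¹ * (x * w * x⁻¹) = x * (w * w) * x⁻¹ by group,
    F.comm_R hx (sq_mem_V hw), mul_inv_cancel_right, ← mul_inv_rev, mul_inv_cancel]

include F in
theorem tau_mul {x : P} {a b : P} (ha : a ∈ W) (hb : b ∈ W) :
    x * (a * b) * x⁻¹ * (a * b)⁻¹ = x * a * x⁻¹ * a⁻¹ * (x * b * x⁻¹ * b⁻¹) := by
  have h1 : x * b * x⁻¹ * b⁻¹ ∈ W := mul_mem (s.normal.conj_mem b hb x) (inv_mem hb)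
  calc x * (a * b) * x⁻¹ * (a * b)⁻¹ = x * a * x⁻¹ * ((x * b * x⁻¹ * b⁻¹) * a⁻¹) := by group
    _ = x * a * x⁻¹ * (a⁻¹ * (x * b * x⁻¹ * b⁻¹)) := by rw [s.comm _ h1 _ (inv_mem ha)]
    _ = _ := by group

/-- The action of an element of `C(V)` on `W`. -/
noncomputable def psi (x : P) : M2 :=
  (F.vi (x * F.w1 * x⁻¹ * F.w1⁻¹), F.vi (x * F.w2 * x⁻¹ * F.w2⁻¹))

theorem tau_eq {x : P} (hx : x ∈ F.R) {w : P} (hw : w ∈ W) :
    x * w * x⁻¹ * w⁻¹ = F.v (Plane.ap (F.psi x) (F.cl w)) := by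
  obtain ⟨t, ht, hwt⟩ := F.exists_split hw
  have hti : x * t * x⁻¹ * t⁻¹ = 1 := by
    rw [F.comm_R hx ht, mul_inv_cancel_right, mul_inv_cancel]
  conv_lhs => rw [hwt, F.tau_mul (F.lift_mem _) ht.1, hti, mul_one]
  generalize F.cl w = u
  have h1 := F.tau_mem hx F.hw1
  have h2 := F.tau_mem hx F.hw2
  obtain ⟨a, b⟩ := u
  rw [lift]
  rcases Plane.zsmul_cases a with rfl | rfl <;> rcases Plane.zsmul_cases b with rfl | rfl <;>
    simp only [ZMod.val_zero, show (1 : ZMod 2).val = 1 from rfl, pow_zero, pow_one, one_mul, mul_one,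
      inv_one, mul_inv_cancel, Plane.ap, psi, mul_zero, add_zero, zero_add]
  · exact F.v_zero.symm
  · exact (F.v_vi h2).symm
  · exact (F.v_vi h1).symm
  · rw [F.tau_mul F.hw1 F.hw2, ← F.v_vi (mul_mem h1 h2), F.vi_mul h1 h2]
    rfl

theorem conj_eq {x : P} (hx : x ∈ F.R) {w : P} (hw : w ∈ W) :
    x * w * x⁻¹ = F.v (Plane.ap (F.psi x) (F.cl w)) * w := by
  rw [← F.tau_eq hx hw, inv_mul_cancel_right]

theorem psi_eq {x : P} (hx : x ∈ F.R) {X : M2}
    (h : ∀ u : V2, x * F.lift u * x⁻¹ = F.v (Plane.ap X u) * F.lift u) : F.psi x = X := by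
  have key : ∀ u : V2, Plane.ap (F.psi x) u = Plane.ap X u := fun u => by
    refine F.v_inj (mul_right_cancel (b := F.lift u) ?_)
    rw [← h, F.conj_eq hx (F.lift_mem _), F.cl_lift]
  exact Plane.ext_ap _ _ (key _) (key _)

theorem psi_mul {x y : P} (hx : x ∈ F.R) (hy : y ∈ F.R) :
    F.psi (x * y) = F.psi x + F.psi y := by
  refine F.psi_eq (mul_mem hx hy) fun u => ?_
  have hw := F.lift_mem u
  rw [Plane.ap_add_left, F.v_add,
    show x * y * F.lift u * (x * y)⁻¹ = x * (y * F.lift u * y⁻¹) * x⁻¹ by group, F.conj_eq hy hw,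
    F.cl_lift, show ∀ a : P, x * (a * F.lift u) * x⁻¹ = x * a * x⁻¹ * (x * F.lift u * x⁻¹) from
      fun a => by group, F.comm_R hx (F.v_mem _), mul_inv_cancel_right, F.conj_eq hx hw, F.cl_lift,
    ← mul_assoc, s.comm _ (F.mem_W) _ (F.mem_W)]

theorem psi_one : F.psi 1 = 0 := F.psi_eq (one_mem _) fun u => by
  rw [Plane.ap_zero_left, F.v_zero]; group

theorem psi_inv {x : P} (hx : x ∈ F.R) : F.psi x⁻¹ = F.psi x := by
  have h := F.psi_mul (inv_mem hx) hx
  rw [inv_mul_cancel, F.psi_one] at h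
  rw [eq_neg_of_add_eq_zero_left h.symm]
  exact CharTwo.neg_eq (F.psi x)

theorem psi_eq_zero_iff {x : P} (hx : x ∈ F.R) :
    F.psi x = 0 ↔ x ∈ centralizer (W : Set P) := by
  constructor
  · intro h
    refine mem_centralizer_iff.2 fun w hw => ?_
    have h1 := F.conj_eq hx hw
    rw [h, Plane.ap_zero_left, F.v_zero, one_mul] at h1
    exact (mul_inv_eq_iff_eq_mul.1 h1).symm
  · intro h
    refine F.psi_eq hx fun u => ?_
    rw [Plane.ap_zero_left, F.v_zero, one_mul, ← mem_centralizer_iff.1 h _ (F.lift_mem u),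
      mul_inv_cancel_right]

theorem psi_cent {x : P} (hx : x ∈ centralizer (W : Set P)) : F.psi x = 0 :=
  (F.psi_eq_zero_iff (F.cent_le_R hx)).2 hx

theorem sq_mem_cent {x : P} (hx : x ∈ F.R) : x * x ∈ centralizer (W : Set P) := by
  refine (F.psi_eq_zero_iff (mul_mem hx hx)).1 ?_
  rw [F.psi_mul hx hx]
  exact CharTwo.add_self_eq_zero _

open scoped Classical in
/-- The matrix of an element on `V`. -/
noncomputable def jm (g : P) : M2 := if g ∈ F.R then Plane.one else Plane.jay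

theorem conj_v (g : P) (u : V2) : g * F.v u * g⁻¹ = F.v (Plane.ap (F.jm g) u) := by
  classical
  by_cases hg : g ∈ F.R
  · rw [jm, if_pos hg, Plane.ap_one, F.comm_R hg (F.v_mem u), mul_inv_cancel_right]
  rw [jm, if_neg hg]
  have e1 : F.v (1, 0) = F.w1 * F.w1 := by simp [v, show (1 : ZMod 2).val = 1 from rfl]
  have h10 : ∀ g : P, g * F.v (1, 0) * g⁻¹ = F.v (1, 0) := fun g => by
    rw [e1, mem_center_iff.1 F.hcen g, mul_inv_cancel_right]
  have h01 : g * F.v (0, 1) * g⁻¹ = F.v (1, 1) := by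
    obtain ⟨t, ht⟩ := F.hsurj _ (s.V_normal.conj_mem _ (F.v_mem (0, 1)) g)
    change F.v t = _ at ht
    have hdec : ∀ t : V2, t = 0 ∨ t = (1, 0) ∨ t = (0, 1) ∨ t = (1, 1) := by decide
    rcases hdec t with rfl | rfl | rfl | rfl
    · rw [F.v_zero] at ht
      exact absurd (F.v_inj ((conj_eq_one_iff.1 ht.symm).trans F.v_zero.symm)) (by decide)
    · rw [← h10 g] at ht
      exact absurd (F.v_inj (mul_left_cancel (mul_right_cancel ht))) (by decide)
    · refine absurd (mem_centralizer_iff.2 fun x hx => ?_) hg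
      obtain ⟨u, hu⟩ := F.hsurj x hx
      change F.v u = x at hu
      rw [← hu]
      have h : ∀ u : V2, g * F.v u * g⁻¹ = F.v u := by
        intro u
        rcases hdec u with rfl | rfl | rfl | rfl
        · rw [F.v_zero]; group
        · exact h10 g
        · exact ht.symm
        · rw [show ((1, 1) : V2) = (1, 0) + (0, 1) by decide, F.v_add]
          calc g * (F.v (1, 0) * F.v (0, 1)) * g⁻¹
              = g * F.v (1, 0) * g⁻¹ * (g * F.v (0, 1) * g⁻¹) := by group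
            _ = _ := by rw [h10 g, ← ht]
      exact (mul_inv_eq_iff_eq_mul.1 (h u)).symm
    · exact ht.symm
  have hdec : ∀ t : V2, t = 0 ∨ t = (1, 0) ∨ t = (0, 1) ∨ t = (1, 1) := by decide
  rcases hdec u with rfl | rfl | rfl | rfl
  · rw [Plane.ap_zero_right, F.v_zero]; group
  · exact h10 g
  · exact h01
  · rw [show Plane.ap Plane.jay (1, 1) = (1, 0) + (1, 1) by decide, F.v_add,
      show ((1, 1) : V2) = (1, 0) + (0, 1) by decide, F.v_add]
    calc g * (F.v (1, 0) * F.v (0, 1)) * g⁻¹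
        = g * F.v (1, 0) * g⁻¹ * (g * F.v (0, 1) * g⁻¹) := by group
      _ = _ := by
        rw [h10 g, h01, show ((1, 1) : V2) = (1, 0) + (0, 1) by decide, F.v_add]

theorem cl_conj (g : P) {w : P} (hw : w ∈ W) :
    F.cl (g * w * g⁻¹) = Plane.ap (F.jm g) (F.cl w) := by
  refine F.v_inj ?_
  rw [cl, F.v_vi (sq_mem_V (s.normal.conj_mem w hw g)), ← F.conj_v, cl, F.v_vi (sq_mem_V hw)]
  group

theorem psi_conj (g : P) {x : P} (hx : x ∈ F.R) :
    F.psi (g * x * g⁻¹) = Plane.comp (F.jm g) (Plane.comp (F.psi x) (F.jm g)) := by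
  classical
  haveI := F.R_normal
  have hJ : ∀ u, Plane.ap (F.jm g) (Plane.ap (F.jm g) u) = u := by
    intro u
    rw [jm]
    split
    · rw [Plane.ap_one, Plane.ap_one]
    · exact Plane.jay_jay u
  refine F.psi_eq (Normal.conj_mem inferInstance x hx g) fun u => ?_
  set w := g⁻¹ * F.lift u * g with hw
  have hwW : w ∈ W := by
    rw [hw]; simpa using s.normal.conj_mem _ (F.lift_mem u) g⁻¹
  have hgw : g * w * g⁻¹ = F.lift u := by rw [hw]; group
  have hcl : F.cl w = Plane.ap (F.jm g) u := by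
    have := F.cl_conj g hwW
    rw [hgw, F.cl_lift] at this
    rw [this, hJ]
  calc g * x * g⁻¹ * F.lift u * (g * x * g⁻¹)⁻¹ = g * (x * w * x⁻¹) * g⁻¹ := by rw [hw]; group
    _ = g * F.v (Plane.ap (F.psi x) (F.cl w)) * g⁻¹ * (g * w * g⁻¹) := by
      rw [F.conj_eq hx hwW]; group
    _ = _ := by rw [F.conj_v, hgw, hcl, Plane.ap_comp, Plane.ap_comp]

theorem psi_conj_R {g x : P} (hg : g ∈ F.R) (hx : x ∈ F.R) : F.psi (g * x * g⁻¹) = F.psi x := by
  rw [F.psi_mul (mul_mem hg hx) (inv_mem hg), F.psi_mul hg hx, F.psi_inv hg, add_comm (F.psi g),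
    add_assoc, CharTwo.add_self_eq_zero, add_zero]

/-- An element of `C(W)` inverted by an element acting without fixed vector after adding `1`. -/
theorem mem_V_of_inverted [Finite P] {z : P} (hz : z ∈ F.R)
    (hY : Plane.Inj (Plane.one + F.psi z)) :
    ∀ c ∈ centralizer (W : Set P), z * c * z⁻¹ = c⁻¹ → c ∈ s.V := by
  intro c
  induction hn : orderOf c using Nat.strong_induction_on generalizing c with
  | _ n ih => ?_
  intro hc hinv
  by_cases hc1 : c = 1
  · rw [hc1]; exact one_mem _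
  haveI : Fact (Nat.Prime 2) := ⟨Nat.prime_two⟩
  have hlt : orderOf (c * c) < n := by
    subst hn
    obtain ⟨m, hm⟩ := IsPGroup.iff_orderOf.1 s.hP c
    have hm0 : m ≠ 0 := fun e => hc1 (orderOf_eq_one_iff.1 (by rw [hm, e, pow_zero]))
    rw [← pow_two, orderOf_pow' c two_ne_zero, hm, Nat.gcd_eq_right (dvd_pow_self 2 hm0)]
    exact Nat.div_lt_self (pow_pos two_pos m) one_lt_two
  have h2 := ih _ hlt (c * c) rfl (mul_mem hc hc) (by rw [← pow_two, ← conj_pow, hinv, inv_pow])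
  have hW : c ∈ W := s.alperin c hc (by
    rw [show c ^ 4 = c * c * (c * c) by rw [pow_succ, pow_succ, pow_two]; group]
    exact h2.2)
  refine (F.cl_eq_zero_iff hW).1 (hY _ ?_)
  refine F.v_inj ?_
  have h := F.conj_eq hz hW
  rw [hinv] at h
  rw [Plane.ap_add_left, Plane.ap_one, F.v_add, cl, F.v_vi (sq_mem_V hW), F.v_zero, ← cl,
    mul_assoc, s.comm _ hW _ F.mem_W, ← h, mul_inv_cancel]

/-- An element of `C(W)` fixed by an element acting without fixed vector. -/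
theorem mem_V_of_fixed [Finite P] {y : P} (hy : y ∈ F.R) (hY : Plane.Inj (F.psi y)) :
    ∀ c ∈ centralizer (W : Set P), y * c * y⁻¹ = c → c ∈ s.V := by
  intro c
  induction hn : orderOf c using Nat.strong_induction_on generalizing c with
  | _ n ih => ?_
  intro hc hfix
  by_cases hc1 : c = 1
  · rw [hc1]; exact one_mem _
  haveI : Fact (Nat.Prime 2) := ⟨Nat.prime_two⟩
  have hlt : orderOf (c * c) < n := by
    subst hn
    obtain ⟨m, hm⟩ := IsPGroup.iff_orderOf.1 s.hP c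
    have hm0 : m ≠ 0 := fun e => hc1 (orderOf_eq_one_iff.1 (by rw [hm, e, pow_zero]))
    rw [← pow_two, orderOf_pow' c two_ne_zero, hm, Nat.gcd_eq_right (dvd_pow_self 2 hm0)]
    exact Nat.div_lt_self (pow_pos two_pos m) one_lt_two
  have h2 := ih _ hlt (c * c) rfl (mul_mem hc hc) (by rw [← pow_two, ← conj_pow, hfix])
  have hW : c ∈ W := s.alperin c hc (by
    rw [show c ^ 4 = c * c * (c * c) by rw [pow_succ, pow_succ, pow_two]; group]
    exact h2.2)
  refine (F.cl_eq_zero_iff hW).1 (hY _ (F.v_inj ?_))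
  have h := F.conj_eq hy hW
  rw [hfix] at h
  rw [F.v_zero]
  exact right_eq_mul.1 h

theorem sq_mem_V_of_inj [Finite P] {y : P} (hy : y ∈ F.R) (hY : Plane.Inj (F.psi y)) :
    y * y ∈ s.V :=
  F.mem_V_of_fixed hy hY _ (F.sq_mem_cent hy) (by group)

/-- The central coset lemma: no element of such a coset squares into `V`. -/
theorem sq_notMem_V [Finite P] {z : P} (hz : z ∈ F.R) (hz0 : F.psi z ≠ 0)
    (hY : Plane.Inj (Plane.one + F.psi z)) (hinv : ∀ g : P, F.psi (g * z * g⁻¹) = F.psi z) :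
    z * z ∉ s.V := by
  intro hzz
  haveI := F.R_normal
  -- an involution in the coset
  obtain ⟨u, hu⟩ := Plane.surj_of_inj _ hY (F.vi (z * z))
  set z' := z * F.lift u
  have hz'R : z' ∈ F.R := mul_mem hz (F.cent_le_R (s.le_cent (F.lift_mem u)))
  have hz'2 : z' * z' = 1 := by
    calc z' * z' = z * F.lift u * z⁻¹ * (z * z) * F.lift u := by simp only [z']; group
      _ = F.v (Plane.ap (F.psi z) u) * F.lift u * (z * z) * F.lift u := by
        rw [F.conj_eq hz (F.lift_mem u), F.cl_lift]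
      _ = F.v (Plane.ap (F.psi z) u) * (z * z) * (F.lift u * F.lift u) := by
        rw [mul_assoc (F.v _) (F.lift u) (z * z), s.comm _ (F.lift_mem u) _ hzz.1]; group
      _ = F.v (Plane.ap (F.psi z) u) * (F.v u * F.v (F.vi (z * z))) := by
        rw [F.sq_lift, F.v_vi hzz, mul_assoc, s.comm _ hzz.1 _ F.mem_W]
      _ = 1 := by
        rw [← hu, ← F.v_add, ← F.v_add, Plane.ap_add_left, Plane.ap_one, ← F.v_zero]
        exact congrArg F.v (by
          rw [← add_assoc, add_comm (Plane.ap _ u) u]; exact CharTwo.add_self_eq_zero _)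
  have hz'psi : F.psi z' = F.psi z := by
    rw [F.psi_mul hz (F.cent_le_R (s.le_cent (F.lift_mem u))),
      F.psi_cent (s.le_cent (F.lift_mem u)), add_zero]
  have hz'V : z' ∉ s.V := fun h => hz0 (by
    rw [← hz'psi]; exact F.psi_cent (s.le_cent h.1))
  -- `V⟨z'⟩` is normal elementary abelian
  have hcong : ∀ g : P, g * z' * g⁻¹ * z'⁻¹ ∈ s.V := by
    intro g
    have hgR : g * z' * g⁻¹ ∈ F.R := Normal.conj_mem inferInstance z' hz'R g
    have hg : g * z' * g⁻¹ * z'⁻¹ ∈ centralizer (W : Set P) := by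
      refine (F.psi_eq_zero_iff (mul_mem hgR (inv_mem hz'R))).1 ?_
      have e : F.psi (g * z' * g⁻¹) = F.psi z' := by
        rw [F.psi_conj g hz'R, hz'psi, ← F.psi_conj g hz, hinv g]
      rw [F.psi_mul hgR (inv_mem hz'R), F.psi_inv hz'R, e]
      exact CharTwo.add_self_eq_zero _
    refine F.mem_V_of_inverted hz'R (by rw [hz'psi]; exact hY) _ hg ?_
    have h1 : g * z' * g⁻¹ * (g * z' * g⁻¹) = 1 := by
      rw [show g * z' * g⁻¹ * (g * z' * g⁻¹) = g * (z' * z') * g⁻¹ by group, hz'2]; group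
    rw [mul_inv_rev (g * z' * g⁻¹) z'⁻¹, inv_inv, inv_eq_of_mul_eq_one_right h1,
      show z' * (g * z' * g⁻¹ * z'⁻¹) * z'⁻¹ = z' * (g * z' * g⁻¹) * (z' * z')⁻¹ by group, hz'2,
      inv_one, mul_one]
  have hcomm : ∀ t ∈ s.V, z' * t = t * z' := fun t ht => F.comm_R hz'R ht
  set A := s.V ⊔ zpowers z'
  haveI := s.V_normal
  have hAn : A.Normal := ⟨fun a ha g => by
    obtain ⟨t, ht, p, hp, rfl⟩ := mem_sup_of_normal_left.1 ha
    obtain ⟨i, rfl⟩ := mem_zpowers_iff.1 hp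
    rw [show g * (t * z' ^ i) * g⁻¹ = g * t * g⁻¹ * (g * z' * g⁻¹) ^ i by rw [conj_zpow]; group]
    refine mul_mem (mem_sup_left (s.V_normal.conj_mem t ht g)) (zpow_mem ?_ i)
    rw [show g * z' * g⁻¹ = g * z' * g⁻¹ * z'⁻¹ * z' by group]
    exact mul_mem (mem_sup_left (hcong g)) (mem_sup_right (mem_zpowers z'))⟩
  have hform : ∀ a ∈ A, ∃ t ∈ s.V, a = t ∨ a = t * z' := by
    intro a ha
    obtain ⟨t, ht, p, hp, rfl⟩ := mem_sup_of_normal_left.1 ha
    obtain ⟨i, rfl⟩ := mem_zpowers_iff.1 hp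
    refine ⟨t, ht, ?_⟩
    rcases Int.even_or_odd' i with ⟨l, rfl | rfl⟩
    · left; rw [zpow_mul, zpow_two, hz'2, one_zpow, mul_one]
    · right; rw [zpow_add, zpow_mul, zpow_two, hz'2, one_zpow, one_mul, zpow_one]
  have hAsq : ∀ a ∈ A, a * a = 1 := by
    intro a ha
    obtain ⟨t, ht, rfl | rfl⟩ := hform a ha
    · exact ht.2
    · rw [(show Commute z' t from hcomm t ht).mul_mul_mul_comm, ht.2, hz'2, one_mul]
  have hAc : IsMulCommutative A := ⟨⟨fun a b => Subtype.ext (by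
    have hi : ∀ c ∈ A, c⁻¹ = c := fun c hc => inv_eq_of_mul_eq_one_right (hAsq c hc)
    show (a : P) * b = b * a
    rw [← hi _ (mul_mem a.2 b.2), mul_inv_rev, hi _ a.2, hi _ b.2])⟩⟩
  have hA4 := s.small A hAn hAc fun a ha => by rw [pow_two]; exact hAsq a ha
  have hV4 : Nat.card V2 ≤ Nat.card s.V :=
    Nat.card_le_card_of_injective (fun u => (⟨F.v u, F.v_mem u⟩ : s.V)) fun a b h =>
      F.v_inj (congrArg Subtype.val h)
  have hlt : Nat.card s.V < Nat.card A := by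
    refine Nat.lt_of_le_of_ne (card_le_of_le le_sup_left) fun e => hz'V ?_
    rw [eq_of_le_of_card_ge le_sup_left e.ge]
    exact mem_sup_right (mem_zpowers z')
  simp [Nat.card_prod] at hV4
  omega

/-- With an element acting as inversion on `W`, the group `C(W)` is abelian modulo `V`. -/
theorem comm_mod_V [Finite P] {x : P} (hx : x ∈ F.R) (hX : F.psi x = Plane.one)
    {c d : P} (hc : c ∈ centralizer (W : Set P)) (hd : d ∈ centralizer (W : Set P)) :
    c * d * c⁻¹ * d⁻¹ ∈ s.V := by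
  haveI := s.V_normal
  have hxinj : Plane.Inj (F.psi x) := hX ▸ Plane.inj_one
  have hinvert : ∀ e ∈ centralizer (W : Set P),
      ((x * e * x⁻¹ : P) : P ⧸ s.V) = ((e : P) : P ⧸ s.V)⁻¹ := by
    intro e he
    have h1 := F.sq_mem_V_of_inj hx hxinj
    have h2 : x * e * (x * e) ∈ s.V := by
      refine F.sq_mem_V_of_inj (mul_mem hx (F.cent_le_R he)) ?_
      rw [F.psi_mul hx (F.cent_le_R he), F.psi_cent he, add_zero]
      exact hxinj
    rw [eq_inv_iff_mul_eq_one, ← QuotientGroup.mk_mul, QuotientGroup.eq_one_iff]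
    have e2 : x * e * x⁻¹ * e = x * e * (x * e) * (x * x)⁻¹ := by
      rw [eq_mul_inv_iff_mul_eq, mul_assoc (x * e * x⁻¹), ← mem_centralizer_iff.1 he _ h1.1]
      group
    rw [e2]
    exact mul_mem h2 (inv_mem h1)
  rw [← QuotientGroup.eq_one_iff, ← inv_inj, inv_one]
  have h := hinvert (c * d) (mul_mem hc hd)
  rw [show x * (c * d) * x⁻¹ = x * c * x⁻¹ * (x * d * x⁻¹) by group, QuotientGroup.mk_mul,
    hinvert c hc, hinvert d hd, QuotientGroup.mk_mul, mul_inv_rev] at h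
  simp only [QuotientGroup.mk_mul, QuotientGroup.mk_inv, mul_inv_rev, inv_inv]
  calc (d : P ⧸ s.V) * ((c : P ⧸ s.V) * ((d : P ⧸ s.V)⁻¹ * (c : P ⧸ s.V)⁻¹))
      = (d : P ⧸ s.V) * (c : P ⧸ s.V) * ((d : P ⧸ s.V)⁻¹ * (c : P ⧸ s.V)⁻¹) := by group
    _ = (d : P ⧸ s.V) * (c : P ⧸ s.V) * ((c : P ⧸ s.V)⁻¹ * (d : P ⧸ s.V)⁻¹) := by rw [← h]
    _ = 1 := by group

/-- The saving: such a square is outside the Frattini subgroup of every subgroup of `C(W)`. -/
theorem sq_notMem_frattini [Finite P] {x : P} (hx : x ∈ F.R) (hX : F.psi x = Plane.one) {y : P}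
    (hy : y ∈ F.R) (hy0 : F.psi y ≠ 0) (hY : Plane.Inj (Plane.one + F.psi y))
    (hinv : ∀ g : P, F.psi (g * y * g⁻¹) = F.psi y) (D : Subgroup P)
    (hD : D ≤ centralizer (W : Set P)) (d : D) (hd : (d : P) = y * y) : d ∉ frattini D := by
  haveI : Fact (Nat.Prime 2) := ⟨Nat.prime_two⟩
  haveI := s.V_normal
  have hcm : ∀ a ∈ centralizer (W : Set P), ∀ b ∈ centralizer (W : Set P),
      (a : P ⧸ s.V) * b = (b : P ⧸ s.V) * a := fun a ha b hb => by
    rw [← commutatorElement_eq_one_iff_mul_comm, commutatorElement_def, ← QuotientGroup.mk_inv,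
      ← QuotientGroup.mk_inv, ← QuotientGroup.mk_mul, ← QuotientGroup.mk_mul, ← QuotientGroup.mk_mul,
      QuotientGroup.eq_one_iff]
    exact F.comm_mod_V hx hX ha hb
  let N : Subgroup D :=
    { carrier := {e | ∃ c ∈ centralizer (W : Set P), ((e : P) : P ⧸ s.V) = (c : P ⧸ s.V) * c}
      one_mem' := ⟨1, one_mem _, by simp⟩
      mul_mem' := fun {a b} ⟨c, hc, hac⟩ ⟨c', hc', hbc⟩ => ⟨c * c', mul_mem hc hc', by
        rw [Subgroup.coe_mul, QuotientGroup.mk_mul, hac, hbc, QuotientGroup.mk_mul,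
          (show Commute (c' : P ⧸ s.V) c from hcm c' hc' c hc).mul_mul_mul_comm]⟩
      inv_mem' := fun {a} ⟨c, hc, hac⟩ => ⟨c⁻¹, inv_mem hc, by
        rw [Subgroup.coe_inv, QuotientGroup.mk_inv, hac, QuotientGroup.mk_inv, mul_inv_rev]⟩ }
  have hmemN : ∀ a b : D, ((a : P) : P ⧸ s.V) = ((b : P) : P ⧸ s.V) → b ∈ N → a ∈ N :=
    fun a b e ⟨c, hc, hb⟩ => ⟨c, hc, e.trans hb⟩
  haveI : N.Normal := ⟨fun a ha g => hmemN _ a (by
    rw [Subgroup.coe_mul, Subgroup.coe_mul, Subgroup.coe_inv, QuotientGroup.mk_mul,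
      QuotientGroup.mk_mul, hcm _ (hD g.2) _ (hD a.2), mul_assoc, ← QuotientGroup.mk_mul,
      mul_inv_cancel, QuotientGroup.mk_one, mul_one]) ha⟩
  have hfr : frattini D ≤ N := by
    refine CfsgLib.Transfer.frattini_le_of_elementary_quotient (p := 2) N (fun a b => ?_) fun a => ?_
    · refine hmemN _ 1 ?_ (one_mem N)
      rw [commutatorElement_def, Subgroup.coe_mul, Subgroup.coe_mul, Subgroup.coe_mul,
        Subgroup.coe_one, QuotientGroup.mk_one, QuotientGroup.eq_one_iff]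
      exact F.comm_mod_V hx hX (hD a.2) (hD b.2)
    · exact ⟨a, hD a.2, by rw [pow_two, Subgroup.coe_mul, QuotientGroup.mk_mul]⟩
  intro hd'
  obtain ⟨c, hc, hdc⟩ := hfr hd'
  rw [hd, ← QuotientGroup.mk_mul, QuotientGroup.eq] at hdc
  set t := (y * y)⁻¹ * (c * c)
  have ht : t ∈ s.V := hdc
  have hcc : y * (c * c) * y⁻¹ = c * c := by
    rw [show c * c = y * y * t by simp only [t]; group,
      show y * (y * y * t) * y⁻¹ = y * y * (y * t * y⁻¹) by group, F.comm_R hy ht,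
      mul_inv_cancel_right]
  haveI := s.cent_normal
  set δ := c⁻¹ * (y * c * y⁻¹)
  have hδC : δ ∈ centralizer (W : Set P) :=
    mul_mem (inv_mem hc) (Normal.conj_mem inferInstance c hc y)
  have hδ : δ ∈ s.V := by
    refine s.mem_V_of_inverted hc hδC ?_
    rw [eq_inv_iff_mul_eq_one]
    calc c * δ * c⁻¹ * δ = y * c * y⁻¹ * c⁻¹ * (c⁻¹ * (y * c * y⁻¹)) := by simp only [δ]; group
      _ = y * c * y⁻¹ * (c * c)⁻¹ * (y * c * y⁻¹) := by group
      _ = y * c * y⁻¹ * (y * (c * c) * y⁻¹)⁻¹ * (y * c * y⁻¹) := by rw [hcc]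
      _ = 1 := by group
  refine F.sq_notMem_V (mul_mem hy (F.cent_le_R (inv_mem hc))) ?_ ?_ (fun g => ?_) ?_ (z := y * c⁻¹)
  · rwa [F.psi_mul hy (F.cent_le_R (inv_mem hc)), F.psi_cent (inv_mem hc), add_zero]
  · rwa [F.psi_mul hy (F.cent_le_R (inv_mem hc)), F.psi_cent (inv_mem hc), add_zero]
  · rw [F.psi_conj g (mul_mem hy (F.cent_le_R (inv_mem hc))),
      F.psi_mul hy (F.cent_le_R (inv_mem hc)), F.psi_cent (inv_mem hc), add_zero,
      ← F.psi_conj g hy, hinv g]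
  · have e : y * c⁻¹ * (y * c⁻¹) = δ⁻¹ * t⁻¹ := by
      have h3 : c⁻¹ * t⁻¹ = t⁻¹ * c⁻¹ := (mem_centralizer_iff.1 (inv_mem hc) _ (inv_mem ht).1).symm
      calc y * c⁻¹ * (y * c⁻¹) = (y * c * y⁻¹)⁻¹ * (y * y) * c⁻¹ := by group
        _ = δ⁻¹ * c⁻¹ * (y * y) * c⁻¹ := by simp only [δ]; group
        _ = δ⁻¹ * c⁻¹ * (c * c * t⁻¹) * c⁻¹ := by rw [show y * y = c * c * t⁻¹ by rw [mul_inv_rev, inv_inv, mul_inv_cancel_left]]
        _ = δ⁻¹ * (c * (t⁻¹ * c⁻¹)) := by group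
        _ = δ⁻¹ * t⁻¹ := by rw [← h3]; group
    rw [e]
    exact mul_mem (inv_mem hδ) (inv_mem ht)

end Frame

end CfsgLib.SRank
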