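import Cfsg.Agent.Lib.SRank.SelfCentral
import Mathlib.GroupTheory.Perm.Fin

/-!
An extension of an elementary abelian group of order `16` by a faithful `S₆` has sectional `2`-rank
at least `5`.
-/

set_option autoImplicit false
set_option linter.style.haveILetI false

namespace CfsgLib.SRank

open Subgroup

universe u

/-- `(0 1)`. -/
def pA : Equiv.Perm (Fin 6) := Equiv.swap 0 1
/-- `(2 3)`. -/
def pB : Equiv.Perm (Fin 6) := Equiv.swap 2 3
/-- `(4 5)`. -/
def pC : Equiv.Perm (Fin 6) := Equiv.swap 4 5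
/-- `(2 4)(3 5)`. -/
def pD : Equiv.Perm (Fin 6) := Equiv.swap 2 4 * Equiv.swap 3 5
/-- `(2 3)(4 5)`. -/
def pE : Equiv.Perm (Fin 6) := Equiv.swap 2 3 * Equiv.swap 4 5
/-- `(1 2)(3 4)`. -/
def pG : Equiv.Perm (Fin 6) := Equiv.swap 1 2 * Equiv.swap 3 4
/-- `(3 4 5)`. -/
def pR : Equiv.Perm (Fin 6) := Equiv.swap 3 4 * Equiv.swap 4 5
/-- `(0 1)(2 3)(4 5)`. -/
def qA : Equiv.Perm (Fin 6) := pA * pE
/-- `(0 1)(2 4)(3 5)`. -/
def qB : Equiv.Perm (Fin 6) := pA * pD
/-- `(0 1)(2 5)(3 4)`. -/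
def qC : Equiv.Perm (Fin 6) := pA * (pE * pD)

/-- Two permutations are conjugate to each other. -/
def Cj (x y : Equiv.Perm (Fin 6)) : Prop := ∃ g, g * x * g⁻¹ = y

instance (x y : Equiv.Perm (Fin 6)) : Decidable (Cj x y) := by unfold Cj; infer_instance

/-- The facts about three commuting involutions. -/
def Tri (a b c : Equiv.Perm (Fin 6)) : Prop :=
  (a * a = 1 ∧ b * b = 1 ∧ c * c = 1) ∧ (a * b = b * a ∧ a * c = c * a ∧ b * c = c * b) ∧
    (Cj pE (a * b) ∧ Cj pE (a * c) ∧ Cj pE (b * c)) ∧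
      ({1, a, b, c, a * b, a * c, b * c, a * b * c} : Finset (Equiv.Perm (Fin 6))).card = 8

instance (a b c : Equiv.Perm (Fin 6)) : Decidable (Tri a b c) := by unfold Tri; infer_instance

set_option maxRecDepth 100000 in
theorem frame_p : Tri pA pB pC := by
  refine ⟨by decide, by decide, ⟨⟨Equiv.swap 0 4 * Equiv.swap 1 5, ?_⟩, ⟨Equiv.swap 0 2 * Equiv.swap 1 3, ?_⟩,
    ⟨1, ?_⟩⟩, by decide⟩ <;> decide

set_option maxRecDepth 100000 in
theorem frame_q : Tri qA qB qC := by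
  refine ⟨by decide, by decide, ⟨⟨Equiv.swap 2 4, ?_⟩, ⟨Equiv.swap 2 5, ?_⟩,
    ⟨1, ?_⟩⟩, by decide⟩ <;> decide

set_option maxRecDepth 100000 in
theorem five_cycle :
    (pR * pE * pR⁻¹ = pD ∧ pR * pD * pR⁻¹ = pE * pD ∧ pR * (pE * pD) * pR⁻¹ = pE) ∧
    (pA * pE = pE * pA ∧ pA * pD = pD * pA) ∧ pE * pD = pD * pE ∧
    (pA * pR = pR * pA ∧ pE ≠ 1 ∧ pA ≠ 1) ∧
    ((pE * pG) ^ 5 = 1 ∧ pE * pG ≠ 1) ∧ (pA * pA = 1 ∧ pE * pE = 1 ∧ pD * pD = 1) := by
  decide

set_option maxRecDepth 100000 in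
theorem conj_facts : Cj pE pD ∧ Cj pE (pE * pD) ∧ Cj pE pG := by
  refine ⟨⟨Equiv.swap 2 5, ?_⟩, ⟨Equiv.swap 2 4, ?_⟩,
    ⟨Equiv.swap 1 3 * Equiv.swap 1 5, ?_⟩⟩ <;> decide

set_option maxRecDepth 100000 in
theorem triple_conj : Cj qB qA ∧ Cj qC qA := by
  refine ⟨⟨Equiv.swap 2 5, ?_⟩, ⟨Equiv.swap 2 4, ?_⟩⟩ <;> decide

set_option maxRecDepth 100000 in
theorem eight_closed :
    ∀ x ∈ ({1, pA, pE, pD, pE * pD, pA * pE, pA * pD, pA * (pE * pD)} :
      Finset (Equiv.Perm (Fin 6))),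
    ∀ y ∈ ({1, pA, pE, pD, pE * pD, pA * pE, pA * pD, pA * (pE * pD)} :
      Finset (Equiv.Perm (Fin 6))), x ≠ y →
    x⁻¹ * y ∈ ({1, pA, pE, pD, pE * pD, pA * pE, pA * pD, pA * (pE * pD)} :
      Finset (Equiv.Perm (Fin 6))) ∧ x⁻¹ * y ≠ 1 := by
  decide

/-- The setting: `Y` induces a group containing `S₆` on `V`. -/
structure SixData {Y : Type u} [Group Y] (V : Subgroup Y) [V.Normal]
    (phi : Equiv.Perm (Fin 6) →* Y ⧸ V) : Prop where
  hV : Exp2 V
  h16 : Nat.card V = 16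
  hself : centralizer (V : Set Y) ≤ V
  inj : Function.Injective phi

namespace SixData

variable {Y : Type u} [Group Y] [Finite Y] {V : Subgroup Y} [V.Normal]
  {phi : Equiv.Perm (Fin 6) →* Y ⧸ V}

/-- A representative. -/
noncomputable def rep (phi : Equiv.Perm (Fin 6) →* Y ⧸ V) (σ : Equiv.Perm (Fin 6)) : Y :=
  (phi σ).out

/-- The action on `V`. -/
noncomputable def act (phi : Equiv.Perm (Fin 6) →* Y ⧸ V) (σ : Equiv.Perm (Fin 6)) (v : Y) : Y :=
  rep phi σ * v * (rep phi σ)⁻¹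

/-- The fixed points in `V`. -/
noncomputable def fx (phi : Equiv.Perm (Fin 6) →* Y ⧸ V) (σ : Equiv.Perm (Fin 6)) : Subgroup Y :=
  V ⊓ centralizer ({rep phi σ} : Set Y)

omit [Finite Y] in
theorem mem_fx {σ : Equiv.Perm (Fin 6)} {v : Y} : v ∈ fx phi σ ↔ v ∈ V ∧ act phi σ v = v := by
  rw [fx, mem_inf, mem_centralizer_singleton_iff, act, conj_eq_iff]
  exact and_congr_right fun _ => eq_comm

omit [Finite Y] in
theorem mk_rep (σ : Equiv.Perm (Fin 6)) : ((rep phi σ : Y) : Y ⧸ V) = phi σ :=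
  QuotientGroup.out_eq' _

omit [Finite Y] in
theorem act_mem (σ : Equiv.Perm (Fin 6)) {v : Y} (hv : v ∈ V) : act phi σ v ∈ V :=
  Normal.conj_mem inferInstance v hv _

omit [Finite Y] in
theorem act_mul (σ : Equiv.Perm (Fin 6)) (v w : Y) :
    act phi σ (v * w) = act phi σ v * act phi σ w := by
  simp only [act]; group

omit [Finite Y] in
theorem act_triv (σ : Equiv.Perm (Fin 6)) : act phi σ 1 = 1 := by simp [act]

omit [Finite Y] in
theorem act_injective (σ : Equiv.Perm (Fin 6)) : Function.Injective (act phi σ) := fun _ _ h =>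
  mul_left_cancel (mul_right_cancel h)

variable (s : SixData V phi)
include s

omit [Finite Y] in
theorem act_congr {σ : Equiv.Perm (Fin 6)} {x v : Y} (hx : (x : Y ⧸ V) = phi σ) (hv : v ∈ V) :
    x * v * x⁻¹ = act phi σ v := by
  have h : (rep phi σ)⁻¹ * x ∈ V := QuotientGroup.eq.1 ((mk_rep σ).trans hx.symm)
  have h1 := s.hV.comm h hv
  calc x * v * x⁻¹ = rep phi σ * (((rep phi σ)⁻¹ * x) * v) * ((rep phi σ)⁻¹ * x)⁻¹ * (rep phi σ)⁻¹ := by
        group
    _ = rep phi σ * (v * ((rep phi σ)⁻¹ * x)) * ((rep phi σ)⁻¹ * x)⁻¹ * (rep phi σ)⁻¹ := by rw [h1]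
    _ = _ := by simp only [act]; group

omit [Finite Y] in
theorem act_comp (σ τ : Equiv.Perm (Fin 6)) {v : Y} (hv : v ∈ V) :
    act phi (σ * τ) v = act phi σ (act phi τ v) := by
  rw [← s.act_congr (x := rep phi σ * rep phi τ)
    (by rw [QuotientGroup.mk_mul, mk_rep, mk_rep, map_mul]) hv]
  simp only [act]; group

omit [Finite Y] in
theorem act_one {v : Y} (hv : v ∈ V) : act phi 1 v = v := by
  rw [← s.act_congr (x := 1) (by rw [QuotientGroup.mk_one, map_one]) hv]; group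

omit [Finite Y] in
theorem act_invol {σ : Equiv.Perm (Fin 6)} (h2 : σ * σ = 1) {v : Y} (hv : v ∈ V) :
    act phi σ (act phi σ v) = v := by
  rw [← s.act_comp σ σ hv, h2, s.act_one hv]

omit [Finite Y] in
theorem eq_one_of_act {σ : Equiv.Perm (Fin 6)} (h : ∀ v ∈ V, act phi σ v = v) : σ = 1 := by
  have hc : rep phi σ ∈ V :=
    s.hself (mem_centralizer_iff.2 fun v hv => (conj_eq_iff.1 (h v hv)).symm)
  exact s.inj (by rw [← mk_rep σ, (QuotientGroup.eq_one_iff _).2 hc, map_one])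

omit [Finite Y] in
/-- `v · v^σ` is fixed by an involution `σ`. -/
theorem dl_fixed {σ : Equiv.Perm (Fin 6)} (h2 : σ * σ = 1) {v : Y} (hv : v ∈ V) :
    v * act phi σ v ∈ fx phi σ := by
  refine mem_fx.2 ⟨mul_mem hv (act_mem σ hv), ?_⟩
  rw [act_mul, s.act_invol h2 hv]
  exact s.hV.comm (act_mem σ hv) hv

omit [Finite Y] in
theorem act_fx_of_comm {x y : Equiv.Perm (Fin 6)} (h : x * y = y * x) {v : Y} (hv : v ∈ fx phi x) :
    act phi y v ∈ fx phi x := by
  obtain ⟨hvV, hva⟩ := mem_fx.1 hv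
  refine mem_fx.2 ⟨act_mem y hvV, ?_⟩
  rw [← s.act_comp _ _ hvV, h, s.act_comp _ _ hvV, hva]

omit [Finite Y] in
theorem exists_not_mem {U : Subgroup Y} (hU : Nat.card U < 16) [Finite Y] : ∃ v ∈ V, v ∉ U := by
  by_contra! h
  have := card_le_of_le (show V ≤ U from h)
  rw [s.h16] at this
  omega

theorem card_fx {σ : Equiv.Perm (Fin 6)} (h2 : σ * σ = 1) (h1 : σ ≠ 1) :
    Nat.card (fx phi σ) = 4 ∨ Nat.card (fx phi σ) = 8 := by
  haveI : Fact (Nat.Prime 2) := ⟨Nat.prime_two⟩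
  have hsq : rep phi σ * rep phi σ ∈ V := (QuotientGroup.eq_one_iff _).1
    (by rw [QuotientGroup.mk_mul, mk_rep, ← map_mul, h2, map_one])
  have h := card_le_fixed_sq s.hV (fun v hv => act_mem (phi := phi) σ hv)
    fun v hv => s.hV.comm hsq hv
  rw [s.h16] at h
  have hd : Nat.card (fx phi σ) ∣ 2 ^ 4 := by
    have h := card_dvd_of_le (inf_le_left : fx phi σ ≤ V)
    rwa [s.h16] at h
  obtain ⟨k, hk4, hk⟩ := (Nat.dvd_prime_pow Nat.prime_two).1 hd
  change 16 ≤ Nat.card (fx phi σ) * Nat.card (fx phi σ) at h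
  rw [hk] at h ⊢
  have hne : k ≠ 4 := fun e => h1 (s.eq_one_of_act fun v hv =>
    (mem_fx.1 ((eq_of_le_of_card_ge (inf_le_left : fx phi σ ≤ V)
      (by show Nat.card V ≤ Nat.card (fx phi σ); rw [hk, e, s.h16]; norm_num)).ge hv)).2)
  interval_cases k <;> simp_all

theorem two_image {σ : Equiv.Perm (Fin 6)} (h2 : σ * σ = 1) (h8 : Nat.card (fx phi σ) = 8) :
    ∃ w ∈ fx phi σ, w ≠ 1 ∧ (∀ v ∈ V, act phi σ v = v ∨ act phi σ v = v * w) ∧
      ∀ v ∈ V, v ∉ fx phi σ → act phi σ v = v * w := by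
  haveI : Fact (Nat.Prime 2) := ⟨Nat.prime_two⟩
  set R := (dltHom s.hV (rep phi σ)).range.map V.subtype
  have hR : Nat.card R = 2 := by
    have hr := card_range_dlt s.hV (rep phi σ)
    change _ * Nat.card (fx phi σ) = _ at hr
    rw [h8, s.h16] at hr
    rw [card_map_of_injective V.subtype_injective]
    omega
  obtain ⟨w, hwR, hw1⟩ : ∃ w ∈ R, w ≠ 1 := by
    by_contra! hall
    haveI : Subsingleton R := ⟨fun x y => Subtype.ext (by rw [hall x x.2, hall y y.2])⟩
    rw [Nat.card_unique] at hR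
    omega
  have hall : ∀ v ∈ V, act phi σ v = v ∨ act phi σ v = v * w := fun v hv => by
    have hvR : v * act phi σ v ∈ R := ⟨dltHom s.hV (rep phi σ) ⟨v, hv⟩, ⟨_, rfl⟩, rfl⟩
    rcases two_cases hR.le hwR hw1 hvR with e | e
    · exact Or.inl (by rw [eq_inv_of_mul_eq_one_right e, s.hV.inv_eq hv])
    · exact Or.inr (by rw [← e, ← mul_assoc, s.hV v hv, one_mul])
  refine ⟨w, ?_, hw1, hall, fun v hv hn => (hall v hv).resolve_left fun e => hn (mem_fx.2 ⟨hv, e⟩)⟩
  obtain ⟨_, ⟨⟨y, hy⟩, rfl⟩, rfl⟩ := hwR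
  exact s.dl_fixed h2 hy

theorem center_unique {x : Equiv.Perm (Fin 6)} {w w' : Y} (h8 : Nat.card (fx phi x) = 8)
    (hw : ∀ v ∈ V, act phi x v = v ∨ act phi x v = v * w)
    (hw' : ∀ v ∈ V, act phi x v = v ∨ act phi x v = v * w') : w = w' := by
  obtain ⟨v, hv, hvF⟩ := s.exists_not_mem (U := fx phi x) (by omega)
  have e1 := (hw v hv).resolve_left fun e => hvF (mem_fx.2 ⟨hv, e⟩)
  have e2 := (hw' v hv).resolve_left fun e => hvF (mem_fx.2 ⟨hv, e⟩)
  exact mul_left_cancel (e1.symm.trans e2)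

omit [Finite Y] in
theorem fx_conj (g σ : Equiv.Perm (Fin 6)) {v : Y} (hv : v ∈ fx phi σ) :
    act phi g v ∈ fx phi (g * σ * g⁻¹) := by
  obtain ⟨hvV, hva⟩ := mem_fx.1 hv
  refine mem_fx.2 ⟨act_mem g hvV, ?_⟩
  rw [← s.act_comp _ g hvV, inv_mul_cancel_right, s.act_comp g σ hvV, hva]

theorem card_fx_conj {x y : Equiv.Perm (Fin 6)} (h : Cj x y) :
    Nat.card (fx phi x) = Nat.card (fx phi y) := by
  obtain ⟨g, rfl⟩ := h
  refine le_antisymm (Nat.card_le_card_of_injective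
    (fun v : fx phi x => (⟨act phi g v, s.fx_conj g x v.2⟩ : fx phi (g * x * g⁻¹))) fun a b h =>
      Subtype.ext (act_injective g (congrArg (fun t : fx phi (g * x * g⁻¹) => (t : Y)) h))) ?_
  refine Nat.card_le_card_of_injective
    (fun v : fx phi (g * x * g⁻¹) => (⟨act phi g⁻¹ v, by
      have := s.fx_conj g⁻¹ _ v.2
      rwa [show g⁻¹ * (g * x * g⁻¹) * g⁻¹⁻¹ = x by group] at this⟩ : fx phi x))
    fun a b h => Subtype.ext (act_injective g⁻¹ (congrArg (fun t : fx phi x => (t : Y)) h))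

theorem card_pE : Nat.card (fx phi pE) = 4 := by
  obtain ⟨-, -, -, ⟨-, hE1, -⟩, ⟨hg5, hg1⟩, -, hE2, -⟩ := five_cycle
  classical
  haveI : Fintype Y := Fintype.ofFinite Y
  refine (s.card_fx hE2 hE1).resolve_right fun h8 => ?_
  have hG : Nat.card (fx phi pG) = 8 := by rw [← s.card_fx_conj conj_facts.2.2, h8]
  have hG2 : pG * pG = 1 := by decide
  obtain ⟨w, hw, -, hwa, -⟩ := s.two_image hE2 h8
  obtain ⟨u, hu, -, hua, -⟩ := s.two_image hG2 hG
  set g := pE * pG
  have hwV : w ∈ V := hw.1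
  have huV : u ∈ V := hu.1
  set U := closure ({w, u} : Set Y)
  have hwU : w ∈ U := subset_closure (Or.inl rfl)
  have huU : u ∈ U := subset_closure (Or.inr rfl)
  have hU4 : Nat.card U ≤ 4 := by
    have e1 : w * w = 1 := s.hV w hwV
    have e2 : u * u = 1 := s.hV u huV
    have e3 : u * w = w * u := s.hV.comm huV hwV
    refine card_le_four U w u (w * u) fun x hx => ?_
    refine closure_induction (p := fun x _ => x = 1 ∨ x = w ∨ x = u ∨ x = w * u) ?_ (Or.inl rfl) ?_ ?_ hx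
    · rintro _ (rfl | rfl)
      exacts [Or.inr (Or.inl rfl), Or.inr (Or.inr (Or.inl rfl))]
    · have e4 : w * (w * u) = u := by rw [← mul_assoc, e1, one_mul]
      have e5 : u * (w * u) = w := by rw [← mul_assoc, e3, mul_assoc, e2, mul_one]
      have e6 : w * u * w = u := by rw [mul_assoc, e3, e4]
      have e7 : w * u * u = w := by rw [mul_assoc, e2, mul_one]
      have e8 : w * u * (w * u) = 1 := s.hV _ (mul_mem hwV huV)
      intro a b _ _ ha hb
      rcases ha with rfl | rfl | rfl | rfl <;> rcases hb with rfl | rfl | rfl | rfl <;>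
        simp only [one_mul, mul_one, e1, e2, e3, e4, e5, e6, e7, e8, true_or, or_true]
    · intro a ha h
      have haV : a ∈ V :=
        (closure_le V).2 (by rintro _ (rfl | rfl) <;> assumption) ha
      rw [s.hV.inv_eq haV]
      exact h
  -- `g` moves every point inside its coset of `U`
  have hstep : ∀ v ∈ V, v⁻¹ * act phi g v ∈ U := by
    intro v hv
    rw [s.act_comp _ _ hv]
    rcases hua v hv with e | e <;> rw [e]
    · rcases hwa v hv with e' | e' <;> rw [e']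
      · rw [inv_mul_cancel]; exact one_mem _
      · rw [inv_mul_cancel_left]; exact hwU
    · rcases hwa (v * u) (mul_mem hv huV) with e' | e' <;> rw [e']
      · rw [inv_mul_cancel_left]; exact huU
      · rw [mul_assoc, inv_mul_cancel_left]; exact mul_mem huU hwU
  refine hg1 (s.eq_one_of_act fun v hv => ?_)
  have hcoset : ∀ n : ℕ, v⁻¹ * act phi (g ^ n) v ∈ U := by
    intro n
    induction n with
    | zero => rw [pow_zero, s.act_one hv, inv_mul_cancel]; exact one_mem _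
    | succ n ih =>
      rw [pow_succ', s.act_comp _ _ hv, show v⁻¹ * act phi g (act phi (g ^ n) v) =
        v⁻¹ * act phi (g ^ n) v * ((act phi (g ^ n) v)⁻¹ * act phi g (act phi (g ^ n) v)) by group]
      exact mul_mem ih (hstep _ (act_mem _ hv))
  obtain ⟨i, j, hij, heq⟩ := Fintype.exists_ne_map_eq_of_card_lt (β := U)
    (fun i : Fin 5 => (⟨v⁻¹ * act phi (g ^ (i : ℕ)) v, hcoset i⟩ : U)) (by
      rw [Fintype.card_fin, ← Nat.card_eq_fintype_card]; omega)
  have heq' : act phi (g ^ (i : ℕ)) v = act phi (g ^ (j : ℕ)) v :=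
    mul_left_cancel (congrArg (fun t : U => (t : Y)) heq)
  -- a proper power of `g` fixing `v`
  have key : ∀ i j : Fin 5, (i : ℕ) < j → act phi (g ^ (i : ℕ)) v = act phi (g ^ (j : ℕ)) v →
      act phi g v = v := by
    intro i j hlt h
    have hk : act phi (g ^ ((j : ℕ) - i)) v = v := by
      refine act_injective (phi := phi) (g ^ (i : ℕ)) ?_
      rw [← s.act_comp _ _ hv, ← pow_add, Nat.add_sub_cancel' hlt.le, h]
    set k := (j : ℕ) - i
    have hk0 : 0 < k := by omega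
    have hk5 : k < 5 := by omega
    have hm : ∀ m : ℕ, act phi (g ^ (k * m)) v = v := by
      intro m
      induction m with
      | zero => rw [mul_zero, pow_zero, s.act_one hv]
      | succ m ih => rw [Nat.mul_succ, pow_add, s.act_comp _ _ hv, hk, ih]
    have h5 : ∀ m, g ^ m = g ^ (m % 5) := fun m => pow_eq_pow_mod m hg5
    interval_cases k
    · simpa using hm 1
    · simpa [h5 6] using hm 3
    · simpa [h5 6] using hm 2
    · simpa [h5 16] using hm 4
  rcases lt_or_gt_of_ne (Fin.val_injective.ne hij) with hlt | hlt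
  · exact key i j hlt heq'
  · exact key j i hlt heq'.symm

theorem card_pair {x y : Equiv.Perm (Fin 6)} (h : Cj pE (x * y)) :
    Nat.card (fx phi (x * y)) = 4 := by
  rw [← s.card_fx_conj h]; exact s.card_pE

set_option maxHeartbeats 2000000 in
/-- One of the two outer involution classes consists of transvections. -/
theorem exists_transvection : Nat.card (fx phi pA) = 8 ∨ Nat.card (fx phi qA) = 8 := by
  classical
  obtain ⟨⟨hR1, hR2, hR3⟩, ⟨hAE, hAD⟩, hED, ⟨hAR, hE1, hA1⟩, -, hA2, hE2, hD2⟩ :=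
    five_cycle
  haveI : Fintype Y := Fintype.ofFinite Y
  by_contra! hne
  have hA4 := (s.card_fx hA2 hA1).resolve_right hne.1
  have hcE : Nat.card (fx phi pE) = 4 := s.card_pE
  have hcD : Nat.card (fx phi pD) = 4 := by rw [← s.card_fx_conj conj_facts.1, s.card_pE]
  have hcED : Nat.card (fx phi (pE * pD)) = 4 := by rw [← s.card_fx_conj conj_facts.2.1, s.card_pE]
  set W := fx phi pA with hW
  have hWV : W ≤ V := inf_le_left
  have hin : ∀ d, pA * d = d * pA → ∀ v ∈ W, v * act phi d v ∈ W := fun d hd v hv =>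
    mul_mem hv (s.act_fx_of_comm hd hv)
  -- one of the three double transpositions fixes `W`
  have hone : W ≤ fx phi pE ∨ W ≤ fx phi pD ∨ W ≤ fx phi (pE * pD) := by
    by_contra hnone
    simp only [not_or, SetLike.not_le_iff_exists] at hnone
    obtain ⟨⟨v1, hv1, hv1'⟩, ⟨v2, hv2, hv2'⟩, ⟨v3, hv3, hv3'⟩⟩ := hnone
    -- each moves the points of `W` by a single element
    have hfix : ∀ d, d * d = 1 → pA * d = d * pA → (∃ v ∈ W, v ∉ fx phi d) →
        ∃ w ∈ W ⊓ fx phi d, w ≠ 1 ∧ (∀ t ∈ W ⊓ fx phi d, t = 1 ∨ t = w) ∧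
          ∀ v ∈ W, act phi d v = v ∨ act phi d v = v * w := by
      rintro d hd2 hdA ⟨v, hv, hv'⟩
      have hle : Nat.card (W ⊓ fx phi d : Subgroup Y) ≤ 2 := by
        have hlt : W ⊓ fx phi d < W := lt_of_le_not_ge inf_le_left fun h => hv' (h hv).2
        have := two_mul_card_le hlt
        omega
      have hmem : ∀ v ∈ W, v * act phi d v ∈ W ⊓ fx phi d := fun v hv =>
        ⟨hin d hdA v hv, s.dl_fixed hd2 (hWV hv)⟩
      have hne : v * act phi d v ≠ 1 := fun e => hv' (mem_fx.2 ⟨hWV hv, by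
        rw [eq_inv_of_mul_eq_one_right e, s.hV.inv_eq (hWV hv)]⟩)
      have huniq : ∀ t ∈ W ⊓ fx phi d, t = 1 ∨ t = v * act phi d v := fun t ht =>
        two_cases hle (hmem v hv) hne ht
      refine ⟨_, hmem v hv, hne, huniq, fun u hu => ?_⟩
      rcases huniq _ (hmem u hu) with e | e
      · exact Or.inl (by rw [eq_inv_of_mul_eq_one_right e, s.hV.inv_eq (hWV hu)])
      · exact Or.inr (by rw [← e, ← mul_assoc, s.hV u (hWV hu), one_mul])
    obtain ⟨w1, hw1, hw11, hall1, hmv1⟩ := hfix pE hE2 hAE ⟨v1, hv1, hv1'⟩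
    obtain ⟨w2, -, -, hall2, hmv2⟩ := hfix pD hD2 hAD ⟨v2, hv2, hv2'⟩
    have hw12 : w1 ∈ fx phi pD := by
      have hmem : act phi pD w1 ∈ W ⊓ fx phi pE :=
        ⟨s.act_fx_of_comm hAD hw1.1, s.act_fx_of_comm hED hw1.2⟩
      rcases hall1 _ hmem with e | e
      · exact absurd (act_injective pD (e.trans (act_triv pD).symm)) hw11
      · exact mem_fx.2 ⟨hWV hw1.1, e⟩
    obtain rfl := (hall2 w1 ⟨hw1.1, hw12⟩).resolve_left hw11
    refine hv3' (mem_fx.2 ⟨hWV hv3, ?_⟩)
    rw [s.act_comp _ _ (hWV hv3)]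
    have hw1V : w1 ∈ V := hWV hw1.1
    rcases hmv2 v3 hv3 with e | e <;> rw [e]
    · rcases hall2 v3 ⟨hv3, mem_fx.2 ⟨hWV hv3, e⟩⟩ with e' | e' <;> rw [e']
      · exact act_triv pE
      · exact (mem_fx.1 hw1.2).2
    · rw [act_mul, (mem_fx.1 hw1.2).2]
      rcases hmv1 v3 hv3 with e' | e'
      · exfalso
        rcases hall1 v3 ⟨hv3, mem_fx.2 ⟨hWV hv3, e'⟩⟩ with e'' | e'' <;> rw [e''] at e
        · rw [act_triv, one_mul] at e
          exact hw11 e.symm
        · rw [(mem_fx.1 hw12).2] at e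
          exact hw11 (left_eq_mul.1 e)
      · rw [e', mul_assoc, s.hV w1 hw1V, mul_one]
  have hcyc : ∀ x y, pR * x * pR⁻¹ = y → W ≤ fx phi x → W ≤ fx phi y := by
    intro x y hxy hx v hv
    have hRinv : pA * pR⁻¹ = pR⁻¹ * pA := (Commute.inv_right (show Commute pA pR from hAR)).eq
    have h1 := s.fx_conj pR x (hx (s.act_fx_of_comm hRinv hv))
    rwa [hxy, ← s.act_comp _ _ (hWV hv), mul_inv_cancel, s.act_one (hWV hv)] at h1
  have hall : W ≤ fx phi pE ∧ W ≤ fx phi pD := by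
    rcases hone with h | h | h
    · exact ⟨h, hcyc _ _ hR1 h⟩
    · exact ⟨hcyc _ _ hR3 (hcyc _ _ hR2 h), h⟩
    · exact ⟨hcyc _ _ hR3 h, hcyc _ _ hR1 (hcyc _ _ hR3 h)⟩
  -- hence they move each point of `V` inside its coset of `W`
  have hcoset : ∀ d, pA * d = d * pA → W ≤ fx phi d → ∀ v ∈ V, v⁻¹ * act phi d v ∈ W := by
    intro d hd hfix v hv
    rw [s.hV.inv_eq hv]
    refine mem_fx.2 ⟨mul_mem hv (act_mem _ hv), ?_⟩
    set e := v * act phi pA v
    have heW : e ∈ W := s.dl_fixed hA2 hv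
    have hAv : act phi pA v = v * e := by
      simp only [e]; rw [← mul_assoc, s.hV v hv, one_mul]
    have hAdv : act phi pA (act phi d v) = act phi d v * e := by
      rw [← s.act_comp _ _ hv, hd, s.act_comp _ _ hv, hAv, act_mul, (mem_fx.1 (hfix heW)).2]
    rw [act_mul, hAv, hAdv, mul_assoc v e, ← mul_assoc e, s.hV.comm (hWV heW) (act_mem d hv),
      mul_assoc, s.hV e (hWV heW), mul_one]
  obtain ⟨v, hv, hvW⟩ := s.exists_not_mem (U := W) (by omega)
  set l : Finset (Equiv.Perm (Fin 6)) := {1, pA, pE, pD, pE * pD, pA * pE, pA * pD, pA * (pE * pD)}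
    with hldef
  have hl : l.card = 8 := by rw [hldef]; decide
  have hmem : ∀ x ∈ l, v⁻¹ * act phi x v ∈ W := by
    have hEc := hcoset pE hAE hall.1
    have hDc := hcoset pD hAD hall.2
    have hAc := hcoset pA rfl le_rfl
    have hmul : ∀ x y, (∀ u ∈ V, u⁻¹ * act phi x u ∈ W) → v⁻¹ * act phi y v ∈ W →
        v⁻¹ * act phi (x * y) v ∈ W := by
      intro x y hx hy
      rw [s.act_comp _ _ hv, show v⁻¹ * act phi x (act phi y v) =
        v⁻¹ * act phi y v * ((act phi y v)⁻¹ * act phi x (act phi y v)) by group]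
      exact mul_mem hy (hx _ (act_mem _ hv))
    have hED' := hmul pE pD hEc (hDc v hv)
    intro x hx
    simp only [hldef, Finset.mem_insert, Finset.mem_singleton] at hx
    rcases hx with rfl | rfl | rfl | rfl | rfl | rfl | rfl | rfl
    · rw [s.act_one hv, inv_mul_cancel]; exact one_mem _
    exacts [hAc v hv, hEc v hv, hDc v hv, hED', hmul _ _ hAc (hEc v hv), hmul _ _ hAc (hDc v hv),
      hmul _ _ hAc hED']
  obtain ⟨x, y, hxy, hxyv⟩ := Fintype.exists_ne_map_eq_of_card_lt (β := W)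
    (fun x : l => (⟨v⁻¹ * act phi x.1 v, hmem x.1 x.2⟩ : W)) (by
      rw [Fintype.card_coe, hl, ← Nat.card_eq_fintype_card, hA4]; norm_num)
  have hxyv' : act phi x.1 v = act phi y.1 v :=
    mul_left_cancel (congrArg (fun t : W => (t : Y)) hxyv)
  -- `z := x⁻¹ y` fixes `W` and `v`
  have hz : ∀ x ∈ l, ∀ y ∈ l, x ≠ y → x⁻¹ * y ∈ l ∧ x⁻¹ * y ≠ 1 := eight_closed
  obtain ⟨hzl, hz1⟩ := hz x.1 x.2 y.1 y.2 fun e => hxy (Subtype.ext e)
  set z := x.1⁻¹ * y.1
  have hzv : act phi z v = v := by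
    refine act_injective (phi := phi) x.1 ?_
    rw [← s.act_comp _ _ hv, mul_inv_cancel_left, hxyv']
  have hzW : ∀ t ∈ W, act phi z t = t := by
    have hA' : ∀ t ∈ W, act phi pA t = t := fun t ht => (mem_fx.1 ht).2
    have hE' : ∀ t ∈ W, act phi pE t = t := fun t ht => (mem_fx.1 (hall.1 ht)).2
    have hD' : ∀ t ∈ W, act phi pD t = t := fun t ht => (mem_fx.1 (hall.2 ht)).2
    intro t ht
    simp only [hldef, Finset.mem_insert, Finset.mem_singleton] at hzl
    rcases hzl with h | h | h | h | h | h | h | h <;> rw [h] <;>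
      simp only [s.act_one (hWV ht), s.act_comp _ _ (hWV ht), hA' t ht, hE' t ht, hD' t ht]
  have hlt : W < fx phi z := lt_of_le_not_ge (fun t ht => mem_fx.2 ⟨hWV ht, hzW t ht⟩) fun h =>
    hvW (h (mem_fx.2 ⟨hv, hzv⟩))
  have h8 := two_mul_card_le hlt
  rw [hA4] at h8
  have hq4 : Nat.card (fx phi qA) = 4 := (s.card_fx frame_q.1.1 (by decide)).resolve_right hne.2
  have hqB : Nat.card (fx phi qB) = 4 := (s.card_fx_conj triple_conj.1).trans hq4
  have hqC : Nat.card (fx phi qC) = 4 := (s.card_fx_conj triple_conj.2).trans hq4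
  simp only [hldef, Finset.mem_insert, Finset.mem_singleton] at hzl
  rcases hzl with h | h | h | h | h | h | h | h <;> rw [h] at h8 hz1
  · exact hz1 rfl
  · rw [← hW, hA4] at h8; omega
  · omega
  · omega
  · omega
  · change _ ≤ Nat.card (fx phi qA) at h8; omega
  · change _ ≤ Nat.card (fx phi qB) at h8; omega
  · change _ ≤ Nat.card (fx phi qC) at h8; omega

/-- Two commuting transvections whose product is not one. -/
theorem pair_facts {a b : Equiv.Perm (Fin 6)} (ha : a * a = 1) (hb : b * b = 1) (hab : a * b = b * a)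
    (ha8 : Nat.card (fx phi a) = 8) (hb8 : Nat.card (fx phi b) = 8)
    (h4 : Nat.card (fx phi (a * b)) = 4) {wa wb : Y}
    (hal : ∀ v ∈ V, act phi a v = v ∨ act phi a v = v * wa)
    (hbl : ∀ v ∈ V, act phi b v = v ∨ act phi b v = v * wb) :
    fx phi (a * b) = fx phi a ⊓ fx phi b ∧ wa ∈ fx phi b ∧ wa ≠ wb := by
  haveI : Fact (Nat.Prime 2) := ⟨Nat.prime_two⟩
  obtain ⟨za, hza, hza1, hzal, hout⟩ := s.two_image ha ha8
  obtain ⟨zb, hzb, -, hzbl, hbout⟩ := s.two_image hb hb8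
  obtain rfl := s.center_unique ha8 hzal hal
  obtain rfl := s.center_unique hb8 hzbl hbl
  have hle : fx phi a ⊓ fx phi b ≤ fx phi (a * b) := fun v hv => by
    obtain ⟨hvV, h1⟩ := mem_fx.1 hv.1
    exact mem_fx.2 ⟨hvV, by rw [s.act_comp _ _ hvV, (mem_fx.1 hv.2).2, h1]⟩
  have hge : 4 ≤ Nat.card (fx phi a ⊓ fx phi b : Subgroup Y) := by
    have hlo := card_le_fixed_sq (B := fx phi a) (a := rep phi b) (s.hV.mono inf_le_left)
      (fun v hv => s.act_fx_of_comm hab hv) fun v hv => s.hV.comm ((QuotientGroup.eq_one_iff _).1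
        (by rw [QuotientGroup.mk_mul, mk_rep, ← map_mul, hb, map_one])) hv.1
    rw [ha8] at hlo
    have heq : fx phi a ⊓ centralizer ({rep phi b} : Set Y) = fx phi a ⊓ fx phi b :=
      le_antisymm (fun v hv => ⟨hv.1, hv.1.1, hv.2⟩) fun v hv => ⟨hv.1, hv.2.2⟩
    rw [heq] at hlo
    have hd := card_dvd_of_le (inf_le_left : fx phi a ⊓ fx phi b ≤ fx phi a)
    rw [ha8] at hd
    have := Nat.le_of_dvd (by norm_num) hd
    generalize Nat.card (fx phi a ⊓ fx phi b : Subgroup Y) = m at hlo hd this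
    interval_cases m <;> omega
  have heq := eq_of_le_of_card_ge hle (by omega)
  refine ⟨heq.symm, ?_, ?_⟩
  · obtain ⟨v, hv, hvF⟩ := s.exists_not_mem (U := fx phi a) (by omega)
    have h1 : act phi b (act phi a v) = act phi a (act phi b v) := by
      rw [← s.act_comp _ _ hv, ← s.act_comp _ _ hv, hab]
    rw [hout v hv hvF, act_mul] at h1
    refine mem_fx.2 ⟨hza.1, ?_⟩
    rcases hal (act phi b v) (act_mem b hv) with e | e <;> rw [e] at h1
    · exact absurd (act_injective b ((mul_eq_left.1 h1).trans (act_triv b).symm)) hza1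
    · exact mul_left_cancel h1
  · intro e
    subst e
    obtain ⟨v, hv, hva, hvb⟩ : ∃ v ∈ V, v ∉ fx phi a ∧ v ∉ fx phi b := by
      obtain ⟨p, hp, hpa⟩ := s.exists_not_mem (U := fx phi a) (by omega)
      by_cases hpb : p ∈ fx phi b
      · obtain ⟨q, hq, hqb⟩ := s.exists_not_mem (U := fx phi b) (by omega)
        by_cases hqa : q ∈ fx phi a
        · exact ⟨p * q, mul_mem hp hq,
            fun h => hpa ((Subgroup.mul_mem_cancel_right _ hqa).1 h),
            fun h => hqb ((Subgroup.mul_mem_cancel_left _ hpb).1 h)⟩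
        · exact ⟨q, hq, hqa, hqb⟩
      · exact ⟨p, hp, hpa, hpb⟩
    have hfix : v ∈ fx phi (a * b) := mem_fx.2 ⟨hv, by
      rw [s.act_comp _ _ hv, hbout v hv hvb, act_mul, hout v hv hva, (mem_fx.1 hza).2, mul_assoc,
        s.hV _ hza.1, mul_one]⟩
    exact hva (heq.ge hfix).1

theorem false_of_frame {a b c : Equiv.Perm (Fin 6)} (hf : Tri a b c)
    (ha8 : Nat.card (fx phi a) = 8) (hb8 : Nat.card (fx phi b) = 8) (hc8 : Nat.card (fx phi c) = 8)
    (hY : Cfsg.SectionalPRankLE 2 4 Y) : False := by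
  classical
  obtain ⟨⟨ha, hb, hc⟩, ⟨hab, hac, hbc⟩, ⟨cab, cac, cbc⟩, h8⟩ := hf
  obtain ⟨za, hza, hza1, hal, -⟩ := s.two_image ha ha8
  obtain ⟨zb, hzb, -, hbl, -⟩ := s.two_image hb hb8
  obtain ⟨zc, hzc, hzc1, hcl, -⟩ := s.two_image hc hc8
  obtain ⟨eab, hab', hneab⟩ := s.pair_facts ha hb hab ha8 hb8 (s.card_pair cab) hal hbl
  obtain ⟨eac, hac', hneac⟩ := s.pair_facts ha hc hac ha8 hc8 (s.card_pair cac) hal hcl
  obtain ⟨ebc, -, -⟩ := s.pair_facts hb hc hbc hb8 hc8 (s.card_pair cbc) hbl hcl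
  obtain ⟨-, hba', -⟩ :=
    s.pair_facts hb ha hab.symm hb8 ha8 (by rw [← hab]; exact s.card_pair cab) hbl hal
  obtain ⟨-, hca', -⟩ :=
    s.pair_facts hc ha hac.symm hc8 ha8 (by rw [← hac]; exact s.card_pair cac) hcl hal
  obtain ⟨-, hcb', -⟩ :=
    s.pair_facts hc hb hbc.symm hc8 hb8 (by rw [← hbc]; exact s.card_pair cbc) hcl hbl
  set W := fx phi (a * b) with hWdef
  have hW4 : Nat.card W = 4 := s.card_pair cab
  have hWV : W ≤ V := inf_le_left
  have hWa : W ≤ fx phi a := eab.le.trans inf_le_left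
  have hWb : W ≤ fx phi b := eab.le.trans inf_le_right
  have haW : za ∈ W := eab.ge ⟨hza, hab'⟩
  have hbW : zb ∈ W := eab.ge ⟨hba', hzb⟩
  have hcW : zc ∈ W := eab.ge ⟨hca', hcb'⟩
  have hWc : W = fx phi (a * c) := by
    refine (eq_of_le_of_card_ge (fun x hx => ?_) (by rw [hW4, s.card_pair cac])).symm
    -- `fx (a c)` is generated by the centres of `a` and `c`
    rcases four_cases (E := fx phi (a * c)) (s.hV.mono inf_le_left) (s.card_pair cac).le
      (eac.ge ⟨hza, hac'⟩) (eac.ge ⟨hca', hzc⟩) hza1 hzc1 (Ne.symm hneac) hx with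
      h | h | h | h <;> rw [h]
    exacts [one_mem _, haW, hcW, mul_mem haW hcW]
  have hWc' : W ≤ fx phi c := (hWc.le.trans eac.le).trans inf_le_right
  have hWbc : W = fx phi (b * c) :=
    eq_of_le_of_card_ge (fun x hx => ebc.ge ⟨hWb hx, hWc' hx⟩) (by rw [hW4, s.card_pair cbc])
  -- squares lie in `W`
  have hsq : ∀ x : Y, ∀ σ, (x : Y ⧸ V) = phi σ → σ * σ = 1 → x * x ∈ fx phi σ := by
    intro x σ hx h2
    have hxx : x * x ∈ V :=
      (QuotientGroup.eq_one_iff _).1 (by rw [QuotientGroup.mk_mul, hx, ← map_mul, h2, map_one])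
    refine mem_fx.2 ⟨hxx, ?_⟩
    rw [← s.act_congr hx hxx]; group
  have hsqW : ∀ σ τ w w', σ * σ = 1 → σ * τ = τ * σ → (∀ v ∈ V, act phi σ v = v ∨ act phi σ v = v * w) →
      (∀ v ∈ V, act phi τ v = v ∨ act phi τ v = v * w') → w ≠ w' → w ∈ V →
      rep phi σ * rep phi σ ∈ fx phi τ := by
    intro σ τ w w' h2 hστ hσ hτ hne hw
    set x := rep phi σ
    set y := rep phi τ
    have hxxV : x * x ∈ V := (hsq x σ (mk_rep σ) h2).1
    set u := x⁻¹ * (y * x * y⁻¹) with hu
    have huV : u ∈ V := by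
      refine QuotientGroup.eq.1 ?_
      rw [QuotientGroup.mk_mul, QuotientGroup.mk_mul, QuotientGroup.mk_inv, mk_rep, mk_rep,
        ← map_mul, ← map_inv, ← map_mul, ← hστ, mul_inv_cancel_right]
    have e1 : act phi τ (x * x) = x * x * (act phi σ u * u) := by
      have h2' : x⁻¹ * u * x = act phi σ u := by
        rw [← s.act_congr (x := x⁻¹) (σ := σ) (by
          rw [QuotientGroup.mk_inv, mk_rep, ← map_inv, inv_eq_of_mul_eq_one_right h2]) huV]
        group
      calc act phi τ (x * x) = (x * u) * (x * u) := by simp only [act, hu, y]; group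
        _ = x * x * ((x⁻¹ * u * x) * u) := by group
        _ = _ := by rw [h2']
    refine mem_fx.2 ⟨hxxV, ?_⟩
    rcases hσ u huV with e | e <;> rw [e] at e1
    · rw [e1, s.hV u huV, mul_one]
    · rw [mul_assoc u, s.hV.comm hw huV, ← mul_assoc u, s.hV u huV, one_mul] at e1
      rcases hτ _ hxxV with e' | e'
      · exact e'
      · exact absurd (mul_left_cancel (e1.symm.trans e')) hne
  have hWaW : rep phi a * rep phi a ∈ W :=
    eab.ge ⟨hsq _ a (mk_rep a) ha, hsqW a b za zb ha hab hal hbl hneab hza.1⟩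
  have hWbW : rep phi b * rep phi b ∈ W :=
    eab.ge ⟨hsqW b a zb za hb hab.symm hbl hal (Ne.symm hneab) hzb.1, hsq _ b (mk_rep b) hb⟩
  have hWcW : rep phi c * rep phi c ∈ W := by
    rw [hWc]
    exact eac.ge ⟨hsqW c a zc za hc hac.symm hcl hal (Ne.symm hneac) hzc.1, hsq _ c (mk_rep c) hc⟩
  have hprod : ∀ σ τ, σ * σ = 1 → τ * τ = 1 → σ * τ = τ * σ → fx phi (σ * τ) = W →
      rep phi σ * rep phi τ * (rep phi σ * rep phi τ) ∈ W := by
    intro σ τ h1 h2 h12 heq
    rw [← heq]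
    refine hsq _ _ (by rw [QuotientGroup.mk_mul, mk_rep, mk_rep, map_mul]) ?_
    rw [mul_assoc, ← mul_assoc τ, ← h12, mul_assoc σ τ τ, h2, mul_one, h1]
  have hpab := hprod a b ha hb hab rfl
  have hpac := hprod a c ha hc hac hWc.symm
  have hpbc := hprod b c hb hc hbc hWbc.symm
  -- the section
  set gens : Set Y := (V : Set Y) ∪ {rep phi a, rep phi b, rep phi c} with hgens
  set P := closure gens
  set Cw := centralizer (W : Set Y)
  have hVC : V ≤ Cw := fun v hv => mem_centralizer_iff.2 fun w hw => s.hV.comm (hWV hw) hv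
  have hrC : ∀ σ, W ≤ fx phi σ → rep phi σ ∈ Cw := fun σ hσ => mem_centralizer_iff.2 fun w hw =>
    mem_centralizer_singleton_iff.1 (hσ hw).2
  have hgenC : ∀ x ∈ gens, x ∈ Cw := by
    rintro x (hx | rfl | rfl | rfl)
    exacts [hVC hx, hrC a hWa, hrC b hWb, hrC c hWc']
  have hPC : P ≤ Cw := (closure_le Cw).2 hgenC
  haveI hN : (W.subgroupOf P).Normal := ⟨fun n hn g => by
    have h : (g : Y) * n * (g : Y)⁻¹ = n := by
      rw [← mem_centralizer_iff.1 (hPC g.2) n hn, mul_inv_cancel_right]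
    show (g : Y) * n * (g : Y)⁻¹ ∈ W
    rw [h]; exact hn⟩
  set π := QuotientGroup.mk' (W.subgroupOf P)
  have hWeq : ∀ x (hx : x ∈ P), x ∈ W → π ⟨x, hx⟩ = 1 := fun x hx h =>
    (QuotientGroup.eq_one_iff _).2 h
  have hgsq : ∀ x ∈ gens, x * x ∈ W := by
    rintro x (hx | rfl | rfl | rfl)
    exacts [s.hV x hx ▸ one_mem W, hWaW, hWbW, hWcW]
  have hsym : ∀ x y : Y, x ∈ Cw → x * y * (x * y) ∈ W → y * x * (y * x) ∈ W := fun x y hx h => by
    rw [show y * x * (y * x) = x⁻¹ * (x * y * (x * y)) * x by group, mul_assoc,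
      mem_centralizer_iff.1 hx _ h, inv_mul_cancel_left]
    exact h
  have hgprod : ∀ x ∈ gens, ∀ y ∈ gens, x * y * (x * y) ∈ W := by
    have hVmix : ∀ σ z, (∀ v ∈ V, act phi σ v = v ∨ act phi σ v = v * z) → z ∈ W →
        rep phi σ * rep phi σ ∈ W → ∀ v ∈ V, rep phi σ * v * (rep phi σ * v) ∈ W := by
      intro σ z hσ hz hxx v hv
      set x := rep phi σ
      rw [show x * v * (x * v) = x * v * x⁻¹ * (x * x) * v by group,
        show x * v * x⁻¹ = act phi σ v from rfl]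
      rcases hσ v hv with e | e <;> rw [e]
      · rw [mul_assoc v, s.hV.comm (hWV hxx) hv, ← mul_assoc v, s.hV v hv, one_mul]
        exact hxx
      · rw [show v * z * (x * x) * v = v * ((z * (x * x)) * v) by group,
          s.hV.comm (hWV (mul_mem hz hxx)) hv, ← mul_assoc, s.hV v hv, one_mul]
        exact mul_mem hz hxx
    rintro x (hx | rfl | rfl | rfl) y (hy | rfl | rfl | rfl)
    · exact s.hV _ (mul_mem hx hy) ▸ one_mem W
    · exact hsym _ _ (hrC a hWa) (hVmix a za hal haW hWaW x hx)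
    · exact hsym _ _ (hrC b hWb) (hVmix b zb hbl hbW hWbW x hx)
    · exact hsym _ _ (hrC c hWc') (hVmix c zc hcl hcW hWcW x hx)
    · exact hVmix a za hal haW hWaW y hy
    · exact mul_mem hWaW hWaW
    · exact hpab
    · exact hpac
    · exact hVmix b zb hbl hbW hWbW y hy
    · exact hsym _ _ (hrC a hWa) hpab
    · exact mul_mem hWbW hWbW
    · exact hpbc
    · exact hVmix c zc hcl hcW hWcW y hy
    · exact hsym _ _ (hrC a hWa) hpac
    · exact hsym _ _ (hrC b hWb) hpbc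
    · exact mul_mem hWcW hWcW
  set G : Set (P ⧸ W.subgroupOf P) :=
    {q | ∃ (x : Y) (hx : x ∈ gens), π ⟨x, subset_closure hx⟩ = q}
  have hgc : ∀ g ∈ G, ∀ h ∈ G, g * h = h * g := by
    rintro _ ⟨x, hx, rfl⟩ _ ⟨y, hy, rfl⟩
    set p : P := ⟨x, subset_closure hx⟩
    set q : P := ⟨y, subset_closure hy⟩
    have hp : π p * π p = 1 := by rw [← map_mul]; exact hWeq _ (p * p).2 (hgsq x hx)
    have hq : π q * π q = 1 := by rw [← map_mul]; exact hWeq _ (q * q).2 (hgsq y hy)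
    have hpq : π p * π q * (π p * π q) = 1 := by
      rw [← map_mul, ← map_mul]; exact hWeq _ (p * q * (p * q)).2 (hgprod x hx y hy)
    rw [← inv_eq_of_mul_eq_one_right hpq, mul_inv_rev, inv_eq_of_mul_eq_one_right hp,
      inv_eq_of_mul_eq_one_right hq]
  have htop : closure G = ⊤ := by
    rw [eq_top_iff]
    rintro q -
    obtain ⟨⟨x, hx⟩, rfl⟩ := QuotientGroup.mk'_surjective _ q
    refine closure_induction (p := fun x hx => π ⟨x, hx⟩ ∈ closure G)
      (fun y hy => subset_closure ⟨y, hy, rfl⟩) ?_ ?_ ?_ hx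
    · exact (map_one π).symm ▸ one_mem _
    · exact fun y z hy hz h1 h2 => by
        rw [show (⟨y * z, mul_mem hy hz⟩ : P) = ⟨y, hy⟩ * ⟨z, hz⟩ from rfl, map_mul]
        exact mul_mem h1 h2
    · exact fun y hy h1 => by
        rw [show (⟨y⁻¹, inv_mem hy⟩ : P) = ⟨y, hy⟩⁻¹ from rfl, map_inv]
        exact inv_mem h1
  have hcomm : IsMulCommutative (⊤ : Subgroup (P ⧸ W.subgroupOf P)) := by
    rw [← htop]
    exact isMulCommutative_closure hgc
  have hexp : ∀ g ∈ (⊤ : Subgroup (P ⧸ W.subgroupOf P)), g ^ 2 = 1 := by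
    intro g _
    have hg : g ∈ closure G := htop.ge (mem_top g)
    refine closure_induction (p := fun g _ => g ^ 2 = 1) ?_ (one_pow 2) ?_ ?_ hg
    · rintro _ ⟨x, hx, rfl⟩
      rw [pow_two, ← map_mul]
      exact hWeq _ _ (hgsq x hx)
    · intro y z _ _ h1 h2
      rw [Commute.mul_pow, h1, h2, one_mul]
      exact congrArg Subtype.val (hcomm.is_comm.comm ⟨y, mem_top _⟩ ⟨z, mem_top _⟩)
    · intro y _ h1
      rw [inv_pow, h1, inv_one]
  have hle := hY P (W.subgroupOf P) ⊤ hcomm hexp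
  -- but the order is at least `32`
  have hP128 : 128 ≤ Nat.card P := by
    let ρ : P →* Y ⧸ V := (QuotientGroup.mk' V).comp P.subtype
    have hk : Nat.card ρ.ker = 16 := by
      rw [← s.h16]
      exact Nat.card_congr ⟨fun x => ⟨x.1.1, (QuotientGroup.eq_one_iff _).1 (MonoidHom.mem_ker.1 x.2)⟩,
        fun v => ⟨⟨v.1, subset_closure (Or.inl v.2)⟩, MonoidHom.mem_ker.2
          ((QuotientGroup.eq_one_iff _).2 v.2)⟩, fun x => rfl, fun x => rfl⟩
    have hr : 8 ≤ Nat.card ρ.range := by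
      have hmem : ∀ x ∈ ({1, a, b, c, a * b, a * c, b * c, a * b * c} : Finset (Equiv.Perm (Fin 6))),
          phi x ∈ ρ.range := by
        have hg : ∀ x, rep phi x ∈ P → phi x ∈ ρ.range := fun x hx => ⟨⟨_, hx⟩, mk_rep x⟩
        have h1 := hg a (subset_closure (Or.inr (Or.inl rfl)))
        have h2 := hg b (subset_closure (Or.inr (Or.inr (Or.inl rfl))))
        have h3 := hg c (subset_closure (Or.inr (Or.inr (Or.inr rfl))))
        intro x hx
        simp only [Finset.mem_insert, Finset.mem_singleton] at hx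
        rcases hx with rfl | rfl | rfl | rfl | rfl | rfl | rfl | rfl <;> (try simp only [map_one, map_mul])
        exacts [one_mem _, h1, h2, h3, mul_mem h1 h2, mul_mem h1 h3, mul_mem h2 h3,
          mul_mem (mul_mem h1 h2) h3]
      rw [← h8, ← Fintype.card_coe, ← Nat.card_eq_fintype_card]
      exact Nat.card_le_card_of_injective (fun x => (⟨phi x.1, hmem x.1 x.2⟩ : ρ.range))
        fun x y h => Subtype.ext (s.inj (congrArg (fun t : ρ.range => (t : Y ⧸ V)) h))
    rw [← ρ.ker.card_mul_index, index_ker, hk]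
    omega
  have hN4 : Nat.card (W.subgroupOf P) = 4 := by
    rw [Nat.card_congr (subgroupOfEquivOfLe
      (show W ≤ P from fun x hx => subset_closure (Or.inl (hWV hx)))).toEquiv]
    exact hW4
  have hmul := (W.subgroupOf P).card_mul_index
  rw [hN4] at hmul
  rw [card_top, ← index_eq_card] at hle
  omega

end SixData

/-- An extension of `E₁₆` by a faithful `S₆` has sectional `2`-rank at least `5`. -/
theorem not_sectional_six {Y : Type u} [Group Y] [Finite Y] {V : Subgroup Y} [V.Normal]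
    {phi : Equiv.Perm (Fin 6) →* Y ⧸ V} (s : SixData V phi) :
    ¬ Cfsg.SectionalPRankLE 2 4 Y := by
  intro hY
  rcases s.exists_transvection with h | h
  · have hb : Nat.card (SixData.fx phi pB) = 8 := by
      rw [← s.card_fx_conj (x := pA) ⟨Equiv.swap 0 2 * Equiv.swap 1 3, by decide⟩, h]
    have hc : Nat.card (SixData.fx phi pC) = 8 := by
      rw [← s.card_fx_conj (x := pA) ⟨Equiv.swap 0 4 * Equiv.swap 1 5, by decide⟩, h]
    exact s.false_of_frame frame_p h hb hc hY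
  · exact s.false_of_frame frame_q h ((s.card_fx_conj triple_conj.1).trans h)
      ((s.card_fx_conj triple_conj.2).trans h) hY

end CfsgLib.SRank
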