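import Cfsg.Agent.Lib.SRank.Basic

/-!
Sectional `2`-rank from a Sylow `2`-subgroup.
-/

set_option autoImplicit false
set_option linter.style.haveILetI false

namespace CfsgLib.SRank

open Subgroup
open CfsgLib.TwoLinear (Gen)

variable {G : Type*} [Group G] [Finite G]

theorem sectional_of_sylow {k : ℕ} (S : Sylow 2 G) (h : ∀ K : Subgroup S, Gen K k) :
    Cfsg.SectionalPRankLE 2 k G := by
  classical
  haveI : Fact (Nat.Prime 2) := ⟨Nat.prime_two⟩
  intro H N _ A hA hA2
  let f : ↥(A.comap (QuotientGroup.mk' N)) →* A :=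
    ((QuotientGroup.mk' N).comp (A.comap (QuotientGroup.mk' N)).subtype).codRestrict A fun x => x.2
  have hf : Function.Surjective f := by
    rintro ⟨q, hq⟩
    obtain ⟨y, rfl⟩ := QuotientGroup.mk'_surjective N q
    exact ⟨⟨y, hq⟩, rfl⟩
  obtain ⟨P⟩ : Nonempty (Sylow 2 ↥(A.comap (QuotientGroup.mk' N))) := inferInstance
  have hA2' : IsPGroup 2 A := fun a => ⟨1, by rw [pow_one]; exact Subtype.ext (hA2 a a.2)⟩
  have hPf : (P : Subgroup ↥(A.comap (QuotientGroup.mk' N))).map f = ⊤ := by
    refine index_eq_one.1 ?_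
    obtain ⟨j, hj⟩ := hA2'.exists_card_eq
    have h1 : ((P : Subgroup ↥(A.comap (QuotientGroup.mk' N))).map f).index ∣ 2 ^ j :=
      hj ▸ index_dvd_card _
    obtain ⟨i, -, hi⟩ := (Nat.dvd_prime_pow Nat.prime_two).1 h1
    have h2 := Subgroup.index_map_dvd (P : Subgroup ↥(A.comap (QuotientGroup.mk' N))) hf
    rcases i with _ | i
    · simpa using hi
    · exact absurd ((dvd_pow_self 2 i.succ_ne_zero).trans (hi ▸ h2)) P.not_dvd_index
  -- a conjugate of `P` lies in `S`
  let ι : ↥(A.comap (QuotientGroup.mk' N)) →* G := H.subtype.comp (A.comap (QuotientGroup.mk' N)).subtype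
  have hι : Function.Injective ι := H.subtype_injective.comp (Subgroup.subtype_injective _)
  obtain ⟨R, hR⟩ := (P.2.map ι).exists_le_sylow
  obtain ⟨g, hg⟩ := MulAction.exists_smul_eq G R S
  let e : R ≃* S := (R.equivSMul g).trans (MulEquiv.subgroupCongr (congrArg _ hg))
  let j : ↥(P : Subgroup ↥(A.comap (QuotientGroup.mk' N))) →* S :=
    (e.toMonoidHom.comp (Subgroup.inclusion hR)).comp (ι.subgroupMap P)
  have hj : Function.Injective j :=
    (e.injective.comp (Subgroup.inclusion_injective hR)).comp fun x y h =>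
      Subtype.ext (hι (congrArg (fun t : (P : Subgroup ↥(A.comap (QuotientGroup.mk' N))).map ι => (t : G)) h))
  have hP : Gen ↥(P : Subgroup ↥(A.comap (QuotientGroup.mk' N))) k :=
    (h j.range).of_surjective (MonoidHom.ofInjective hj).symm.toMonoidHom
      (MulEquiv.surjective _)
  refine card_le_of_gen (fun a b => hA.is_comm.comm a b)
    (fun a => Subtype.ext (by rw [← pow_two]; exact hA2 a a.2))
    (hP.of_surjective (f.comp (P : Subgroup ↥(A.comap (QuotientGroup.mk' N))).subtype) fun a => ?_)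
  obtain ⟨x, hx, hxa⟩ : a ∈ (P : Subgroup ↥(A.comap (QuotientGroup.mk' N))).map f := hPf ▸ mem_top a
  exact ⟨⟨x, hx⟩, hxa⟩

end CfsgLib.SRank
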