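import Cfsg.Agent.Lib.Amalgam.DihedralWreath

/-!
Computations in the wreath product of a dihedral group of order `8` by a group of order `2`.
-/

set_option autoImplicit false
set_option linter.style.haveILetI false

namespace CfsgLib.SRank.WreathModel

open DihedralGroup CfsgLib.Amalgam.DihWr

/-- The dihedral group of order `8`. -/
abbrev D := DihedralGroup 4

/-- The centre. -/
def Zd : Subgroup D where
  carrier := {a | a = 1 ∨ a = r 2}
  mul_mem' := fun {a b} ha hb => by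
    revert a b; simp only [Set.mem_setOf_eq]; decide
  one_mem' := Or.inl rfl
  inv_mem' := fun {a} ha => by
    revert a; simp only [Set.mem_setOf_eq]; decide

/-- The two four-groups. -/
def Fs (i : Bool) : Subgroup D where
  carrier := {a | a = 1 ∨ a = r 2 ∨ a = sr (if i then 0 else 1) ∨ a = sr (if i then 2 else 3)}
  mul_mem' := fun {a b} ha hb => by
    revert a b; simp only [Set.mem_setOf_eq]; revert i; decide
  one_mem' := Or.inl rfl
  inv_mem' := fun {a} ha => by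
    revert a; simp only [Set.mem_setOf_eq]; revert i; decide

theorem mem_Zd {a : D} : a ∈ Zd ↔ a = 1 ∨ a = r 2 := Iff.rfl

theorem mem_Fs {i : Bool} {a : D} :
    a ∈ Fs i ↔ a = 1 ∨ a = r 2 ∨ a = sr (if i then 0 else 1) ∨ a = sr (if i then 2 else 3) := Iff.rfl

instance (a : D) : Decidable (a ∈ Zd) := decidable_of_iff _ mem_Zd.symm

instance (i : Bool) (a : D) : Decidable (a ∈ Fs i) := decidable_of_iff _ mem_Fs.symm

theorem Zd_central : ∀ a b : D, a ∈ Zd → a * b = b * a ∧ a * a = 1 := by decide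

theorem Zd_le : ∀ (i : Bool) (a : D), a ∈ Zd → a ∈ Fs i := by decide

theorem Fs_exp : ∀ (i : Bool) (a b : D), a ∈ Fs i → b ∈ Fs i → a * b = b * a ∧ a * a = 1 := by decide

theorem Fs_conj : ∀ (i : Bool) (a b : D), a ∈ Fs i → b * a * b⁻¹ ∈ Fs i := by decide

theorem sq_cases : ∀ a : D, a * a = 1 → a ∈ Fs true ∨ a ∈ Fs false := by decide

theorem other_side : ∀ a c : D, a * a = 1 → a ∉ Fs true → c * c = 1 → a * c = c * a → c ∈ Fs false := by
  decide

theorem comm_Zd : ∀ a b : D, a * b * a⁻¹ * b⁻¹ ∈ Zd ∧ a * a ∈ Zd := by decide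

theorem nine : ∀ a : D, a = 1 ∨ a = sr 0 ∨ a = sr 1 ∨ a = sr 0 * sr 1 ∨ a = sr 1 * sr 0 ∨
    a = sr 0 * sr 1 * sr 0 ∨ a = sr 1 * sr 0 * sr 1 ∨ a = sr 0 * sr 1 * (sr 0 * sr 1) := by decide

theorem noncomm : (sr 0 : D) * sr 1 ≠ sr 1 * sr 0 ∧ (sr 0 * sr 1 * (sr 0 * sr 1) : D) = r 2 := by decide

theorem mem_gen : (sr 0 : D) ∈ Fs true ∧ (sr 1 : D) ∈ Fs false ∧ (sr 0 : D) ∉ Zd ∧ (sr 1 : D) ∉ Zd := by
  decide

/-- Commuting non-central elements of opposite four-groups sit in opposite factors. -/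
theorem opposite : ∀ a b c d : D, a ∈ Fs true → b ∈ Fs true → c ∈ Fs false → d ∈ Fs false →
    a * c = c * a → b * d = d * b → ¬ (a ∈ Zd ∧ b ∈ Zd) → ¬ (c ∈ Zd ∧ d ∈ Zd) →
    (a * (sr 0)⁻¹ ∈ Zd ∧ b ∈ Zd ∧ c ∈ Zd ∧ d * (sr 1)⁻¹ ∈ Zd) ∨
      (a ∈ Zd ∧ b * (sr 0)⁻¹ ∈ Zd ∧ c * (sr 1)⁻¹ ∈ Zd ∧ d ∈ Zd) := by
  decide +kernel

/-- The exchange. -/
def flip : Multiplicative (ZMod 2) := Multiplicative.ofAdd 1

theorem flip_cases : ∀ t : Multiplicative (ZMod 2), t = 1 ∨ t = flip := by decide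

theorem wT_sq : wT * wT = 1 := by decide +kernel

theorem wT_conj : ∀ a b : D, wT * SemidirectProduct.inl (a, b) * wT = SemidirectProduct.inl (b, a) := by
  decide +kernel

/-- Commutators of an element outside the base with the generators do not commute. -/
theorem outside : ∀ a b : D,
    let u : DW := ⟨(a, b), flip⟩
    let x : DW := SemidirectProduct.inl (sr 0, 1)
    let y : DW := SemidirectProduct.inl (sr 1, 1)
    u * x * u⁻¹ * x⁻¹ * (u * y * u⁻¹ * y⁻¹) ≠ u * y * u⁻¹ * y⁻¹ * (u * x * u⁻¹ * x⁻¹) := by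
  decide +kernel

/-- The involutions outside the base are conjugate under the base. -/
theorem outside_conj : ∀ a b : D, (⟨(a, b), flip⟩ : DW) * ⟨(a, b), flip⟩ = 1 →
    ∃ c : D, SemidirectProduct.inl (c, 1) * wT * (SemidirectProduct.inl (c, 1))⁻¹ = (⟨(a, b), flip⟩ : DW) := by
  decide +kernel

/-- The centralizer of the base. -/
theorem cent_base : ∀ (a b : D) (t : Multiplicative (ZMod 2)),
    (⟨(a, b), t⟩ : DW) * SemidirectProduct.inl (sr 0, 1) = SemidirectProduct.inl (sr 0, 1) * ⟨(a, b), t⟩ →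
    (⟨(a, b), t⟩ : DW) * SemidirectProduct.inl (sr 1, 1) = SemidirectProduct.inl (sr 1, 1) * ⟨(a, b), t⟩ →
    (⟨(a, b), t⟩ : DW) * SemidirectProduct.inl (1, sr 0) = SemidirectProduct.inl (1, sr 0) * ⟨(a, b), t⟩ →
    (⟨(a, b), t⟩ : DW) * SemidirectProduct.inl (1, sr 1) = SemidirectProduct.inl (1, sr 1) * ⟨(a, b), t⟩ →
    t = 1 ∧ a ∈ Zd ∧ b ∈ Zd := by
  decide +kernel

theorem cent_wT : ∀ (a b : D) (t : Multiplicative (ZMod 2)),
    (⟨(a, b), t⟩ : DW) * wT = wT * ⟨(a, b), t⟩ ↔ a = b := by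
  decide +kernel

/-- An element centralizing `wT` with commutators centralizing `wT` is central. -/
theorem core_elim : ∀ (a : D) (t : Multiplicative (ZMod 2)),
    let u : DW := ⟨(a, a), t⟩
    let x : DW := SemidirectProduct.inl (sr 0, 1)
    let y : DW := SemidirectProduct.inl (sr 1, 1)
    u * x * u⁻¹ * x⁻¹ * wT = wT * (u * x * u⁻¹ * x⁻¹) →
    u * y * u⁻¹ * y⁻¹ * wT = wT * (u * y * u⁻¹ * y⁻¹) →
    (u * x * u⁻¹ * x⁻¹ * y * (u * x * u⁻¹ * x⁻¹)⁻¹ * y⁻¹) * wT =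
      wT * (u * x * u⁻¹ * x⁻¹ * y * (u * x * u⁻¹ * x⁻¹)⁻¹ * y⁻¹) →
      u = 1 ∨ u = wZ := by
  decide +kernel

theorem wT_right : wT.right = flip ∧ flip ≠ 1 := by decide +kernel

theorem wZ_mem : wZ = (⟨(r 2, r 2), 1⟩ : DW) := rfl

/-- A Sylow `2`-subgroup of `S₈`. -/
theorem sylow_perm_eight (T : Sylow 2 (Equiv.Perm (Fin 8))) :
    Nonempty (DW ≃* (T : Subgroup (Equiv.Perm (Fin 8)))) := by
  have h : Rel (Equiv.swap (0 : Fin 8) 1 * Equiv.swap 1 2 * Equiv.swap 2 3) (Equiv.swap (0 : Fin 8) 2)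
      (Equiv.swap (0 : Fin 8) 4 * Equiv.swap 1 5 * Equiv.swap 2 6 * Equiv.swap 3 7) := by
    constructor <;> decide +kernel
  refine range_isSylow h (by decide +kernel) (m := 315) ?_ (by decide) T
  rw [Nat.card_perm, Nat.card_fin]
  rfl

end CfsgLib.SRank.WreathModel
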