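import Cfsg.Agent.Lib.SRank.WreathModel
import Cfsg.Agent.Lib.SRank.Seven.Basic

/-!
A `2`-group of sectional rank at most `4` containing `D₈ ≀ 2`: centre, normalizer, normal `E₁₆`.
-/

set_option autoImplicit false
set_option linter.style.haveILetI false

namespace CfsgLib.SRank.WreathNorm

open Subgroup DihedralGroup CfsgLib.Amalgam.DihWr CfsgLib.SRank.WreathModel

universe u

variable {S : Type u} [Group S] [Finite S]

/-- The hypotheses. -/
structure Setup (f : DW →* S) : Prop where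
  inj : Function.Injective f
  two : IsPGroup 2 S
  rank : Cfsg.SectionalPRankLE 2 4 S

/-- The base, as a homomorphism. -/
def ι (f : DW →* S) : D × D →* S := f.comp SemidirectProduct.inl

/-- The base. -/
def base (f : DW →* S) : Subgroup S := (ι f).range

/-- The centre of the base. -/
def zbase (f : DW →* S) : Subgroup S := (Zd.prod Zd).map (ι f)

/-- The two normal elementary subgroups of order `16`. -/
def four (f : DW →* S) (i : Bool) : Subgroup S := ((Fs i).prod (Fs i)).map (ι f)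

variable {f : DW →* S}

omit [Finite S] in
theorem exists_rep {p : S} (hp : p ∈ f.range) : ∃ a b t, p = f ⟨(a, b), t⟩ := by
  obtain ⟨⟨⟨a, b⟩, t⟩, rfl⟩ := hp
  exact ⟨a, b, t, rfl⟩

omit [Finite S] in
theorem ι_eq (a b : D) : ι f (a, b) = f ⟨(a, b), 1⟩ := rfl

omit [Finite S] in
theorem base_le : base f ≤ f.range := by
  rintro _ ⟨u, rfl⟩; exact ⟨_, rfl⟩

omit [Finite S] in
theorem zbase_le : zbase f ≤ base f := map_le_range _ _

omit [Finite S] in
theorem four_le (i : Bool) : four f i ≤ base f := map_le_range _ _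

omit [Finite S] in
theorem zbase_cen {m r : S} (hm : m ∈ base f) (hr : r ∈ zbase f) : m * r = r * m := by
  obtain ⟨⟨a, b⟩, rfl⟩ := hm
  obtain ⟨⟨c, d⟩, ⟨hc, hd⟩, rfl⟩ := hr
  rw [← map_mul, ← map_mul, Prod.mk_mul_mk, Prod.mk_mul_mk, (Zd_central c a hc).1, (Zd_central d b hd).1]

omit [Finite S] in
theorem base_sq {m : S} (hm : m ∈ base f) : m * m ∈ zbase f := by
  obtain ⟨⟨a, b⟩, rfl⟩ := hm
  exact ⟨(a * a, b * b), ⟨(comm_Zd a a).2, (comm_Zd b b).2⟩, map_mul (ι f) (a, b) (a, b)⟩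

omit [Finite S] in
theorem base_comm {m n : S} (hm : m ∈ base f) (hn : n ∈ base f) : m * n * m⁻¹ * n⁻¹ ∈ zbase f := by
  obtain ⟨⟨a, b⟩, rfl⟩ := hm
  obtain ⟨⟨c, d⟩, rfl⟩ := hn
  exact ⟨(a * c * a⁻¹ * c⁻¹, b * d * b⁻¹ * d⁻¹), ⟨(comm_Zd a c).1, (comm_Zd b d).1⟩,
    by simp only [← map_mul, ← map_inv]; rfl⟩

omit [Finite S] in
theorem wT_swap (a b : D) : f wT * ι f (a, b) * (f wT)⁻¹ = ι f (b, a) := by
  have hi : (f wT)⁻¹ = f wT := inv_eq_of_mul_eq_one_right (by rw [← map_mul, wT_sq, map_one])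
  rw [hi]
  show f wT * f (SemidirectProduct.inl (a, b)) * f wT = f (SemidirectProduct.inl (b, a))
  rw [← map_mul, ← map_mul, wT_conj]

omit [Finite S] in
theorem four_normal {i : Bool} {p v : S} (hp : p ∈ f.range) (hv : v ∈ four f i) :
    p * v * p⁻¹ ∈ four f i := by
  obtain ⟨⟨c, d⟩, ⟨hc, hd⟩, rfl⟩ := hv
  obtain ⟨a, b, t, rfl⟩ := exists_rep hp
  rcases flip_cases t with rfl | rfl
  · rw [← ι_eq, ← map_inv, ← map_mul, ← map_mul]
    exact mem_map_of_mem _ ⟨Fs_conj i c a hc, Fs_conj i d b hd⟩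
  · rw [show (⟨(a, b), flip⟩ : DW) = ⟨(a, b), 1⟩ * wT from SemidirectProduct.mk_eq_inl_mul_inr _ _,
      map_mul, ← ι_eq,
      show ι f (a, b) * f wT * ι f (c, d) * (ι f (a, b) * f wT)⁻¹ =
        ι f (a, b) * (f wT * ι f (c, d) * (f wT)⁻¹) * (ι f (a, b))⁻¹ by group,
      wT_swap, ← map_inv, ← map_mul, ← map_mul]
    exact mem_map_of_mem _ ⟨Fs_conj i d a hd, Fs_conj i c b hc⟩

omit [Finite S] in
theorem four_sup : four f true ⊔ four f false = base f := by
  refine le_antisymm (sup_le (four_le true) (four_le false)) ?_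
  have hgen : ∀ a : D, ι f (a, 1) ∈ four f true ⊔ four f false ∧ ι f (1, a) ∈ four f true ⊔ four f false := by
    intro a
    obtain ⟨hx, hy, -, -⟩ := mem_gen
    have h1 : ι f (sr 0, 1) ∈ four f true ⊔ four f false := mem_sup_left ⟨_, ⟨hx, one_mem _⟩, rfl⟩
    have h2 : ι f (sr 1, 1) ∈ four f true ⊔ four f false := mem_sup_right ⟨_, ⟨hy, one_mem _⟩, rfl⟩
    have h3 : ι f (1, sr 0) ∈ four f true ⊔ four f false := mem_sup_left ⟨_, ⟨one_mem _, hx⟩, rfl⟩
    have h4 : ι f (1, sr 1) ∈ four f true ⊔ four f false := mem_sup_right ⟨_, ⟨one_mem _, hy⟩, rfl⟩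
    have key : ∀ x y : D, ι f (x * y, 1) = ι f (x, 1) * ι f (y, 1) ∧ ι f (1, x * y) = ι f (1, x) * ι f (1, y) :=
      fun x y => ⟨by rw [← map_mul, Prod.mk_mul_mk, one_mul], by rw [← map_mul, Prod.mk_mul_mk, one_mul]⟩
    rcases nine a with rfl | rfl | rfl | rfl | rfl | rfl | rfl | rfl
    · rw [show ((1, 1) : D × D) = 1 from rfl, map_one]; exact ⟨one_mem _, one_mem _⟩
    · exact ⟨h1, h3⟩
    · exact ⟨h2, h4⟩
    · rw [(key _ _).1, (key _ _).2]; exact ⟨mul_mem h1 h2, mul_mem h3 h4⟩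
    · rw [(key _ _).1, (key _ _).2]; exact ⟨mul_mem h2 h1, mul_mem h4 h3⟩
    · rw [(key _ _).1, (key _ _).2, (key (sr 0) (sr 1)).1, (key (sr 0) (sr 1)).2]
      exact ⟨mul_mem (mul_mem h1 h2) h1, mul_mem (mul_mem h3 h4) h3⟩
    · rw [(key _ _).1, (key _ _).2, (key (sr 1) (sr 0)).1, (key (sr 1) (sr 0)).2]
      exact ⟨mul_mem (mul_mem h2 h1) h2, mul_mem (mul_mem h4 h3) h4⟩
    · rw [(key _ _).1, (key _ _).2, (key (sr 0) (sr 1)).1, (key (sr 0) (sr 1)).2]
      exact ⟨mul_mem (mul_mem h1 h2) (mul_mem h1 h2), mul_mem (mul_mem h3 h4) (mul_mem h3 h4)⟩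
  rintro _ ⟨⟨a, b⟩, rfl⟩
  rw [show ((a, b) : D × D) = (a, 1) * (1, b) by rw [Prod.mk_mul_mk, mul_one, one_mul], map_mul]
  exact mul_mem (hgen a).1 (hgen b).2

namespace Setup

variable (hf : Setup f)
include hf

omit [Finite S] in
theorem ι_inj : Function.Injective (ι f) := hf.inj.comp SemidirectProduct.inl_injective

omit [Finite S] in
theorem card_range : Nat.card f.range = 128 := by
  rw [← Nat.card_congr (MonoidHom.ofInjective hf.inj).toEquiv, card_DW]

omit [Finite S] in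
theorem card_base : Nat.card (base f) = 64 := by
  rw [base, ← Nat.card_congr (MonoidHom.ofInjective hf.ι_inj).toEquiv, Nat.card_prod, DihedralGroup.nat_card]

omit [Finite S] in
theorem card_zbase : Nat.card (zbase f) = 4 := by
  rw [zbase, card_map_of_injective hf.ι_inj, Nat.card_congr (Subgroup.prodEquiv Zd Zd).toEquiv,
    Nat.card_prod]
  have : Nat.card Zd = 2 := by
    rw [Nat.card_eq_two_iff' (1 : Zd)]
    exact ⟨⟨r 2, Or.inr rfl⟩, fun e => absurd (congrArg Subtype.val e) (by decide),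
      fun y hy => Subtype.ext (y.2.resolve_left fun e => hy (Subtype.ext e))⟩
  rw [this]

omit [Finite S] in
theorem card_four (i : Bool) : Nat.card (four f i) = 16 := by
  rw [four, card_map_of_injective hf.ι_inj, Nat.card_congr (Subgroup.prodEquiv _ _).toEquiv, Nat.card_prod]
  have : Nat.card (Fs i) = 4 := by
    show Nat.card {a // a ∈ Fs i} = 4
    rw [Nat.card_eq_fintype_card]
    cases i <;> rfl
  rw [this]

omit [Finite S] in
theorem four_ne : four f true ≠ four f false := by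
  intro h
  have hm : ι f (sr 0, 1) ∈ four f false := h ▸ ⟨_, ⟨mem_gen.1, one_mem _⟩, rfl⟩
  obtain ⟨⟨a, b⟩, ⟨ha, -⟩, he⟩ := hm
  have h1 : a = sr 0 := congrArg Prod.fst (hf.ι_inj he)
  rw [h1] at ha
  revert ha
  show ¬ ((sr 0 : D) ∈ Fs false)
  decide

omit [Finite S] in
theorem four_exp (i : Bool) : Exp2 (four f i) := by
  rintro _ ⟨⟨a, b⟩, ⟨ha, hb⟩, rfl⟩
  rw [← map_mul, Prod.mk_mul_mk, (Fs_exp i a a ha ha).2, (Fs_exp i b b hb hb).2]
  exact map_one _

omit [Finite S] in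
theorem wZ_ne : f wZ ≠ 1 := by
  intro h
  have h1 : ι f (r 2, r 2) = ι f 1 := by rw [map_one]; exact h
  have h2 : (r 2 : D) = 1 := congrArg Prod.fst (hf.ι_inj h1)
  exact absurd h2 (by decide)

omit [Finite S] in
theorem wZ_mem : f wZ ∈ zbase f := ⟨(r 2, r 2), ⟨Or.inr rfl, Or.inr rfl⟩, rfl⟩

omit [Finite S] in
theorem wZ_card : Nat.card (zpowers (f wZ)) = 2 := by
  rw [Nat.card_zpowers, orderOf_eq_prime_iff]
  refine ⟨?_, hf.wZ_ne⟩
  rw [pow_two]
  show ι f (r 2, r 2) * ι f (r 2, r 2) = 1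
  rw [← map_mul]
  exact map_one _

theorem mem_zpowers_wZ {x : S} (hx : x ∈ zpowers (f wZ)) : x = 1 ∨ x = f wZ :=
  two_cases hf.wZ_card.le (mem_zpowers _) hf.wZ_ne hx

theorem central_cases {c : S} (hc : c ∈ f.range) (hcc : ∀ p ∈ f.range, p * c = c * p) :
    c ∈ zpowers (f wZ) := by
  obtain ⟨a, b, t, rfl⟩ := exists_rep hc
  have key : ∀ u : DW, (⟨(a, b), t⟩ : DW) * u = u * ⟨(a, b), t⟩ := fun u => hf.inj (by
    rw [map_mul, map_mul]; exact (hcc _ ⟨u, rfl⟩).symm)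
  obtain ⟨rfl, ha, hb⟩ := cent_base a b t (key _) (key _) (key _) (key _)
  have hab := (cent_wT a b 1).1 (key wT)
  subst hab
  rcases ha with rfl | rfl
  · rw [show (⟨(1, 1), 1⟩ : DW) = 1 from rfl, map_one]; exact one_mem _
  · exact mem_zpowers _

/-- The centralizer of the wreath product. -/
theorem cent_le {c : S} (hc : ∀ p ∈ f.range, p * c = c * p) : c ∈ zpowers (f wZ) := by
  classical
  haveI : Fact (Nat.Prime 2) := ⟨Nat.prime_two⟩
  by_contra hnot
  have hex : ∃ k, c ^ 2 ^ k ∈ zpowers (f wZ) := by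
    obtain ⟨k, hk⟩ := IsPGroup.iff_orderOf.1 hf.two c
    exact ⟨k, by rw [← hk, pow_orderOf_eq_one]; exact one_mem _⟩
  have hk := Nat.find_spec hex
  rcases Nat.eq_zero_or_pos (Nat.find hex) with h0 | hpos
  · rw [h0, pow_zero, pow_one] at hk; exact hnot hk
  set c' := c ^ 2 ^ (Nat.find hex - 1) with hc'
  have hc'not : c' ∉ zpowers (f wZ) := Nat.find_min hex (Nat.sub_lt hpos one_pos)
  have hc'sq : c' * c' ∈ zpowers (f wZ) := by
    rw [hc', ← pow_two, ← pow_mul, ← pow_succ, Nat.sub_add_cancel hpos]; exact hk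
  have hc'c : ∀ p ∈ f.range, p * c' = c' * p := fun p hp => ((show Commute p c from hc p hp).pow_right _).eq
  have hc'P : c' ∉ f.range := fun hm => hc'not (hf.central_cases hm hc'c)
  have hle : zpowers (f wZ) ≤ zbase f := zpowers_le.2 hf.wZ_mem
  set G : Set S := (base f : Set S) ∪ {c'} with hG
  have hbound := Seven.card_closure_le hf.rank (G := G) (R := zbase f)
    (fun r hr => Subgroup.subset_closure (Or.inl (zbase_le hr))) (by
      rintro g (hg | rfl) r hr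
      · rw [zbase_cen hg hr, mul_inv_cancel_right]; exact hr
      · rw [← hc'c r (base_le (zbase_le hr)), mul_inv_cancel_right]; exact hr) (by
      rintro g (hg | rfl)
      exacts [base_sq hg, hle hc'sq]) (by
      rintro x (hx | rfl) y (hy | rfl)
      · exact base_comm hx hy
      · rw [hc'c x (base_le hx), mul_inv_cancel_right, mul_inv_cancel]; exact one_mem _
      · rw [← hc'c y (base_le hy), mul_inv_cancel_right, mul_inv_cancel]; exact one_mem _
      · rw [mul_inv_cancel_right, mul_inv_cancel]; exact one_mem _)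
  have hlt : base f < Subgroup.closure G := lt_of_le_not_ge (fun x hx => Subgroup.subset_closure (Or.inl hx))
    fun hh => hc'P (base_le (hh (Subgroup.subset_closure (Or.inr rfl))))
  have := two_mul_card_le hlt
  rw [hf.card_base] at this
  rw [hf.card_zbase] at hbound
  omega

theorem center_range : (center f.range).map f.range.subtype = zpowers (f wZ) := by
  refine le_antisymm ?_ ?_
  · rintro _ ⟨c, hc, rfl⟩
    exact hf.central_cases c.2 fun p hp => congrArg Subtype.val (mem_center_iff.1 hc ⟨p, hp⟩)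
  · rw [zpowers_le]
    refine ⟨⟨f wZ, ⟨_, rfl⟩⟩, mem_center_iff.2 fun p => Subtype.ext ?_, rfl⟩
    obtain ⟨a, b, t, hp⟩ := exists_rep p.2
    show (p : S) * f wZ = f wZ * p
    rw [hp]
    rcases flip_cases t with rfl | rfl
    · exact zbase_cen ⟨(a, b), rfl⟩ hf.wZ_mem
    · rw [show (⟨(a, b), flip⟩ : DW) = ⟨(a, b), 1⟩ * wT from SemidirectProduct.mk_eq_inl_mul_inr _ _, map_mul]
      have h1 : Commute (f ⟨(a, b), 1⟩) (f wZ) := zbase_cen ⟨(a, b), rfl⟩ hf.wZ_mem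
      have h2 : Commute (f wT) (f wZ) := conj_eq_iff.1 (wT_swap (f := f) (r 2) (r 2))
      exact (h1.mul_left h2).eq

theorem center_eq : center S = zpowers (f wZ) ∧ Nat.card (center S) = 2 := by
  haveI : Fact (Nat.Prime 2) := ⟨Nat.prime_two⟩
  have hle : center S ≤ zpowers (f wZ) := fun c hc => hf.cent_le fun p _ => mem_center_iff.1 hc p
  haveI : Nontrivial S := ⟨⟨f wZ, 1, hf.wZ_ne⟩⟩
  haveI := hf.two.center_nontrivial
  have h : center S = zpowers (f wZ) := by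
    refine le_antisymm hle (zpowers_le.2 ?_)
    obtain ⟨⟨x, hx⟩, hx1⟩ := exists_ne (1 : center S)
    rcases hf.mem_zpowers_wZ (hle hx) with rfl | rfl
    · exact absurd rfl hx1
    · exact hx
  exact ⟨h, by rw [h, hf.wZ_card]⟩

/-- The normal elementary subgroups of order `16`. -/
theorem classify_four {V : Subgroup S} (hV : V ≤ f.range) (hn : ∀ p ∈ f.range, ∀ v ∈ V, p * v * p⁻¹ ∈ V)
    (hexp : Exp2 V) (h16 : Nat.card V = 16) : V = four f true ∨ V = four f false := by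
  classical
  have hbase : V ≤ base f := by
    intro v hv
    obtain ⟨a, b, t, rfl⟩ := exists_rep (hV hv)
    rcases flip_cases t with rfl | rfl
    · exact ⟨(a, b), rfl⟩
    exfalso
    have hc : ∀ u : DW, f (⟨(a, b), flip⟩ * u * (⟨(a, b), flip⟩ : DW)⁻¹ * u⁻¹) ∈ V := fun u => by
      rw [map_mul, map_mul, map_mul, map_inv, map_inv, mul_assoc (f _ * f u), mul_assoc (f _)]
      refine mul_mem hv ?_
      rw [← mul_assoc]
      exact hn _ ⟨u, rfl⟩ _ (inv_mem hv)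
    refine outside a b (hf.inj ?_)
    have h := hexp.comm (hc (SemidirectProduct.inl (sr 0, 1))) (hc (SemidirectProduct.inl (sr 1, 1)))
    simp only [map_mul] at h ⊢
    exact h
  set Vd := V.comap (ι f) with hVd
  have hcard : Nat.card Vd = 16 := by
    rw [← card_map_of_injective hf.ι_inj, hVd, map_comap_eq_self hbase, h16]
  have hinv : ∀ a b, (a, b) ∈ Vd → (a * a = 1 ∧ b * b = 1) ∧ (b, a) ∈ Vd := by
    intro a b hab
    have h1 : ι f ((a, b) * (a, b)) = ι f 1 := by rw [map_mul, map_one]; exact hexp _ hab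
    refine ⟨⟨congrArg Prod.fst (hf.ι_inj h1), congrArg Prod.snd (hf.ι_inj h1)⟩, ?_⟩
    show ι f (b, a) ∈ V
    rw [← wT_swap]
    exact hn _ ⟨_, rfl⟩ _ hab
  have hcomm : ∀ x y, x ∈ Vd → y ∈ Vd → x * y = y * x := fun x y hx hy =>
    hf.ι_inj (by rw [map_mul, map_mul]; exact hexp.comm hx hy)
  have hside : (∀ a b, (a, b) ∈ Vd → a ∈ Fs true) ∨ ∀ a b, (a, b) ∈ Vd → a ∈ Fs false := by
    by_cases h : ∀ a b, (a, b) ∈ Vd → a ∈ Fs true
    · exact Or.inl h
    push Not at h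
    obtain ⟨a, b, hab, ha⟩ := h
    exact Or.inr fun c d hcd => other_side a c (hinv a b hab).1.1 ha (hinv c d hcd).1.1
      (congrArg Prod.fst (hcomm (a, b) (c, d) hab hcd))
  have hfin : ∀ i, (∀ a b, (a, b) ∈ Vd → a ∈ Fs i) → V = four f i := by
    intro i hi
    have hle : Vd ≤ (Fs i).prod (Fs i) := fun x hx => ⟨hi x.1 x.2 hx, hi x.2 x.1 (hinv x.1 x.2 hx).2⟩
    have hle' : V ≤ four f i := by
      rw [← map_comap_eq_self hbase]
      exact map_mono hle
    exact eq_of_le_of_card_ge hle' (by rw [hf.card_four, h16])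
  rcases hside with h | h
  exacts [Or.inl (hfin _ h), Or.inr (hfin _ h)]

/-- An element trivial on the base modulo its centre, squaring into the wreath product, lies in it. -/
theorem trivial_mem {g : S} (hgg : g * g ∈ f.range)
    (hg : ∀ u : D × D, g * ι f u * g⁻¹ * (ι f u)⁻¹ ∈ zbase f) : g ∈ f.range := by
  by_contra hgP
  have hz : ∀ q ∈ base f, g * (q * q) * g⁻¹ = q * q := by
    rintro _ ⟨u, rfl⟩
    set q := ι f u
    set ζ := g * q * g⁻¹ * q⁻¹ with hζ
    have hζz : ζ ∈ zbase f := hg u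
    have hζ1 : ζ * ζ = 1 := by
      obtain ⟨⟨c, d⟩, ⟨hc, hd⟩, he⟩ := hζz
      rw [← he, ← map_mul, Prod.mk_mul_mk, (Zd_central c c hc).2, (Zd_central d d hd).2]
      exact map_one _
    calc g * (q * q) * g⁻¹ = (g * q * g⁻¹ * q⁻¹) * (q * (g * q * g⁻¹ * q⁻¹)) * q := by group
      _ = ζ * (q * ζ) * q := by rw [hζ]
      _ = ζ * (ζ * q) * q := by rw [zbase_cen ⟨u, rfl⟩ hζz]
      _ = _ := by rw [← mul_assoc, hζ1, one_mul]
  have hfix : ∀ r ∈ zbase f, g * r * g⁻¹ = r := by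
    have h1 : g * ι f (r 2, 1) * g⁻¹ = ι f (r 2, 1) := by
      have := hz _ ⟨(sr 0 * sr 1, 1), rfl⟩
      rwa [← map_mul, Prod.mk_mul_mk, noncomm.2, one_mul] at this
    have h2 : g * ι f (1, r 2) * g⁻¹ = ι f (1, r 2) := by
      have := hz _ ⟨(1, sr 0 * sr 1), rfl⟩
      rwa [← map_mul, Prod.mk_mul_mk, noncomm.2, one_mul] at this
    have h0 : g * ι f 1 * g⁻¹ = ι f 1 := by rw [map_one, mul_one, mul_inv_cancel]
    have h12 : g * ι f (r 2, r 2) * g⁻¹ = ι f (r 2, r 2) := by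
      rw [show ((r 2, r 2) : D × D) = (r 2, 1) * (1, r 2) from rfl, map_mul]
      rw [show g * (ι f (r 2, 1) * ι f (1, r 2)) * g⁻¹ = (g * ι f (r 2, 1) * g⁻¹) * (g * ι f (1, r 2) * g⁻¹) by group,
        h1, h2]
    rintro _ ⟨⟨c, d⟩, ⟨hc, hd⟩, rfl⟩
    rcases hc with rfl | rfl <;> rcases hd with rfl | rfl
    exacts [h0, h2, h1, h12]
  have hggR : g * g ∈ zbase f := by
    have hcen : ∀ u : D × D, g * g * ι f u = ι f u * (g * g) := by
      intro u
      refine conj_eq_iff.1 ?_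
      set q := ι f u
      set ζ := g * q * g⁻¹ * q⁻¹ with hζ
      have hζz : ζ ∈ zbase f := hg u
      have hζ1 : ζ * ζ = 1 := by
        obtain ⟨⟨c, d⟩, ⟨hc, hd⟩, he⟩ := hζz
        rw [← he, ← map_mul, Prod.mk_mul_mk, (Zd_central c c hc).2, (Zd_central d d hd).2]
        exact map_one _
      calc g * g * q * (g * g)⁻¹ = (g * (g * q * g⁻¹ * q⁻¹) * g⁻¹) * ((g * q * g⁻¹ * q⁻¹) * q) := by group
        _ = ζ * (ζ * q) := by rw [← hζ, hfix ζ hζz]
        _ = q := by rw [← mul_assoc, hζ1, one_mul]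
    obtain ⟨a, b, t, he⟩ := exists_rep hgg
    have key : ∀ u : D × D, (⟨(a, b), t⟩ : DW) * SemidirectProduct.inl u =
        SemidirectProduct.inl u * (⟨(a, b), t⟩ : DW) := fun u => hf.inj (by
      rw [map_mul, map_mul, ← he]; exact hcen u)
    obtain ⟨rfl, ha, hb⟩ := cent_base a b t (key _) (key _) (key _) (key _)
    rw [he]
    exact ⟨(a, b), ⟨ha, hb⟩, rfl⟩
  set G : Set S := (base f : Set S) ∪ {g} with hG
  have hbound := Seven.card_closure_le hf.rank (G := G) (R := zbase f)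
    (fun r hr => Subgroup.subset_closure (Or.inl (zbase_le hr))) (by
      rintro x (hx | hx) r hr
      · rw [zbase_cen hx hr, mul_inv_cancel_right]; exact hr
      · rw [Set.mem_singleton_iff.1 hx, hfix r hr]; exact hr) (by
      rintro x (hx | hx)
      · exact base_sq hx
      · rw [Set.mem_singleton_iff.1 hx]; exact hggR) (by
      rintro x (hx | hx) y (hy | hy)
      · exact base_comm hx hy
      · obtain ⟨u, rfl⟩ := hx
        rw [Set.mem_singleton_iff.1 hy,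
          show ι f u * g * (ι f u)⁻¹ * g⁻¹ = (g * ι f u * g⁻¹ * (ι f u)⁻¹)⁻¹ by group]
        exact inv_mem (hg u)
      · obtain ⟨u, rfl⟩ := hy
        rw [Set.mem_singleton_iff.1 hx]; exact hg u
      · rw [Set.mem_singleton_iff.1 hx, Set.mem_singleton_iff.1 hy, mul_inv_cancel_right, mul_inv_cancel]
        exact one_mem _)
  have hlt : base f < Subgroup.closure G := lt_of_le_not_ge (fun x hx => Subgroup.subset_closure (Or.inl hx))
    fun hh => hgP (base_le (hh (Subgroup.subset_closure (Or.inr rfl))))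
  have := two_mul_card_le hlt
  rw [hf.card_base] at this
  rw [hf.card_zbase] at hbound
  omega

theorem exists_sq_mem {T : Subgroup S} {g : S} (hg : g ∈ T) (hgP : g ∉ f.range) :
    ∃ g' ∈ T, g' ∉ f.range ∧ g' * g' ∈ f.range := by
  classical
  have hex : ∃ k, g ^ 2 ^ k ∈ f.range := by
    obtain ⟨k, hk⟩ := hf.two g
    exact ⟨k, hk ▸ one_mem _⟩
  have hk := Nat.find_spec hex
  rcases Nat.eq_zero_or_pos (Nat.find hex) with h0 | hpos
  · rw [h0, pow_zero, pow_one] at hk; exact absurd hk hgP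
  refine ⟨g ^ 2 ^ (Nat.find hex - 1), pow_mem hg _, Nat.find_min hex (Nat.sub_lt hpos one_pos), ?_⟩
  rw [← pow_two, ← pow_mul, ← pow_succ, Nat.sub_add_cancel hpos]
  exact hk

theorem conj_four {g : S} (hg : g ∈ normalizer (f.range : Set S)) (i : Bool) :
    (four f i).map (MulAut.conj g).toMonoidHom = four f true ∨
      (four f i).map (MulAut.conj g).toMonoidHom = four f false := by
  refine hf.classify_four ?_ ?_ ?_ ?_
  · rintro _ ⟨v, hv, rfl⟩
    exact (mem_normalizer_iff.1 hg v).1 (base_le (four_le i hv))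
  · rintro p hp _ ⟨v, hv, rfl⟩
    have hp' : g⁻¹ * p * g ∈ f.range := by
      have := (mem_normalizer_iff.1 (inv_mem hg) p).1 hp
      rwa [inv_inv] at this
    refine ⟨_, four_normal hp' hv, ?_⟩
    show g * (g⁻¹ * p * g * v * (g⁻¹ * p * g)⁻¹) * g⁻¹ = p * (g * v * g⁻¹) * p⁻¹
    group
  · rintro _ ⟨v, hv, rfl⟩
    show g * v * g⁻¹ * (g * v * g⁻¹) = 1
    rw [show g * v * g⁻¹ * (g * v * g⁻¹) = g * (v * v) * g⁻¹ by group, hf.four_exp i v hv]
    group
  · rw [card_map_of_injective (MulAut.conj g).injective, hf.card_four]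

/-- The stabilizer of a normal `E₁₆`. -/
theorem stab {g : S} (hgN : g ∈ normalizer (f.range : Set S))
    (hg1 : (four f true).map (MulAut.conj g).toMonoidHom = four f true) : g ∈ f.range := by
  classical
  by_contra hgP
  set T : Subgroup S := normalizer (f.range : Set S) ⊓ normalizer (four f true : Set S) with hT
  have hgT : g ∈ T := by
    refine ⟨hgN, mem_normalizer_iff.2 fun v => ⟨fun hv => hg1 ▸ ⟨v, hv, rfl⟩, fun hv => ?_⟩⟩
    rw [← hg1] at hv
    obtain ⟨v', hv', e⟩ := hv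
    rwa [← (MulAut.conj g).injective e]
  obtain ⟨g1, hg1T, hg1P, hg1sq⟩ := hf.exists_sq_mem hgT hgP
  -- `g1` also fixes the other one
  have hmap1 : (four f true).map (MulAut.conj g1).toMonoidHom = four f true := by
    refine eq_of_le_of_card_ge ?_ (by rw [card_map_of_injective (MulAut.conj g1).injective])
    rintro _ ⟨v, hv, rfl⟩
    exact (mem_normalizer_iff.1 hg1T.2 v).1 hv
  have hmap2 : (four f false).map (MulAut.conj g1).toMonoidHom = four f false := by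
    rcases hf.conj_four hg1T.1 false with e | e
    · exact absurd (map_injective (MulAut.conj g1).injective (hmap1.trans e.symm)) hf.four_ne
    · exact e
  have himg : ∀ (i : Bool) (u : D × D), u ∈ (Fs i).prod (Fs i) →
      ∃ u' ∈ (Fs i).prod (Fs i), ι f u' = g1 * ι f u * g1⁻¹ := by
    intro i u hu
    have hm : g1 * ι f u * g1⁻¹ ∈ four f i := by
      have : g1 * ι f u * g1⁻¹ ∈ (four f i).map (MulAut.conj g1).toMonoidHom := ⟨_, ⟨u, hu, rfl⟩, rfl⟩
      cases i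
      · rwa [hmap2] at this
      · rwa [hmap1] at this
    exact hm
  obtain ⟨hx, hy, -, -⟩ := mem_gen
  obtain ⟨⟨a1, b1⟩, hA, hAe⟩ := himg true (sr 0, 1) ⟨hx, one_mem _⟩
  obtain ⟨⟨a2, b2⟩, hB, hBe⟩ := himg true (1, sr 0) ⟨one_mem _, hx⟩
  obtain ⟨⟨c1, d1⟩, hC, hCe⟩ := himg false (sr 1, 1) ⟨hy, one_mem _⟩
  obtain ⟨⟨c2, d2⟩, hE, hEe⟩ := himg false (1, sr 1) ⟨one_mem _, hy⟩
  have hcj : ∀ u v : D × D, g1 * ι f u * g1⁻¹ * (g1 * ι f v * g1⁻¹) = g1 * ι f (u * v) * g1⁻¹ := fun u v => by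
    rw [map_mul]; group
  have hcomm : ∀ u v u' v' : D × D, ι f u' = g1 * ι f u * g1⁻¹ → ι f v' = g1 * ι f v * g1⁻¹ →
      (u' * v' = v' * u' ↔ u * v = v * u) := by
    intro u v u' v' hu hv
    rw [← hf.ι_inj.eq_iff, map_mul, map_mul, hu, hv, hcj, hcj, mul_left_inj, mul_right_inj, hf.ι_inj.eq_iff]
  have hnc : ∀ x y : D, x ∈ Zd → y ∈ Zd → ∀ z : D × D, (x, y) * z = z * (x, y) := fun x y hx hy z =>
    Prod.ext (Zd_central x z.1 hx).1 (Zd_central y z.2 hy).1
  have hxy : ¬ (((sr 0, 1) : D × D) * (sr 1, 1) = (sr 1, 1) * (sr 0, 1)) := fun e => noncomm.1 (congrArg Prod.fst e)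
  have hxy' : ¬ (((1, sr 0) : D × D) * (1, sr 1) = (1, sr 1) * (1, sr 0)) := fun e => noncomm.1 (congrArg Prod.snd e)
  have hA' : ¬ (a1 ∈ Zd ∧ b1 ∈ Zd) := fun h => hxy ((hcomm _ _ _ _ hAe hCe).1 (hnc a1 b1 h.1 h.2 _))
  have hC' : ¬ (c1 ∈ Zd ∧ d1 ∈ Zd) := fun h => hxy ((hcomm _ _ _ _ hAe hCe).1 (hnc c1 d1 h.1 h.2 _).symm)
  have hB' : ¬ (a2 ∈ Zd ∧ b2 ∈ Zd) := fun h => hxy' ((hcomm _ _ _ _ hBe hEe).1 (hnc a2 b2 h.1 h.2 _))
  have hE' : ¬ (c2 ∈ Zd ∧ d2 ∈ Zd) := fun h => hxy' ((hcomm _ _ _ _ hBe hEe).1 (hnc c2 d2 h.1 h.2 _).symm)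
  have h12 := (hcomm _ _ _ _ hAe hEe).2 (Prod.ext (by show sr 0 * 1 = 1 * sr 0; simp) (by show 1 * sr 1 = sr 1 * 1; simp))
  have h21 := (hcomm _ _ _ _ hBe hCe).2 (Prod.ext (by show 1 * sr 1 = sr 1 * 1; simp) (by show sr 0 * 1 = 1 * sr 0; simp))
  have o1 := opposite a1 b1 c2 d2 hA.1 hA.2 hE.1 hE.2 (congrArg Prod.fst h12) (congrArg Prod.snd h12) hA' hE'
  have o2 := opposite a2 b2 c1 d1 hB.1 hB.2 hC.1 hC.2 (congrArg Prod.fst h21) (congrArg Prod.snd h21) hB' hC'
  -- extend from the generators to the base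
  have hext : ∀ g' : S, (∀ u ∈ [((sr 0, 1) : D × D), (sr 1, 1), (1, sr 0), (1, sr 1)],
      g' * ι f u * g'⁻¹ * (ι f u)⁻¹ ∈ zbase f) → ∀ u : D × D, g' * ι f u * g'⁻¹ * (ι f u)⁻¹ ∈ zbase f := by
    intro g' hgen
    have hmul : ∀ u v, g' * ι f u * g'⁻¹ * (ι f u)⁻¹ ∈ zbase f → g' * ι f v * g'⁻¹ * (ι f v)⁻¹ ∈ zbase f →
        g' * ι f (u * v) * g'⁻¹ * (ι f (u * v))⁻¹ ∈ zbase f := by
      intro u v hu hv
      rw [show g' * ι f (u * v) * g'⁻¹ * (ι f (u * v))⁻¹ = (g' * ι f u * g'⁻¹ * (ι f u)⁻¹) *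
          (ι f u * (g' * ι f v * g'⁻¹ * (ι f v)⁻¹) * (ι f u)⁻¹) by rw [map_mul]; group,
        zbase_cen ⟨u, rfl⟩ hv, mul_inv_cancel_right]
      exact mul_mem hu hv
    have h1 : g' * ι f 1 * g'⁻¹ * (ι f 1)⁻¹ ∈ zbase f := by
      rw [map_one, mul_one, mul_inv_cancel, one_mul, inv_one]; exact one_mem _
    have hA := hgen (sr 0, 1) (by simp)
    have hB := hgen (sr 1, 1) (by simp)
    have hC := hgen (1, sr 0) (by simp)
    have hE := hgen (1, sr 1) (by simp)
    have hk1 : ∀ x y : D, ((x * y, 1) : D × D) = (x, 1) * (y, 1) ∧ ((1, x * y) : D × D) = (1, x) * (1, y) :=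
      fun x y => ⟨by rw [Prod.mk_mul_mk, one_mul], by rw [Prod.mk_mul_mk, one_mul]⟩
    have hone : ∀ a : D, g' * ι f (a, 1) * g'⁻¹ * (ι f (a, 1))⁻¹ ∈ zbase f ∧
        g' * ι f (1, a) * g'⁻¹ * (ι f (1, a))⁻¹ ∈ zbase f := by
      intro a
      rcases nine a with rfl | rfl | rfl | rfl | rfl | rfl | rfl | rfl
      · exact ⟨h1, h1⟩
      · exact ⟨hA, hC⟩
      · exact ⟨hB, hE⟩
      · rw [(hk1 _ _).1, (hk1 _ _).2]; exact ⟨hmul _ _ hA hB, hmul _ _ hC hE⟩
      · rw [(hk1 _ _).1, (hk1 _ _).2]; exact ⟨hmul _ _ hB hA, hmul _ _ hE hC⟩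
      · rw [(hk1 _ _).1, (hk1 _ _).2, (hk1 (sr 0) (sr 1)).1, (hk1 (sr 0) (sr 1)).2]
        exact ⟨hmul _ _ (hmul _ _ hA hB) hA, hmul _ _ (hmul _ _ hC hE) hC⟩
      · rw [(hk1 _ _).1, (hk1 _ _).2, (hk1 (sr 1) (sr 0)).1, (hk1 (sr 1) (sr 0)).2]
        exact ⟨hmul _ _ (hmul _ _ hB hA) hB, hmul _ _ (hmul _ _ hE hC) hE⟩
      · rw [(hk1 _ _).1, (hk1 _ _).2, (hk1 (sr 0) (sr 1)).1, (hk1 (sr 0) (sr 1)).2]
        exact ⟨hmul _ _ (hmul _ _ hA hB) (hmul _ _ hA hB), hmul _ _ (hmul _ _ hC hE) (hmul _ _ hC hE)⟩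
    rintro ⟨a, b⟩
    rw [show ((a, b) : D × D) = (a, 1) * (1, b) by rw [Prod.mk_mul_mk, mul_one, one_mul]]
    exact hmul _ _ (hone a).1 (hone b).2
  have hz2 : ∀ u v : D × D, u * v⁻¹ ∈ Zd.prod Zd → ι f u * (ι f v)⁻¹ ∈ zbase f := fun u v h => by
    rw [← map_inv, ← map_mul]; exact mem_map_of_mem _ h
  rcases o1 with ⟨p1, p2, p3, p4⟩ | ⟨p1, p2, p3, p4⟩ <;> rcases o2 with ⟨q1, q2, q3, q4⟩ | ⟨q1, q2, q3, q4⟩
  · exact hxy ((hcomm _ _ _ _ hAe hCe).1 (Prod.ext (Zd_central c1 a1 q3).1.symm (Zd_central b1 d1 p2).1))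
  · refine hg1P (hf.trivial_mem hg1sq (hext g1 fun u hu => ?_))
    simp only [List.mem_cons, List.not_mem_nil, or_false] at hu
    rcases hu with rfl | rfl | rfl | rfl
    · rw [← hAe]; exact hz2 _ _ ⟨p1, by simpa using p2⟩
    · rw [← hCe]; exact hz2 _ _ ⟨q3, by simpa using q4⟩
    · rw [← hBe]; exact hz2 _ _ ⟨by simpa using q1, q2⟩
    · rw [← hEe]; exact hz2 _ _ ⟨by simpa using p3, p4⟩
  · -- compose with the exchange
    have hw : f wT ∈ f.range := ⟨_, rfl⟩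
    have hsq : f wT * g1 * (f wT * g1) ∈ f.range := by
      rw [show f wT * g1 * (f wT * g1) = f wT * (g1 * f wT * g1⁻¹) * (g1 * g1) by group]
      exact mul_mem (mul_mem hw ((mem_normalizer_iff.1 hg1T.1 _).1 hw)) hg1sq
    have hkey := hf.trivial_mem hsq (hext (f wT * g1) fun u hu => ?_)
    · exact hg1P (by simpa using mul_mem (inv_mem hw) hkey)
    have hswap : ∀ (u : D × D) (a b : D), ι f (a, b) = g1 * ι f u * g1⁻¹ →
        f wT * g1 * ι f u * (f wT * g1)⁻¹ = ι f (b, a) := fun u a b he => by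
      rw [show f wT * g1 * ι f u * (f wT * g1)⁻¹ = f wT * (g1 * ι f u * g1⁻¹) * (f wT)⁻¹ by group, ← he,
        wT_swap]
    simp only [List.mem_cons, List.not_mem_nil, or_false] at hu
    rcases hu with rfl | rfl | rfl | rfl
    · rw [hswap _ _ _ hAe]; exact hz2 _ _ ⟨p2, by simpa using p1⟩
    · rw [hswap _ _ _ hCe]; exact hz2 _ _ ⟨q4, by simpa using q3⟩
    · rw [hswap _ _ _ hBe]; exact hz2 _ _ ⟨by simpa using q2, q1⟩
    · rw [hswap _ _ _ hEe]; exact hz2 _ _ ⟨by simpa using p4, p3⟩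
  · exact hxy ((hcomm _ _ _ _ hAe hCe).1 (Prod.ext (Zd_central a1 c1 p1).1 (Zd_central d1 b1 q4).1.symm))

theorem stab' {g : S} (hgN : g ∈ normalizer (f.range : Set S)) {i : Bool}
    (hg : (four f i).map (MulAut.conj g).toMonoidHom = four f i) : g ∈ f.range := by
  cases i
  · refine hf.stab hgN ?_
    rcases hf.conj_four hgN true with e | e
    · exact e
    · exact absurd (map_injective (MulAut.conj g).injective (e.trans hg.symm)) hf.four_ne
  · exact hf.stab hgN hg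

theorem exists_normalizer_gt {T : Subgroup S} (hPT : f.range < T) :
    ∃ g ∈ T, g ∈ normalizer (f.range : Set S) ∧ g ∉ f.range := by
  haveI : Fact (Nat.Prime 2) := ⟨Nat.prime_two⟩
  haveI := (hf.two.to_subgroup T).isNilpotent
  have hne : f.range.subgroupOf T < ⊤ := lt_top_iff_ne_top.2 fun e =>
    hPT.not_ge (subgroupOf_eq_top.1 e)
  obtain ⟨g, hgN, hgP⟩ := SetLike.exists_of_lt (Group.normalizerCondition_of_isNilpotent _ hne)
  refine ⟨g, g.2, mem_normalizer_iff.2 fun v => ?_, hgP⟩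
  constructor
  · intro hv
    exact (mem_normalizer_iff.1 hgN ⟨v, hPT.le hv⟩).1 hv
  · intro hv
    have hvT : v ∈ T := by
      have := mul_mem (mul_mem (inv_mem g.2) (hPT.le hv)) g.2
      rwa [show (g : S)⁻¹ * ((g : S) * v * (g : S)⁻¹) * g = v by group] at this
    exact (mem_normalizer_iff.1 hgN ⟨v, hvT⟩).2 hv

theorem normalizer_four {V : Subgroup S} (hV : V ≤ f.range) (hn : ∀ p ∈ f.range, ∀ v ∈ V, p * v * p⁻¹ ∈ V)
    (hexp : Exp2 V) (h16 : Nat.card V = 16) : normalizer (V : Set S) = f.range := by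
  have hle : f.range ≤ normalizer (V : Set S) := fun p hp => mem_normalizer_iff.2 fun v =>
    ⟨hn p hp v, fun hv => by
      have := hn p⁻¹ (inv_mem hp) _ hv
      rwa [show p⁻¹ * (p * v * p⁻¹) * p⁻¹⁻¹ = v by group] at this⟩
  by_contra hne
  obtain ⟨g, hgV, hgN, hgP⟩ := hf.exists_normalizer_gt (lt_of_le_of_ne hle (Ne.symm hne))
  have hmap : V.map (MulAut.conj g).toMonoidHom = V := by
    refine eq_of_le_of_card_ge ?_ (by rw [card_map_of_injective (MulAut.conj g).injective])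
    rintro _ ⟨v, hv, rfl⟩
    exact (mem_normalizer_iff.1 hgV v).1 hv
  rcases hf.classify_four hV hn hexp h16 with rfl | rfl
  · exact hgP (hf.stab' hgN hmap)
  · exact hgP (hf.stab' hgN hmap)

theorem relIndex_normalizer (hP : f.range ≠ ⊤) :
    f.range.relIndex (normalizer (f.range : Set S)) = 2 := by
  obtain ⟨g0, -, hg0N, hg0P⟩ := hf.exists_normalizer_gt (lt_top_iff_ne_top.2 hP)
  have hmove : ∀ g ∈ normalizer (f.range : Set S), g ∉ f.range →
      (four f true).map (MulAut.conj g).toMonoidHom = four f false := fun g hg hgP =>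
    (hf.conj_four hg true).resolve_left fun e => hgP (hf.stab hg e)
  rw [relIndex, index_eq_two_iff]
  refine ⟨⟨g0, hg0N⟩, fun b => ?_⟩
  simp only [mem_subgroupOf, Subgroup.coe_mul, xor_def]
  by_cases hb : (b : S) ∈ f.range
  · exact Or.inr ⟨hb, fun hm => hg0P (((f.range).mul_mem_cancel_left hb).1 hm)⟩
  refine Or.inl ⟨?_, hb⟩
  refine hf.stab (mul_mem b.2 hg0N) ?_
  have h0 := hmove g0 hg0N hg0P
  rcases hf.conj_four b.2 false with e | e
  · have hcomp : (MulAut.conj ((b : S) * g0)).toMonoidHom =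
        (MulAut.conj (b : S)).toMonoidHom.comp (MulAut.conj g0).toMonoidHom := by
      ext x; simp [mul_assoc]
    rw [hcomp, ← Subgroup.map_map, h0, e]
  · exfalso
    exact hf.four_ne (map_injective (MulAut.conj (b : S)).injective ((hmove b b.2 hb).trans e.symm))

end Setup

end CfsgLib.SRank.WreathNorm
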