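import Cfsg.Agent.Lib.SRank.WreathNorm

/-!
The normalizer of `D₈ ≀ 2` modulo the centre is again `D₈ ≀ 2`: action on eight points.
-/

set_option autoImplicit false
set_option linter.style.haveILetI false

namespace CfsgLib.SRank.WreathNorm

open Subgroup DihedralGroup CfsgLib.Amalgam.DihWr CfsgLib.SRank.WreathModel

universe u

variable {S : Type u} [Group S] [Finite S] {f : DW →* S}

theorem Setup.exists_quot_iso (hf : Setup f) (hP : f.range ≠ ⊤)
    [((center S).subgroupOf (normalizer (f.range : Set S))).Normal] :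
    ∃ T : Sylow 2 (Equiv.Perm (Fin 8)),
      Nonempty (↥(normalizer (f.range : Set S)) ⧸ (center S).subgroupOf (normalizer (f.range : Set S)) ≃*
        ↥(T : Subgroup (Equiv.Perm (Fin 8)))) := by
  classical
  haveI : Fact (Nat.Prime 2) := ⟨Nat.prime_two⟩
  set N : Subgroup S := normalizer (f.range : Set S) with hN
  have hPN : f.range ≤ N := le_normalizer
  obtain ⟨hcen, hcard2⟩ := hf.center_eq
  set Pn := f.range.subgroupOf N with hPn
  haveI hPnn : Pn.Normal := ⟨fun x hx g => (mem_normalizer_iff.1 g.2 (x : S)).1 hx⟩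
  set H0 := (centralizer ({f wT} : Set S)).subgroupOf N with hH0
  set Zn := (center S).subgroupOf N with hZn
  have hN256 : Nat.card N = 256 := by
    have h1 := Pn.card_mul_index
    have h2 : Pn.index = 2 := hf.relIndex_normalizer hP
    rw [h2, hPn, Nat.card_congr (subgroupOfEquivOfLe hPN).toEquiv, hf.card_range] at h1
    omega
  have hsup : H0 ⊔ Pn = ⊤ := by
    rw [eq_top_iff]
    rintro ⟨n, hn⟩ -
    set w' := n * f wT * n⁻¹ with hw'
    obtain ⟨a, b, t, he⟩ := exists_rep ((mem_normalizer_iff.1 hn _).1 (⟨_, rfl⟩ : f wT ∈ f.range))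
    rcases flip_cases t with rfl | rfl
    · exfalso
      have hm : w' ∈ (base f).map (MulAut.conj n).toMonoidHom := by
        have hbase : (base f).map (MulAut.conj n).toMonoidHom = base f := by
          rw [← four_sup, Subgroup.map_sup]
          rcases hf.conj_four hn true with e1 | e1 <;> rcases hf.conj_four hn false with e2 | e2
          · exact absurd (map_injective (MulAut.conj n).injective (e1.trans e2.symm)) hf.four_ne
          · rw [e1, e2]
          · rw [e1, e2, sup_comm]
          · exact absurd (map_injective (MulAut.conj n).injective (e1.trans e2.symm)) hf.four_ne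
        rw [hbase]
        exact ⟨(a, b), he.symm⟩
      obtain ⟨v, ⟨u, hu⟩, hv⟩ := hm
      have hvw : v = f wT := (MulAut.conj n).injective hv
      have h1 : (SemidirectProduct.inl u : DW) = wT := hf.inj (hu.trans hvw)
      obtain ⟨h2, h3⟩ := wT_right
      rw [← h1, SemidirectProduct.right_inl] at h2
      exact h3 h2.symm
    have hsq : (⟨(a, b), flip⟩ : DW) * ⟨(a, b), flip⟩ = 1 := hf.inj (by
      rw [map_mul, map_one, ← he, show n * f wT * n⁻¹ * (n * f wT * n⁻¹) = n * (f wT * f wT) * n⁻¹ by group,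
        ← map_mul, wT_sq, map_one, mul_one, mul_inv_cancel])
    obtain ⟨c, hc⟩ := outside_conj a b hsq
    set p := f (SemidirectProduct.inl (c, 1)) with hp
    have hpw : p * f wT * p⁻¹ = n * f wT * n⁻¹ := by
      rw [hp, ← map_inv, ← map_mul, ← map_mul, hc, he]
    have hpP : p ∈ f.range := ⟨_, rfl⟩
    have hmem : (⟨p⁻¹ * n, mul_mem (inv_mem (hPN hpP)) hn⟩ : N) ∈ H0 := by
      show p⁻¹ * n ∈ centralizer ({f wT} : Set S)
      refine mem_centralizer_singleton_iff.2 ?_
      calc p⁻¹ * n * f wT = p⁻¹ * (n * f wT * n⁻¹) * n := by group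
        _ = p⁻¹ * (p * f wT * p⁻¹) * n := by rw [hpw]
        _ = f wT * (p⁻¹ * n) := by group
    rw [show (⟨n, hn⟩ : N) = (⟨p, hPN hpP⟩ : N) * ⟨p⁻¹ * n, mul_mem (inv_mem (hPN hpP)) hn⟩ from
      Subtype.ext (mul_inv_cancel_left p n).symm]
    exact mul_mem (mem_sup_right hpP) (mem_sup_left hmem)
  have hK : Nat.card (Pn ⊓ H0 : Subgroup N) = 16 := by
    have hmem : ∀ (a : D) (t : Multiplicative (ZMod 2)),
        (⟨f ⟨(a, a), t⟩, hPN ⟨_, rfl⟩⟩ : N) ∈ Pn ⊓ H0 := fun a t =>
      ⟨(⟨_, rfl⟩ : f ⟨(a, a), t⟩ ∈ f.range), mem_centralizer_singleton_iff.2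
        (by show f ⟨(a, a), t⟩ * f wT = f wT * f ⟨(a, a), t⟩; rw [← map_mul, ← map_mul, (cent_wT a a t).2 rfl])⟩
    rw [← Nat.card_congr (Equiv.ofBijective
      (fun x : D × Multiplicative (ZMod 2) => (⟨_, hmem x.1 x.2⟩ : (Pn ⊓ H0 : Subgroup N))) ⟨?_, ?_⟩),
      Nat.card_prod, DihedralGroup.nat_card]
    · simp
    · intro x y h
      have h1 : (⟨(x.1, x.1), x.2⟩ : DW) = ⟨(y.1, y.1), y.2⟩ :=
        hf.inj (congrArg (fun z : (Pn ⊓ H0 : Subgroup N) => ((z : N) : S)) h)
      exact Prod.ext (congrArg (fun z : DW => z.left.1) h1) (congrArg SemidirectProduct.right h1)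
    · rintro ⟨⟨v, hv⟩, hvP, hvC⟩
      obtain ⟨a, b, t, rfl⟩ := exists_rep (show v ∈ f.range from hvP)
      have hab := (cent_wT a b t).1 (hf.inj (by
        rw [map_mul, map_mul]; exact mem_centralizer_singleton_iff.1 hvC))
      subst hab
      exact ⟨(a, t), rfl⟩
  have hH32 : Nat.card H0 = 32 := by
    have h1 : Nat.card (H0 ⊔ Pn : Subgroup N) * Nat.card (Pn ⊓ H0 : Subgroup N) = Nat.card H0 * Nat.card Pn := by
      have e : ∀ A B : Subgroup N, A ≤ B → Nat.card A * A.relIndex B = Nat.card B := fun A B h => by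
        rw [← relIndex_bot_left, ← relIndex_bot_left, relIndex_mul_relIndex ⊥ A B bot_le h]
      rw [← e Pn (H0 ⊔ Pn) le_sup_right, ← e (Pn ⊓ H0) H0 inf_le_right,
        inf_relIndex_right, relIndex_sup_right]
      ring
    rw [hsup, card_top, hN256, hK, hPn, Nat.card_congr (subgroupOfEquivOfLe hPN).toEquiv, hf.card_range] at h1
    omega
  have hcore : H0.normalCore = Zn := by
    refine le_antisymm ?_ (normal_le_normalCore.2 fun x hx =>
      mem_centralizer_singleton_iff.2 (mem_center_iff.1 hx (f wT)).symm)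
    set C := H0.normalCore with hC
    have hCw : ∀ c ∈ C, (c : S) * f wT = f wT * (c : S) := fun c hc =>
      mem_centralizer_singleton_iff.1 (H0.normalCore_le hc)
    have hcomm : ∀ c ∈ C, ∀ n : N, c * n * c⁻¹ * n⁻¹ ∈ C := fun c hc n => by
      rw [mul_assoc c n, mul_assoc c]
      exact mul_mem hc (Normal.conj_mem H0.normalCore_normal _ (inv_mem hc) n)
    have hin : ∀ c ∈ C, (c : S) ∈ f.range → c ∈ Zn := by
      intro c hc hcP
      obtain ⟨a, b, t, he⟩ := exists_rep hcP
      have hab := (cent_wT a b t).1 (hf.inj (by rw [map_mul, map_mul, ← he]; exact hCw c hc))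
      subst hab
      let nx : N := ⟨f (SemidirectProduct.inl (sr 0, 1)), hPN ⟨_, rfl⟩⟩
      let ny : N := ⟨f (SemidirectProduct.inl (sr 1, 1)), hPN ⟨_, rfl⟩⟩
      have h1 := hCw _ (hcomm c hc nx)
      have h2 := hCw _ (hcomm c hc ny)
      have h3 := hCw _ (hcomm _ (hcomm c hc nx) ny)
      simp only [nx, ny, Subgroup.coe_mul, Subgroup.coe_inv, he, ← map_mul, ← map_inv] at h1 h2 h3
      show (c : S) ∈ center S
      rw [hcen, he]
      rcases core_elim a t (hf.inj h1) (hf.inj h2) (hf.inj h3) with e | e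
      · rw [e, map_one]; exact one_mem _
      · rw [e]; exact mem_zpowers _
    intro c hc
    refine hin c hc (hf.stab c.2 ?_)
    refine eq_of_le_of_card_ge ?_ (by rw [card_map_of_injective (MulAut.conj (c : S)).injective])
    rintro _ ⟨v, hv, rfl⟩
    have hvP : v ∈ f.range := base_le (four_le true hv)
    set d := (c : S) * v * (c : S)⁻¹ * v⁻¹ with hd
    have hdC := hcomm c hc ⟨v, hPN hvP⟩
    have hdP : d ∈ f.range := mul_mem ((mem_normalizer_iff.1 c.2 v).1 hvP) (inv_mem hvP)
    have hdZ : d ∈ zpowers (f wZ) := by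
      rw [← hcen]; exact hin _ hdC hdP
    have hdV : d ∈ four f true := zpowers_le.2 (show f wZ ∈ four f true from
      ⟨(r 2, r 2), ⟨Zd_le true _ (Or.inr rfl), Zd_le true _ (Or.inr rfl)⟩, rfl⟩) hdZ
    show (c : S) * v * (c : S)⁻¹ ∈ four f true
    simpa [hd] using mul_mem hdV hv
  -- the action
  have hidx : Nat.card (N ⧸ H0) = 8 := by
    have h1 := H0.card_mul_index
    rw [hN256, hH32, index_eq_card] at h1
    omega
  let e8 : (N ⧸ H0) ≃ Fin 8 := Finite.equivFinOfCardEq hidx
  let θ : N →* Equiv.Perm (Fin 8) :=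
    (e8.permCongrHom.toMonoidHom).comp (MulAction.toPermHom N (N ⧸ H0))
  have hker : θ.ker = Zn := by
    rw [← hcore, normalCore_eq_ker]
    ext x
    simp only [θ, MonoidHom.mem_ker, MonoidHom.comp_apply, MulEquiv.coe_toMonoidHom, EmbeddingLike.map_eq_one_iff]
  have hrange : Nat.card θ.range = 128 := by
    have h1 := θ.ker.card_mul_index
    rw [index_ker, hN256, hker, hZn,
      Nat.card_congr (subgroupOfEquivOfLe (show center S ≤ N from hcen ▸ zpowers_le.2 (hPN ⟨wZ, rfl⟩))).toEquiv,
      hcard2] at h1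
    omega
  have hfact : (Nat.card (Equiv.Perm (Fin 8))).factorization 2 = 7 := by
    rw [Nat.card_perm, Nat.card_fin, show Nat.factorial 8 = 2 ^ 7 * 315 from rfl,
      Nat.factorization_mul (by norm_num) (by norm_num), Finsupp.add_apply, Nat.factorization_pow,
      Finsupp.smul_apply, Nat.prime_two.factorization_self, Nat.factorization_eq_zero_of_not_dvd (by norm_num)]
    rfl
  refine ⟨Sylow.ofCard θ.range (by rw [hrange, hfact]; norm_num), ⟨?_⟩⟩
  exact (QuotientGroup.quotientMulEquivOfEq hker.symm).trans (QuotientGroup.quotientKerEquivRange θ)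

end CfsgLib.SRank.WreathNorm
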